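import Mathlib
import Groth.Prelude.Def_MeroSh

/-!
# `K_X(U)` is the total ring of fractions of `O_X(U)` for `U` affine in a locally Noetherian scheme

Helper lemmas on the prelude's sheaf of meromorphic functions `Mero.kmod`:
* `H16Mero.exists_ne_zero_kill` : an ideal of zero divisors in a Noetherian ring is killed by a nonzero element;
* `H16Mero.kill` : a section of `K_X` over an affine open `U` vanishing on `D(h)` is killed by a power of `h`;
* `H16Mero.fracOn` : near each point of `U`, a section of `K_X(U)` is a fraction `N / D` of global sections with `D`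
  regular near the point;
* `H16Mero.isLocalization_kmod` : `K_X(U) = Q(O_X(U))`.
-/

set_option autoImplicit false
universe u
open CategoryTheory AlgebraicGeometry TopologicalSpace Opposite

namespace H16Mero

open Mero

variable {X : Scheme.{u}}

/-- An ideal of a Noetherian ring consisting of zero divisors is annihilated by a single nonzero element. -/
theorem exists_ne_zero_kill {A : Type*} [CommRing A] [IsNoetherianRing A] (I : Ideal A)
    (hI : ∀ s ∈ I, s ∉ nonZeroDivisors A) : ∃ z : A, z ≠ 0 ∧ ∀ b ∈ I, b * z = 0 := by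
  classical
  have hfin : (associatedPrimes A A).Finite := associatedPrimes.finite A A
  have hsub : (I : Set A) ⊆ ⋃ p ∈ (hfin.toFinset : Set (Ideal A)), ((id p : Ideal A) : Set A) := by
    intro s hs
    have h1 : s ∈ ((nonZeroDivisors A : Set A))ᶜ := hI s hs
    rw [← biUnion_associatedPrimes_eq_compl_nonZeroDivisors] at h1
    simpa using h1
  obtain ⟨p, hp, hIp⟩ := (Ideal.subset_union_prime (s := hfin.toFinset) (f := id) ⊥ ⊥
    (fun i hi _ _ => ((hfin.mem_toFinset.mp hi) : IsAssociatedPrime i A).isPrime)).mp hsub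
  have hp' : IsAssociatedPrime p A := hfin.mem_toFinset.mp hp
  obtain ⟨hprime, z, hz⟩ := isAssociatedPrime_iff.mp hp'
  refine ⟨z, ?_, fun b hb => ?_⟩
  · rintro rfl
    apply hprime.ne_top
    rw [hz]
    ext r
    simp [Submodule.mem_colon_singleton]
  · have h2 : b ∈ Submodule.colon (⊥ : Submodule A A) {z} := hz ▸ hIp hb
    rw [Submodule.mem_colon_singleton, Submodule.mem_bot, smul_eq_mul] at h2
    exact h2

/-- Local form of `kill`: near every point of `U`, some power of `h` kills `g`. -/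
theorem local_kill {U : X.Opens} (h : Γ(X, U)) (g : Γ(Mero.kmod X, U))
    (hg : ∀ (y : X) (hyU : y ∈ U), y ∈ X.basicOpen h → g.1 ⟨y, hyU⟩ = 0) (x : X) (hxU : x ∈ U) :
    ∃ (V : X.Opens) (_ : x ∈ V) (n : ℕ), ∀ (y : X) (_ : y ∈ V) (hyU : y ∈ U) (m : ℕ), n ≤ m →
      (Mero.toK X U (h ^ m)).1 ⟨y, hyU⟩ * g.1 ⟨y, hyU⟩ = 0 := by
  obtain ⟨V0, hxV0, i0, a0, b0, w0⟩ := g.2 ⟨x, hxU⟩
  obtain ⟨_, ⟨V, hV, rfl⟩, hxV, hVV0⟩ :=
    X.isBasis_affineOpens.exists_subset_of_mem_open hxV0 V0.isOpen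
  have hVV0' : V ≤ V0 := hVV0
  have hVU : V ≤ U := hVV0'.trans i0.le
  let a : Γ(X, V) := X.presheaf.map (homOfLE hVV0').op a0
  let b : Mero.regSub X V := ⟨X.presheaf.map (homOfLE hVV0').op b0.1,
    Mero.regSub_res (homOfLE hVV0') b0.2⟩
  have w : ∀ (y : X) (hy : y ∈ V), g.1 ⟨y, hVU hy⟩ =
      LocalizedModule.mk (X.presheaf.germ V y hy a) (Mero.regGerm ⟨y, hy⟩ b) := by
    intro y hy
    have := w0 ⟨y, hVV0' hy⟩
    dsimp only at this
    refine this.trans (Mero.mk_congr ?_ ?_)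
    · exact (TopCat.Presheaf.germ_res_apply X.presheaf (homOfLE hVV0') y hy a0).symm
    · exact (TopCat.Presheaf.germ_res_apply X.presheaf (homOfLE hVV0') y hy b0.1).symm
  let hV' : Γ(X, V) := X.presheaf.map (homOfLE hVU).op h
  have hbo : X.basicOpen hV' = V ⊓ X.basicOpen h := Scheme.basicOpen_res X _ _
  have ha0 : X.presheaf.map (homOfLE (X.basicOpen_le hV')).op a = 0 := by
    refine TopCat.Presheaf.section_ext X.sheaf _ _ _ fun y hy => ?_
    have hy' : y ∈ V ⊓ X.basicOpen h := hbo ▸ hy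
    have hyV : y ∈ V := hy'.1
    change X.presheaf.germ (X.basicOpen hV') y hy
      (X.presheaf.map (homOfLE (X.basicOpen_le hV')).op a) =
      X.presheaf.germ (X.basicOpen hV') y hy 0
    rw [map_zero, TopCat.Presheaf.germ_res_apply]
    have h1 := hg y (hVU hyV) hy'.2
    rw [w y hyV, ← LocalizedModule.zero_mk (Mero.regGerm ⟨y, hyV⟩ b), LocalizedModule.mk_eq] at h1
    obtain ⟨u, hu⟩ := h1
    rw [smul_zero, smul_zero, smul_smul] at hu
    have hnz : ((u * Mero.regGerm ⟨y, hyV⟩ b : Mero.regStalk X y) : X.presheaf.stalk y) ∈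
        nonZeroDivisors (X.presheaf.stalk y) :=
      Mero.regStalk_le_nonZeroDivisors y (u * Mero.regGerm ⟨y, hyV⟩ b).2
    exact (mem_nonZeroDivisors_iff_left.mp hnz) _ hu
  obtain ⟨n, hn⟩ := exists_pow_mul_eq_zero_of_res_basicOpen_eq_zero_of_isAffineOpen X hV a hV' ha0
  refine ⟨V, hxV, n, fun y hy hyU m hm => ?_⟩
  rw [show g.1 ⟨y, hyU⟩ = _ from w y hy, Mero.toK_apply]
  refine LocalizedModule.mk_mul_mk.trans ?_
  have hz : X.presheaf.germ U y hyU (h ^ m) * X.presheaf.germ V y hy a = 0 := by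
    have e1 : X.presheaf.germ U y hyU h = X.presheaf.germ V y hy hV' :=
      (TopCat.Presheaf.germ_res_apply X.presheaf (homOfLE hVU) y hy h).symm
    have key : X.presheaf.germ V y hy hV' ^ n * X.presheaf.germ V y hy a = 0 := by
      rw [← map_pow, ← map_mul, hn, map_zero]
    rw [map_pow, e1, ← Nat.sub_add_cancel hm, pow_add, mul_assoc, key, mul_zero]
  rw [hz, LocalizedModule.zero_mk]

/-- A section of `K_X` over an affine open `U` which vanishes on `D(h)` is killed by a power of `h`. -/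
theorem kill {U : X.Opens} (hU : IsAffineOpen U) (h : Γ(X, U)) (g : Γ(Mero.kmod X, U))
    (hg : ∀ (y : X) (hyU : y ∈ U), y ∈ X.basicOpen h → g.1 ⟨y, hyU⟩ = 0) :
    ∃ n : ℕ, Mero.toK X U (h ^ n) * g = 0 := by
  choose V hxV n hn using fun (x : X) (hxU : x ∈ U) => local_kill h g hg x hxU
  obtain ⟨t, ht⟩ := hU.isCompact.elim_nhds_subcover' (fun x hx => (V x hx : Set X))
    (fun x hx => (V x hx).isOpen.mem_nhds (hxV x hx))
  refine ⟨t.sup (fun x => n x.1 x.2), ?_⟩
  apply Subtype.ext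
  funext ⟨y, hy⟩
  have hyt : y ∈ ⋃ x ∈ t, (V x.1 x.2 : Set X) := ht hy
  simp only [Set.mem_iUnion] at hyt
  obtain ⟨x, hxt, hyx⟩ := hyt
  exact hn x.1 x.2 y hyx hy _ (Finset.le_sup (f := fun x => n x.1 x.2) hxt)

/-- Germs of nonzerodivisors of `Γ(X, U)`, `U` affine, are nonzerodivisors. -/
theorem germ_mem_nzd {U : X.Opens} (hU : IsAffineOpen U) (s : Γ(X, U))
    (hs : s ∈ nonZeroDivisors Γ(X, U)) (x : X) (hx : x ∈ U) :
    X.presheaf.germ U x hx s ∈ nonZeroDivisors (X.presheaf.stalk x) := by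
  let _ : Algebra Γ(X, U) (X.presheaf.stalk x) :=
    TopCat.Presheaf.algebra_section_stalk X.presheaf (U := U) ⟨x, hx⟩
  have hloc : IsLocalization.AtPrime (X.presheaf.stalk x) (hU.primeIdealOf ⟨x, hx⟩).asIdeal :=
    hU.isLocalization_stalk ⟨x, hx⟩
  exact IsLocalization.map_nonZeroDivisors_le (hU.primeIdealOf ⟨x, hx⟩).asIdeal.primeCompl _
    (Submonoid.mem_map_of_mem _ hs)

/-- Near each point of an affine open `U`, a section of `K_X(U)` is a fraction `N / D` of sections over `U`,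
with `D` regular near the point. -/
theorem fracOn {U : X.Opens} (hU : IsAffineOpen U) (f : Γ(Mero.kmod X, U)) (x : X) (hxU : x ∈ U) :
    ∃ (h D N : Γ(X, U)), x ∈ X.basicOpen h ∧
      ∀ (y : X) (hyU : y ∈ U), y ∈ X.basicOpen h →
        X.presheaf.germ U y hyU D ∈ nonZeroDivisors (X.presheaf.stalk y) ∧
        (Mero.toK X U D).1 ⟨y, hyU⟩ * f.1 ⟨y, hyU⟩ = (Mero.toK X U N).1 ⟨y, hyU⟩ := by
  obtain ⟨V0, hxV0, i0, a0, b0, w0⟩ := f.2 ⟨x, hxU⟩
  obtain ⟨h, hhV0, hxh⟩ := hU.exists_basicOpen_le ⟨x, hxV0⟩ hxU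
  let a' : Γ(X, X.basicOpen h) := X.presheaf.map (homOfLE hhV0).op a0
  let b' : Γ(X, X.basicOpen h) := X.presheaf.map (homOfLE hhV0).op b0.1
  obtain ⟨k₁, α, hα⟩ := exists_eq_pow_mul_of_isAffineOpen X U hU h a'
  obtain ⟨k₂, β, hβ⟩ := exists_eq_pow_mul_of_isAffineOpen X U hU h b'
  have hα' : X.presheaf.map (homOfLE (X.basicOpen_le h)).op α =
      (X.presheaf.map (homOfLE (X.basicOpen_le h)).op h) ^ k₁ * a' := hα
  have hβ' : X.presheaf.map (homOfLE (X.basicOpen_le h)).op β =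
      (X.presheaf.map (homOfLE (X.basicOpen_le h)).op h) ^ k₂ * b' := hβ
  refine ⟨h, β * h ^ k₁, α * h ^ k₂, hxh, fun y hyU hyh => ?_⟩
  have hyV0 : y ∈ V0 := hhV0 hyh
  have gα : X.presheaf.germ U y hyU α =
      X.presheaf.germ U y hyU h ^ k₁ * X.presheaf.germ V0 y hyV0 a0 := by
    have := congrArg (X.presheaf.germ (X.basicOpen h) y hyh) hα'
    rw [map_mul, map_pow, TopCat.Presheaf.germ_res_apply, TopCat.Presheaf.germ_res_apply,
      TopCat.Presheaf.germ_res_apply] at this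
    exact this
  have gβ : X.presheaf.germ U y hyU β =
      X.presheaf.germ U y hyU h ^ k₂ * X.presheaf.germ V0 y hyV0 b0.1 := by
    have := congrArg (X.presheaf.germ (X.basicOpen h) y hyh) hβ'
    rw [map_mul, map_pow, TopCat.Presheaf.germ_res_apply, TopCat.Presheaf.germ_res_apply,
      TopCat.Presheaf.germ_res_apply] at this
    exact this
  have hunit : IsUnit (X.presheaf.germ U y hyU h) := (Scheme.mem_basicOpen X h y hyU).mp hyh
  have hb0 : X.presheaf.germ V0 y hyV0 b0.1 ∈ nonZeroDivisors (X.presheaf.stalk y) :=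
    b0.2 ⟨y, hyV0⟩
  constructor
  · rw [map_mul, map_pow, gβ]
    exact Submonoid.mul_mem _ (Submonoid.mul_mem _ (Submonoid.pow_mem _ hunit.mem_nonZeroDivisors _) hb0)
      (Submonoid.pow_mem _ hunit.mem_nonZeroDivisors _)
  · have hw := w0 ⟨y, hyV0⟩
    dsimp only at hw
    rw [Mero.toK_apply, Mero.toK_apply, show f.1 ⟨y, hyU⟩ = _ from hw]
    refine LocalizedModule.mk_mul_mk.trans (LocalizedModule.mk_eq.mpr ⟨1, ?_⟩)
    simp only [one_smul, Submonoid.smul_def, smul_eq_mul, Submonoid.coe_mul, Submonoid.coe_one, one_mul]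
    rw [map_mul, map_mul, map_pow, map_pow, gα, gβ]
    change _ = X.presheaf.germ V0 y hyV0 b0.1 * _
    ring

/-- `K_X(U)` is the total ring of fractions of `O_X(U)` for `U` an affine open of a locally Noetherian scheme. -/
theorem isLocalization_kmod (X : Scheme.{u}) [IsLocallyNoetherian X] (U : X.affineOpens) :
    @IsLocalization Γ(X, U.1) _ (nonZeroDivisors Γ(X, U.1)) Γ(Mero.kmod X, U.1) _
      (Mero.toK X U.1).toAlgebra := by
  letI : Algebra Γ(X, U.1) Γ(Mero.kmod X, U.1) := (Mero.toK X U.1).toAlgebra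
  haveI : IsNoetherianRing Γ(X, U.1) := IsLocallyNoetherian.component_noetherian U
  have hU : IsAffineOpen U.1 := U.2
  refine (isLocalization_iff (nonZeroDivisors Γ(X, U.1)) Γ(Mero.kmod X, U.1)).mpr ⟨?_, ?_, ?_⟩
  · rintro ⟨s, hs⟩
    show IsUnit (Mero.toK X U.1 s)
    have hreg : s ∈ Mero.regSub X U.1 := fun x => germ_mem_nzd hU s hs x.1 x.2
    let b : Mero.regSub X U.1 := ⟨s, hreg⟩
    let g : Γ(Mero.kmod X, U.1) := ⟨fun x => LocalizedModule.mk 1 (Mero.regGerm x b),
      fun x => ⟨U.1, x.2, 𝟙 _, 1, b, fun y => Mero.mk_congr (map_one _).symm rfl⟩⟩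
    refine IsUnit.of_mul_eq_one g ?_
    apply Subtype.ext
    funext x
    change (LocalizedModule.mk (X.presheaf.germ U.1 x.1 x.2 s) 1 : Mero.KStalk X x.1) *
      LocalizedModule.mk 1 (Mero.regGerm x b) = 1
    refine LocalizedModule.mk_mul_mk.trans ?_
    exact (Mero.mk_congr (mul_one _) (by rw [one_mul])).trans (Mero.mk_self_eq_one (Mero.regGerm x b))
  · intro f
    let I : Ideal Γ(X, U.1) :=
      { carrier := {b | ∃ a, Mero.toK X U.1 b * f = Mero.toK X U.1 a}
        add_mem' := by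
          rintro b c ⟨a, ha⟩ ⟨a', ha'⟩
          exact ⟨a + a', by rw [map_add, add_mul, ha, ha', map_add]⟩
        zero_mem' := ⟨0, by rw [map_zero, zero_mul]⟩
        smul_mem' := by
          rintro c b ⟨a, ha⟩
          exact ⟨c * a, by rw [smul_eq_mul, map_mul, mul_assoc, ha, map_mul]⟩ }
    obtain ⟨s, hsI, hs⟩ : ∃ s ∈ I, s ∈ nonZeroDivisors Γ(X, U.1) := by
      by_contra hcon
      push_neg at hcon
      obtain ⟨z, hz0, hz⟩ := exists_ne_zero_kill I hcon
      apply hz0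
      refine TopCat.Presheaf.section_ext X.sheaf U.1 z 0 fun x hx => ?_
      change X.presheaf.germ U.1 x hx z = X.presheaf.germ U.1 x hx 0
      obtain ⟨h, D, N, hxh, hDN⟩ := fracOn hU f x hx
      obtain ⟨n, hn⟩ := kill hU h (Mero.toK X U.1 D * f - Mero.toK X U.1 N) (fun y hyU hyh => by
        change (Mero.toK X U.1 D).1 ⟨y, hyU⟩ * f.1 ⟨y, hyU⟩ - (Mero.toK X U.1 N).1 ⟨y, hyU⟩ = 0
        rw [(hDN y hyU hyh).2, sub_self])
      have hmem : h ^ n * D ∈ I := ⟨h ^ n * N, by
        rw [map_mul, map_mul, mul_assoc]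
        have h3 := hn
        rw [mul_sub, sub_eq_zero] at h3
        exact h3⟩
      have hz' : h ^ n * D * z = 0 := hz _ hmem
      have h4 : X.presheaf.germ U.1 x hx (h ^ n * D) * X.presheaf.germ U.1 x hx z = 0 := by
        rw [← map_mul, hz', map_zero]
      have hnzd : X.presheaf.germ U.1 x hx (h ^ n * D) ∈ nonZeroDivisors (X.presheaf.stalk x) := by
        rw [map_mul, map_pow]
        exact Submonoid.mul_mem _ (Submonoid.pow_mem _
          ((Scheme.mem_basicOpen X h x hx).mp hxh).mem_nonZeroDivisors n) (hDN x hx hxh).1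
      rw [map_zero]
      exact (mem_nonZeroDivisors_iff_left.mp hnzd) _ h4
    obtain ⟨a, ha⟩ := hsI
    refine ⟨(a, ⟨s, hs⟩), ?_⟩
    show f * Mero.toK X U.1 s = Mero.toK X U.1 a
    rw [mul_comm]
    exact ha
  · intro a b hab
    refine ⟨1, ?_⟩
    rw [OneMemClass.coe_one, one_mul, one_mul]
    refine TopCat.Presheaf.section_ext X.sheaf U.1 a b fun x hx => ?_
    change X.presheaf.germ U.1 x hx a = X.presheaf.germ U.1 x hx b
    have h1 : (Mero.toK X U.1 a).1 ⟨x, hx⟩ = (Mero.toK X U.1 b).1 ⟨x, hx⟩ := by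
      have h2 : Mero.toK X U.1 a = Mero.toK X U.1 b := hab
      rw [h2]
    rw [Mero.toK_apply, Mero.toK_apply, LocalizedModule.mk_eq] at h1
    obtain ⟨u, hu⟩ := h1
    simp only [one_smul, Submonoid.smul_def, smul_eq_mul] at hu
    have hnz := Mero.regStalk_le_nonZeroDivisors x u.2
    have h5 : (u : X.presheaf.stalk x) *
        (X.presheaf.germ U.1 x hx a - X.presheaf.germ U.1 x hx b) = 0 := by
      rw [mul_sub, hu, sub_self]
    exact sub_eq_zero.mp ((mem_nonZeroDivisors_iff_left.mp hnz) _ h5)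

end H16Mero
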