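import Mathlib
import Groth.Agent.Lib.Helper16.Mero.KLoc
import Groth.Agent.Lib.Helper28.MaxPoint
import Groth.Agent.S5085

/-!
# Extension of functions on a schematically dense open to meromorphic functions

`H16Mero.exists_extension`: on a scheme which is locally Noetherian, or reduced with locally finitely many
irreducible components, a function on a schematically dense open `V ⊆ U` extends to a section of `K_X` over `U`.
-/

set_option autoImplicit false
universe u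
open CategoryTheory AlgebraicGeometry TopologicalSpace Opposite

namespace H16Mero

open Mero

variable {X : Scheme.{u}}

/-- An ideal of zero divisors in a reduced ring with finitely many minimal primes is annihilated by a
nonzero element. -/
theorem exists_ne_zero_kill_of_reduced {A : Type*} [CommRing A] [IsReduced A]
    (hfin : (minimalPrimes A).Finite) (I : Ideal A)
    (hI : ∀ s ∈ I, s ∉ nonZeroDivisors A) : ∃ z : A, z ≠ 0 ∧ ∀ b ∈ I, b * z = 0 := by
  classical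
  have hsub : (I : Set A) ⊆ ⋃ p ∈ (hfin.toFinset : Set (Ideal A)), ((id p : Ideal A) : Set A) := by
    intro s hs
    have h1 : s ∉ nonZeroDivisors A := hI s hs
    rw [mem_nonZeroDivisors_iff_right] at h1
    push_neg at h1
    obtain ⟨y, hy, hy0⟩ := h1
    have hynil : y ∉ nilradical A := by
      rw [nilradical_eq_zero]
      exact hy0
    rw [nilradical, ← Ideal.sInf_minimalPrimes, Ideal.mem_sInf] at hynil
    push_neg at hynil
    obtain ⟨Q, hQ, hyQ⟩ := hynil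
    have hQprime : Q.IsPrime := hQ.1.1
    have h2 : y * s ∈ Q := by rw [hy]; exact Q.zero_mem
    have hsQ : s ∈ Q := (hQprime.mem_or_mem h2).resolve_left hyQ
    exact Set.mem_biUnion (Finset.mem_coe.mpr (hfin.mem_toFinset.mpr hQ)) hsQ
  obtain ⟨Q, hQ', hIQ⟩ := (Ideal.subset_union_prime (s := hfin.toFinset) (f := id) ⊥ ⊥
    (fun i hi _ _ => ((hfin.mem_toFinset.mp hi) : i ∈ minimalPrimes A).1.1)).mp hsub
  have hQ : Q ∈ minimalPrimes A := hfin.mem_toFinset.mp hQ'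
  have hQprime : Q.IsPrime := hQ.1.1
  have hnot : ¬ ((hfin.toFinset.erase Q).inf id ≤ Q) := by
    intro hle
    obtain ⟨Q₁, hQ₁F, hQ₁Q⟩ := (Ideal.IsPrime.inf_le' hQprime).mp hle
    have hQ₁min : Q₁ ∈ minimalPrimes A := hfin.mem_toFinset.mp (Finset.mem_of_mem_erase hQ₁F)
    have h3 : Q ≤ Q₁ := hQ.2 ⟨hQ₁min.1.1, bot_le⟩ hQ₁Q
    exact (Finset.ne_of_mem_erase hQ₁F) (le_antisymm hQ₁Q h3)
  obtain ⟨z, hzF, hzQ⟩ := SetLike.not_le_iff_exists.mp hnot
  refine ⟨z, fun h0 => hzQ (h0 ▸ Q.zero_mem), fun b hb => ?_⟩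
  have hmem : b * z ∈ nilradical A := by
    rw [nilradical, ← Ideal.sInf_minimalPrimes, Ideal.mem_sInf]
    intro Q₂ hQ₂
    by_cases h : Q₂ = Q
    · subst h
      exact Q₂.mul_mem_right _ (hIQ hb)
    · have h4 : z ∈ Q₂ :=
        (Finset.inf_le (f := id) (Finset.mem_erase.mpr ⟨h, hfin.mem_toFinset.mpr hQ₂⟩)) hzF
      exact Q₂.mul_mem_left _ h4
  rw [nilradical_eq_zero] at hmem
  exact hmem

/-- A section vanishing on `D(t)`, `t` germwise regular, has vanishing germs. -/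
theorem germ_eq_zero_of_regular {W₀ : X.Opens} (t : Γ(X, W₀)) (ht : t ∈ Mero.regSub X W₀)
    (c : Γ(X, W₀))
    (hc : ∀ (y : X) (hyW : y ∈ W₀), y ∈ X.basicOpen t → X.presheaf.germ W₀ y hyW c = 0)
    (z : X) (hz : z ∈ W₀) : X.presheaf.germ W₀ z hz c = 0 := by
  obtain ⟨_, ⟨W₂, hW₂, rfl⟩, hzW₂, hW₂W₀⟩ :=
    X.isBasis_affineOpens.exists_subset_of_mem_open hz W₀.isOpen
  have hle : W₂ ≤ W₀ := hW₂W₀
  obtain ⟨c₂, hc₂⟩ : ∃ c₂ : Γ(X, W₂), c₂ = X.presheaf.map (homOfLE hle).op c := ⟨_, rfl⟩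
  obtain ⟨t₂, ht₂⟩ : ∃ t₂ : Γ(X, W₂), t₂ = X.presheaf.map (homOfLE hle).op t := ⟨_, rfl⟩
  have hbo : X.basicOpen t₂ = W₂ ⊓ X.basicOpen t := by
    rw [ht₂]; exact Scheme.basicOpen_res X _ _
  have h0 : X.presheaf.map (homOfLE (X.basicOpen_le t₂)).op c₂ = 0 := by
    refine TopCat.Presheaf.section_ext X.sheaf _ _ _ fun y hy => ?_
    have hy' : y ∈ W₂ ⊓ X.basicOpen t := hbo ▸ hy
    change X.presheaf.germ (X.basicOpen t₂) y hy
      (X.presheaf.map (homOfLE (X.basicOpen_le t₂)).op c₂) =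
      X.presheaf.germ (X.basicOpen t₂) y hy 0
    rw [map_zero, TopCat.Presheaf.germ_res_apply, hc₂, TopCat.Presheaf.germ_res_apply]
    exact hc y (hle hy'.1) hy'.2
  obtain ⟨n, hn⟩ := exists_pow_mul_eq_zero_of_res_basicOpen_eq_zero_of_isAffineOpen X hW₂ c₂ t₂ h0
  have h1 : X.presheaf.germ W₀ z hz t ^ n * X.presheaf.germ W₀ z hz c = 0 := by
    have h2 := congrArg (X.presheaf.germ W₂ z hzW₂) hn
    rw [map_mul, map_pow, map_zero, hc₂, ht₂, TopCat.Presheaf.germ_res_apply,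
      TopCat.Presheaf.germ_res_apply] at h2
    exact h2
  have hnz : X.presheaf.germ W₀ z hz t ^ n ∈ nonZeroDivisors (X.presheaf.stalk z) :=
    Submonoid.pow_mem _ (ht ⟨z, hz⟩) n
  exact (mem_nonZeroDivisors_iff_left.mp hnz) _ h1

/-- On an affine open `W` in which `W ⊓ V` is schematically dense, and whose ring has the "ideals of zero
divisors are killed by a nonzero element" property, there is a nonzerodivisor `t` with `D(t) ≤ V`. -/
theorem exists_regular_basicOpen_le {W V : X.Opens} (hW : IsAffineOpen W)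
    (hinj : Function.Injective ⇑(X.presheaf.map (homOfLE (inf_le_left : W ⊓ V ≤ W)).op))
    (hkill : ∀ I : Ideal Γ(X, W), (∀ s ∈ I, s ∉ nonZeroDivisors Γ(X, W)) →
      ∃ z : Γ(X, W), z ≠ 0 ∧ ∀ b ∈ I, b * z = 0) :
    ∃ t : Γ(X, W), t ∈ nonZeroDivisors Γ(X, W) ∧ X.basicOpen t ≤ V := by
  let I : Ideal Γ(X, W) :=
    { carrier := {t | X.basicOpen t ≤ V}
      add_mem' := by
        intro a b ha hb
        exact (X.basicOpen_add_le a b).trans (sup_le ha hb)
      zero_mem' := by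
        show X.basicOpen (0 : Γ(X, W)) ≤ V
        rw [Scheme.basicOpen_zero]
        exact bot_le
      smul_mem' := by
        intro c a ha
        show X.basicOpen (c • a) ≤ V
        rw [smul_eq_mul, Scheme.basicOpen_mul]
        exact inf_le_right.trans ha }
  by_contra hcon
  push_neg at hcon
  obtain ⟨z, hz0, hz⟩ := hkill I (fun s hs hsn => hcon s hsn hs)
  apply hz0
  apply hinj
  rw [map_zero]
  refine TopCat.Presheaf.section_ext X.sheaf _ _ _ fun y hy => ?_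
  change X.presheaf.germ (W ⊓ V) y hy (X.presheaf.map (homOfLE inf_le_left).op z) =
    X.presheaf.germ (W ⊓ V) y hy 0
  rw [map_zero, TopCat.Presheaf.germ_res_apply]
  obtain ⟨t, htle, hyt⟩ := hW.exists_basicOpen_le (V := W ⊓ V) ⟨y, hy⟩ hy.1
  have htI : t ∈ I := htle.trans inf_le_right
  have h1 : t * z = 0 := hz t htI
  have h2 : X.presheaf.germ W y hy.1 t * X.presheaf.germ W y hy.1 z = 0 := by
    rw [← map_mul, h1, map_zero]
  have hu : IsUnit (X.presheaf.germ W y hy.1 t) := (Scheme.mem_basicOpen X t y hy.1).mp hyt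
  exact hu.mul_right_eq_zero.mp h2

/-- Local extension: on an affine open `W` with a nonzerodivisor `t`, `D(t) ≤ V`, a function `g` on `V`
extends to a meromorphic function on `W`. -/
theorem exists_local_ext {W V : X.Opens} (hW : IsAffineOpen W) (g : Γ(X, V)) (t : Γ(X, W))
    (ht : t ∈ nonZeroDivisors Γ(X, W)) (htV : X.basicOpen t ≤ V) :
    ∃ s : Γ(Mero.kmod X, W), ∀ (z : X) (hzW : z ∈ W) (hzV : z ∈ V),
      s.1 ⟨z, hzW⟩ = LocalizedModule.mk (X.presheaf.germ V z hzV g) 1 := by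
  obtain ⟨n, a, ha⟩ :=
    exists_eq_pow_mul_of_isAffineOpen X W hW t (X.presheaf.map (homOfLE htV).op g)
  have ha' : X.presheaf.map (homOfLE (X.basicOpen_le t)).op a =
      (X.presheaf.map (homOfLE (X.basicOpen_le t)).op t) ^ n *
        X.presheaf.map (homOfLE htV).op g := ha
  have htn : t ^ n ∈ Mero.regSub X W := fun x =>
    germ_mem_nzd hW (t ^ n) (Submonoid.pow_mem _ ht n) x.1 x.2
  let b : Mero.regSub X W := ⟨t ^ n, htn⟩
  refine ⟨⟨fun x => LocalizedModule.mk (X.presheaf.germ W x.1 x.2 a) (Mero.regGerm x b),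
      fun x => ⟨W, x.2, 𝟙 _, a, b, fun y => rfl⟩⟩, fun z hzW hzV => ?_⟩
  have key : X.presheaf.germ W z hzW a =
      X.presheaf.germ W z hzW (t ^ n) * X.presheaf.germ V z hzV g := by
    have hzWV : z ∈ W ⊓ V := Opens.mem_inf.mpr ⟨hzW, hzV⟩
    obtain ⟨c, hcdef⟩ : ∃ c : Γ(X, W ⊓ V),
        c = X.presheaf.map (homOfLE (inf_le_left : W ⊓ V ≤ W)).op a -
          X.presheaf.map (homOfLE (inf_le_left : W ⊓ V ≤ W)).op (t ^ n) *
            X.presheaf.map (homOfLE (inf_le_right : W ⊓ V ≤ V)).op g := ⟨_, rfl⟩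
    have hgerm : ∀ (y : X) (hy : y ∈ W ⊓ V), X.presheaf.germ (W ⊓ V) y hy c =
        X.presheaf.germ W y hy.1 a -
          X.presheaf.germ W y hy.1 (t ^ n) * X.presheaf.germ V y hy.2 g := by
      intro y hy
      rw [hcdef, map_sub, map_mul, TopCat.Presheaf.germ_res_apply, TopCat.Presheaf.germ_res_apply,
        TopCat.Presheaf.germ_res_apply]
    have htreg : X.presheaf.map (homOfLE (inf_le_left : W ⊓ V ≤ W)).op t ∈ Mero.regSub X (W ⊓ V) :=
      Mero.regSub_res (homOfLE inf_le_left) (fun x => germ_mem_nzd hW t ht x.1 x.2)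
    have hc0 := germ_eq_zero_of_regular
      (X.presheaf.map (homOfLE (inf_le_left : W ⊓ V ≤ W)).op t) htreg c
      (fun y hyWV hyt => by
        have hyt' : y ∈ X.basicOpen t := by
          have h5 := Scheme.basicOpen_res X t (homOfLE (inf_le_left : W ⊓ V ≤ W)).op
          rw [h5] at hyt
          exact hyt.2
        rw [hgerm y hyWV, sub_eq_zero]
        have h6 := congrArg (X.presheaf.germ (X.basicOpen t) y hyt') ha'
        rw [map_mul, map_pow, TopCat.Presheaf.germ_res_apply, TopCat.Presheaf.germ_res_apply,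
          TopCat.Presheaf.germ_res_apply] at h6
        rw [map_pow]
        exact h6) z hzWV
    rw [hgerm z hzWV, sub_eq_zero] at hc0
    exact hc0
  change LocalizedModule.mk (X.presheaf.germ W z hzW a) (Mero.regGerm ⟨z, hzW⟩ b) = _
  refine LocalizedModule.mk_eq.mpr ⟨1, ?_⟩
  simp only [one_smul, Submonoid.smul_def, smul_eq_mul]
  exact key

/-- Gluing of sections of `K_X` given on an open cover and agreeing pointwise on overlaps. -/
theorem glue {U : X.Opens} (W : U → X.Opens) (hxW : ∀ x : U, x.1 ∈ W x) (hWU : ∀ x : U, W x ≤ U)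
    (s : ∀ x : U, Γ(Mero.kmod X, W x))
    (hagree : ∀ (x y : U) (z : X) (hzx : z ∈ W x) (hzy : z ∈ W y),
      (s x).1 ⟨z, hzx⟩ = (s y).1 ⟨z, hzy⟩) :
    ∃ S : Γ(Mero.kmod X, U), ∀ (x : U) (z : X) (hzx : z ∈ W x),
      S.1 ⟨z, hWU x hzx⟩ = (s x).1 ⟨z, hzx⟩ := by
  refine ⟨⟨fun z => (s z).1 ⟨z.1, hxW z⟩, fun x => ?_⟩, fun x z hzx => hagree _ _ _ _ _⟩
  obtain ⟨V0, hxV0, i0, a0, b0, w0⟩ := (s x).2 ⟨x.1, hxW x⟩
  refine ⟨V0, hxV0, i0 ≫ homOfLE (hWU x), a0, b0, fun y => ?_⟩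
  have h1 := w0 y
  dsimp only at h1 ⊢
  exact (hagree ((i0 ≫ homOfLE (hWU x)) y) x y.1 (hxW ((i0 ≫ homOfLE (hWU x)) y)) (i0.le y.2)).trans h1

/-- The closure of a maximal point of a scheme is an irreducible component. -/
theorem closure_singleton_mem_irreducibleComponents (ξ : X) (hmax : ∀ z : X, z ⤳ ξ → z = ξ) :
    closure ({ξ} : Set X) ∈ irreducibleComponents X := by
  refine ⟨isIrreducible_singleton.closure, fun Z₁ hZ₁ hle => ?_⟩
  have hirr : IsIrreducible (closure Z₁) := hZ₁.closure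
  obtain ⟨η, hη⟩ := QuasiSober.sober hirr isClosed_closure
  have hξ : ξ ∈ closure Z₁ := subset_closure (hle (subset_closure rfl))
  have hspec : η ⤳ ξ := by
    rw [← hη.def] at hξ
    exact specializes_iff_mem_closure.mpr hξ
  have h1 : η = ξ := hmax η hspec
  subst h1
  exact subset_closure.trans hη.def.ge

/-- If only finitely many irreducible components of `X` meet `W₀`, every affine open inside `W₀` has finitely
many minimal primes. -/
theorem finite_minimalPrimes_of_locallyFinite {W W₀ : X.Opens} (hW : IsAffineOpen W) (hWW₀ : W ≤ W₀)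
    (hfin : {Z : Set X | Z ∈ irreducibleComponents X ∧ (Z ∩ (W₀ : Set X)).Nonempty}.Finite) :
    (minimalPrimes Γ(X, W)).Finite := by
  classical
  have hP : {ξ : X | ξ ∈ W ∧ ∀ z : X, z ⤳ ξ → z = ξ}.Finite := by
    refine Set.Finite.of_injOn (f := fun ξ : X => closure ({ξ} : Set X)) ?_ ?_ hfin
    · intro ξ hξ
      exact ⟨closure_singleton_mem_irreducibleComponents ξ hξ.2,
        ⟨ξ, subset_closure rfl, hWW₀ hξ.1⟩⟩
    · intro ξ₁ _ ξ₂ h₂ heq
      have heq' : closure ({ξ₁} : Set X) = closure ({ξ₂} : Set X) := heq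
      have h3 : ξ₂ ∈ closure ({ξ₁} : Set X) := by
        rw [heq']
        exact subset_closure rfl
      exact h₂.2 ξ₁ (specializes_iff_mem_closure.mpr h3)
  refine (hP.image (fun ξ : X => if hξ : ξ ∈ W then (hW.primeIdealOf ⟨ξ, hξ⟩).asIdeal else ⊥)).subset ?_
  intro Q hQ
  haveI : Q.IsPrime := hQ.1.1
  obtain ⟨ξ, hξW, hξQ⟩ := Groth.Agent.Lib.Helper28.StalkAss.exists_point_of_prime hW Q
  refine ⟨ξ, ⟨hξW, (Groth.Agent.Lib.Helper28.MaxPoint.isMaxPoint_iff_minimalPrimes hW ξ hξW).mpr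
    (hξQ ▸ hQ)⟩, ?_⟩
  simp only [dif_pos hξW]
  exact hξQ

/-- Extension of a function on a schematically dense open to a meromorphic function. -/
theorem exists_extension (X : Scheme.{u})
    (hX : IsLocallyNoetherian X ∨ (IsReduced X ∧ ∀ x : ↥X, ∃ W : X.Opens, x ∈ W ∧
      {Z : Set ↥X | Z ∈ irreducibleComponents ↥X ∧ (Z ∩ (W : Set ↥X)).Nonempty}.Finite))
    (U V : X.Opens) (hVU : V ≤ U)
    (hV : ∀ W : X.Opens, W ≤ U →
      Function.Injective ⇑(X.presheaf.map (homOfLE (inf_le_left : W ⊓ V ≤ W)).op))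
    (g : Γ(X, V)) :
    ∃ s : Γ(Mero.kmod X, U), (Mero.kmod X).presheaf.map (homOfLE hVU).op s = Mero.toK X V g := by
  have hloc : ∀ x : U, ∃ W : X.Opens, IsAffineOpen W ∧ x.1 ∈ W ∧ W ≤ U ∧
      (∀ I : Ideal Γ(X, W), (∀ s ∈ I, s ∉ nonZeroDivisors Γ(X, W)) →
        ∃ z : Γ(X, W), z ≠ 0 ∧ ∀ b ∈ I, b * z = 0) := by
    intro x
    rcases hX with hN | ⟨hR, hF⟩
    · obtain ⟨_, ⟨W, hW, rfl⟩, hxW, hWU⟩ :=
        X.isBasis_affineOpens.exists_subset_of_mem_open x.2 U.isOpen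
      haveI : IsNoetherianRing Γ(X, W) := IsLocallyNoetherian.component_noetherian ⟨W, hW⟩
      exact ⟨W, hW, hxW, hWU, fun I hI => exists_ne_zero_kill I hI⟩
    · obtain ⟨W₀, hxW₀, hfin⟩ := hF x.1
      obtain ⟨_, ⟨W, hW, rfl⟩, hxW, hWsub⟩ :=
        X.isBasis_affineOpens.exists_subset_of_mem_open
          (show x.1 ∈ ((U ⊓ W₀ : X.Opens) : Set X) from Opens.mem_inf.mpr ⟨x.2, hxW₀⟩)
          (U ⊓ W₀).isOpen
      have hWle : W ≤ U ⊓ W₀ := hWsub
      haveI := hR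
      exact ⟨W, hW, hxW, hWle.trans inf_le_left, fun I hI =>
        exists_ne_zero_kill_of_reduced
          (finite_minimalPrimes_of_locallyFinite hW (hWle.trans inf_le_right) hfin) I hI⟩
  choose W hWaff hxW hWU hkill using hloc
  have ht : ∀ x : U, ∃ t : Γ(X, W x), t ∈ nonZeroDivisors Γ(X, W x) ∧ X.basicOpen t ≤ V := fun x =>
    exists_regular_basicOpen_le (hWaff x) (hV (W x) (hWU x)) (hkill x)
  choose t htnzd htV using ht
  have hs : ∀ x : U, ∃ s : Γ(Mero.kmod X, W x), ∀ (z : X) (hzW : z ∈ W x) (hzV : z ∈ V),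
      s.1 ⟨z, hzW⟩ = LocalizedModule.mk (X.presheaf.germ V z hzV g) 1 := fun x =>
    exists_local_ext (hWaff x) g (t x) (htnzd x) (htV x)
  choose s hs using hs
  have hagree : ∀ (x y : U) (z : X) (hzx : z ∈ W x) (hzy : z ∈ W y),
      (s x).1 ⟨z, hzx⟩ = (s y).1 ⟨z, hzy⟩ := by
    intro x y z hzx hzy
    have hV' : ∀ W' : X.Opens, W' ≤ W x ⊓ W y → Function.Injective
        ⇑(X.presheaf.map (homOfLE (inf_le_left : W' ⊓ (W x ⊓ W y ⊓ V) ≤ W')).op) := by
      intro W' hW' a b hab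
      apply hV W' (hW'.trans (inf_le_left.trans (hWU x)))
      refine TopCat.Presheaf.section_ext X.sheaf _ _ _ fun w hw => ?_
      change X.presheaf.germ (W' ⊓ V) w hw (X.presheaf.map (homOfLE inf_le_left).op a) =
        X.presheaf.germ (W' ⊓ V) w hw (X.presheaf.map (homOfLE inf_le_left).op b)
      rw [TopCat.Presheaf.germ_res_apply, TopCat.Presheaf.germ_res_apply]
      have hw' : w ∈ W' ⊓ (W x ⊓ W y ⊓ V) :=
        Opens.mem_inf.mpr ⟨hw.1, Opens.mem_inf.mpr ⟨hW' hw.1, hw.2⟩⟩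
      have h7 := congrArg (X.presheaf.germ (W' ⊓ (W x ⊓ W y ⊓ V)) w hw') hab
      rw [TopCat.Presheaf.germ_res_apply, TopCat.Presheaf.germ_res_apply] at h7
      exact h7
    have hinj := Groth.Agent.S5085.result X (W x ⊓ W y) (W x ⊓ W y ⊓ V) inf_le_left hV'
    have heq : (Mero.kmod X).presheaf.map (homOfLE (inf_le_left : W x ⊓ W y ≤ W x)).op (s x) =
        (Mero.kmod X).presheaf.map (homOfLE (inf_le_right : W x ⊓ W y ≤ W y)).op (s y) := by
      apply hinj
      apply Subtype.ext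
      funext w
      change (s x).1 ⟨w.1, w.2.1.1⟩ = (s y).1 ⟨w.1, w.2.1.2⟩
      rw [hs x w.1 w.2.1.1 w.2.2, hs y w.1 w.2.1.2 w.2.2]
    have h8 := congrArg (fun f => f.1 ⟨z, Opens.mem_inf.mpr ⟨hzx, hzy⟩⟩) heq
    exact h8
  obtain ⟨S, hS⟩ := glue W hxW hWU s hagree
  refine ⟨S, ?_⟩
  apply Subtype.ext
  funext y
  change S.1 ⟨y.1, hVU y.2⟩ = LocalizedModule.mk (X.presheaf.germ V y.1 y.2 g) 1
  exact (hS ⟨y.1, hVU y.2⟩ y.1 (hxW _)).trans (hs _ y.1 _ y.2)

end H16Mero
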