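import Mathlib
import Groth.Prelude.Def_StMod
import Groth.Agent.Lib.Helper16.Mero.Extend
import Groth.Agent.Lib.Helper3.WeakAss
import Groth.Agent.Lib.Helper3.QcohStalk

/-!
# `K_X` on schemes whose weakly associated points are generic points (non-Noetherian version of S8863/S8864)
-/

set_option autoImplicit false
universe u
open CategoryTheory AlgebraicGeometry TopologicalSpace Opposite

namespace H16Mero

open Mero

variable {X : Scheme.{u}}

/-- If `a / 1` is a nonzerodivisor of `A_𝔭`, then `a` lies in no minimal prime contained in `𝔭`. -/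
theorem notMem_minimalPrime_of_map_mem_nzd {A S : Type*} [CommRing A] [CommRing S] [Algebra A S]
    (𝔭 : Ideal A) [𝔭.IsPrime] [IsLocalization.AtPrime S 𝔭]
    (Q : Ideal A) (hQ : Q ∈ minimalPrimes A) (hQ𝔭 : Q ≤ 𝔭) (a : A)
    (ha : algebraMap A S a ∈ nonZeroDivisors S) : a ∉ Q := by
  intro haQ
  have hQprime : Q.IsPrime := hQ.1.1
  have hdisj : Disjoint (𝔭.primeCompl : Set A) Q := by
    rw [Set.disjoint_left]
    intro d hd hdQ
    exact hd (hQ𝔭 hdQ)
  have hunder : (Ideal.map (algebraMap A S) Q).under A = Q :=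
    IsLocalization.under_map_of_isPrime_disjoint 𝔭.primeCompl S hQprime hdisj
  have hmin : Ideal.map (algebraMap A S) Q ∈ minimalPrimes S := by
    have h1 := IsLocalization.minimalPrimes_map 𝔭.primeCompl S (⊥ : Ideal A)
    rw [Ideal.map_bot] at h1
    show Ideal.map (algebraMap A S) Q ∈ (⊥ : Ideal S).minimalPrimes
    rw [h1]
    show (Ideal.map (algebraMap A S) Q).under A ∈ (⊥ : Ideal A).minimalPrimes
    rw [hunder]
    exact hQ
  exact notMem_nonZeroDivisors_of_mem_mem_minimalPrimes (Ideal.mem_map_of_mem _ haQ) hmin ha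

/-- A nonzero function on an affine open has nonzero germ at some weakly associated point of `O_X`. -/
theorem exists_weakAssPoint_germ_ne_zero' {W : X.Opens} (hW : IsAffineOpen W) (y : Γ(X, W))
    (hy : y ≠ 0) :
    ∃ (z : X) (hz : z ∈ W), Curv2.IsWeakAssPoint (Coh.structureModule X) z ∧
      X.presheaf.germ W z hz y ≠ 0 := by
  haveI : (Coh.structureModule X).IsQuasicoherent := StMod.isQCoh_structureModule X
  let one : Γ(Coh.structureModule X, W) := (1 : Γ(X, W))
  let t : Γ(Coh.structureModule X, W) := (y : Γ(X, W))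
  have ht : t ≠ 0 := fun h => hy h
  obtain ⟨z, hz, hzw, hzt⟩ :=
    Groth.Agent.Lib.Helper3.QS.exists_weakAssPoint_germ_ne_zero (Coh.structureModule X) hW t ht
  refine ⟨z, hz, hzw, fun h0 => hzt ?_⟩
  have hsm : y • one = t := by
    show y * 1 = y
    exact mul_one y
  rw [← hsm, Groth.Agent.Lib.Helper3.QS.germ_smul, h0, zero_smul]

/-- If weakly associated points are maximal points, a function on an affine open avoiding all minimal primes
is a nonzerodivisor. -/
theorem mem_nzd_of_avoid {W : X.Opens} (hW : IsAffineOpen W)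
    (ha : ∀ x : X, Curv2.IsWeakAssPoint (Coh.structureModule X) x → ∀ y : X, y ⤳ x → y = x)
    (s : Γ(X, W)) (hs : ∀ Q ∈ minimalPrimes Γ(X, W), s ∉ Q) : s ∈ nonZeroDivisors Γ(X, W) := by
  rw [mem_nonZeroDivisors_iff_right]
  intro y hy
  by_contra hy0
  obtain ⟨z, hz, hzw, hzy⟩ := exists_weakAssPoint_germ_ne_zero' hW y hy0
  have hmax := ha z hzw
  have hQ := (Groth.Agent.Lib.Helper28.MaxPoint.isMaxPoint_iff_minimalPrimes hW z hz).mp hmax
  have hsQ := hs _ hQ
  have hu : IsUnit (X.presheaf.germ W z hz s) := (Scheme.mem_basicOpen X s z hz).mp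
    ((Groth.Agent.Lib.Helper3.mem_basicOpen_iff_notMem_primeIdealOf hW z hz s).mpr hsQ)
  have h0 : X.presheaf.germ W z hz y * X.presheaf.germ W z hz s = 0 := by
    rw [← map_mul, hy, map_zero]
  exact hzy (hu.mul_left_eq_zero.mp h0)

/-- Finitely many irreducible components of an affine open give finitely many minimal primes. -/
theorem finite_minimalPrimes_of_finite_irreducibleComponents {W : X.Opens} (hW : IsAffineOpen W)
    (hfin : (irreducibleComponents ↥(W : Scheme.{u})).Finite) : (minimalPrimes Γ(X, W)).Finite := by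
  have hP : {p : ↥(W : Scheme.{u}) | ∀ z : ↥(W : Scheme.{u}), z ⤳ p → z = p}.Finite := by
    refine Set.Finite.of_injOn
      (f := fun p : ↥(W : Scheme.{u}) => closure ({p} : Set ↥(W : Scheme.{u}))) ?_ ?_ hfin
    · intro p hp
      exact closure_singleton_mem_irreducibleComponents (X := (W : Scheme.{u})) p hp
    · intro p₁ _ p₂ h₂ heq
      have heq' : closure ({p₁} : Set ↥(W : Scheme.{u})) = closure ({p₂} : Set ↥(W : Scheme.{u})) :=
        heq
      have h3 : p₂ ∈ closure ({p₁} : Set ↥(W : Scheme.{u})) := by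
        rw [heq']
        exact subset_closure rfl
      exact h₂ p₁ (specializes_iff_mem_closure.mpr h3)
  refine (hP.image (fun p : ↥(W : Scheme.{u}) => (hW.primeIdealOf p).asIdeal)).subset ?_
  intro Q hQ
  haveI : Q.IsPrime := hQ.1.1
  obtain ⟨ξ, hξW, hξQ⟩ := Groth.Agent.Lib.Helper28.StalkAss.exists_point_of_prime hW Q
  have hmax := (Groth.Agent.Lib.Helper28.MaxPoint.isMaxPoint_iff_minimalPrimes hW ξ hξW).mpr
    (hξQ ▸ hQ)
  refine ⟨⟨ξ, hξW⟩, ?_, hξQ⟩
  intro z hz
  have h1 : (W.ι z) ⤳ (W.ι ⟨ξ, hξW⟩) := hz.map W.ι.continuous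
  have h2 : W.ι z = ξ := hmax _ h1
  exact Subtype.ext h2

/-- At a maximal point, nonzerodivisors of the local ring are units. -/
theorem isUnit_of_mem_nzd_of_maxPoint (η : X) (hmax : ∀ z : X, z ⤳ η → z = η)
    (σ : X.presheaf.stalk η) (hσ : σ ∈ nonZeroDivisors (X.presheaf.stalk η)) : IsUnit σ := by
  by_contra hnu
  have hm : σ ∈ IsLocalRing.maximalIdeal (X.presheaf.stalk η) := by
    rw [IsLocalRing.mem_maximalIdeal, mem_nonunits_iff]
    exact hnu
  exact Groth.Agent.Lib.Helper28.MaxPoint.notMem_nonZeroDivisors_of_mem_maximalIdeal η hmax σ hm hσ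

/-- A denominator of a meromorphic function outside the prime of a maximal point. -/
theorem exists_denom_notMem {U : X.Opens} (hU : IsAffineOpen U) (f : Γ(Mero.kmod X, U)) (η : X)
    (hηU : η ∈ U) (hmax : ∀ z : X, z ⤳ η → z = η) :
    ∃ b : Γ(X, U), b ∉ (hU.primeIdealOf ⟨η, hηU⟩).asIdeal ∧
      ∃ a : Γ(X, U), Mero.toK X U b * f = Mero.toK X U a := by
  obtain ⟨h, D, N, hηh, hDN⟩ := fracOn hU f η hηU
  obtain ⟨n, hn⟩ := kill hU h (Mero.toK X U D * f - Mero.toK X U N) (fun y hyU hyh => by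
    change (Mero.toK X U D).1 ⟨y, hyU⟩ * f.1 ⟨y, hyU⟩ - (Mero.toK X U N).1 ⟨y, hyU⟩ = 0
    rw [(hDN y hyU hyh).2, sub_self])
  refine ⟨h ^ n * D, ?_, h ^ n * N, ?_⟩
  · have hhu : IsUnit (X.presheaf.germ U η hηU h) := (Scheme.mem_basicOpen X h η hηU).mp hηh
    have hDu : IsUnit (X.presheaf.germ U η hηU D) :=
      isUnit_of_mem_nzd_of_maxPoint η hmax _ (hDN η hηU hηh).1
    have hu : IsUnit (X.presheaf.germ U η hηU (h ^ n * D)) := by
      rw [map_mul, map_pow]
      exact (hhu.pow n).mul hDu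
    exact (Groth.Agent.Lib.Helper3.mem_basicOpen_iff_notMem_primeIdealOf hU η hηU _).mp
      ((Scheme.mem_basicOpen X _ η hηU).mpr hu)
  · rw [map_mul, map_mul, mul_assoc]
    have h3 := hn
    rw [mul_sub, sub_eq_zero] at h3
    exact h3

/-- `K_X(U)` is the total ring of fractions of `O_X(U)`, `U` affine, on a scheme whose weakly associated points
are maximal points and whose quasi-compact opens have finitely many irreducible components. -/
theorem isLocalization_kmod_of_weakAss (X : Scheme.{u})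
    (ha : ∀ x : X, Curv2.IsWeakAssPoint (Coh.structureModule X) x → ∀ y : X, y ⤳ x → y = x)
    (hb : ∀ U : X.Opens, IsCompact (U : Set X) → (irreducibleComponents ↥(U : Scheme.{u})).Finite)
    (U : X.affineOpens) :
    @IsLocalization Γ(X, U.1) _ (nonZeroDivisors Γ(X, U.1)) Γ(Mero.kmod X, U.1) _
      (Mero.toK X U.1).toAlgebra := by
  classical
  letI : Algebra Γ(X, U.1) Γ(Mero.kmod X, U.1) := (Mero.toK X U.1).toAlgebra
  have hU : IsAffineOpen U.1 := U.2
  refine (isLocalization_iff (nonZeroDivisors Γ(X, U.1)) Γ(Mero.kmod X, U.1)).mpr ⟨?_, ?_, ?_⟩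
  · rintro ⟨s, hs⟩
    show IsUnit (Mero.toK X U.1 s)
    have hreg : s ∈ Mero.regSub X U.1 := fun x => germ_mem_nzd hU s hs x.1 x.2
    let b : Mero.regSub X U.1 := ⟨s, hreg⟩
    let g : Γ(Mero.kmod X, U.1) := ⟨fun x => LocalizedModule.mk 1 (Mero.regGerm x b),
      fun x => ⟨U.1, x.2, 𝟙 _, 1, b, fun y => Mero.mk_congr (map_one _).symm rfl⟩⟩
    refine IsUnit.of_mul_eq_one g ?_
    apply Subtype.ext
    funext x
    change (LocalizedModule.mk (X.presheaf.germ U.1 x.1 x.2 s) 1 : Mero.KStalk X x.1) *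
      LocalizedModule.mk 1 (Mero.regGerm x b) = 1
    refine LocalizedModule.mk_mul_mk.trans ?_
    exact (Mero.mk_congr (mul_one _) (by rw [one_mul])).trans (Mero.mk_self_eq_one (Mero.regGerm x b))
  · intro f
    have hfinM : (minimalPrimes Γ(X, U.1)).Finite :=
      finite_minimalPrimes_of_finite_irreducibleComponents hU (hb U.1 hU.isCompact)
    let I : Ideal Γ(X, U.1) :=
      { carrier := {b | ∃ a, Mero.toK X U.1 b * f = Mero.toK X U.1 a}
        add_mem' := by
          rintro b c ⟨a, ha⟩ ⟨a', ha'⟩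
          exact ⟨a + a', by rw [map_add, add_mul, ha, ha', map_add]⟩
        zero_mem' := ⟨0, by rw [map_zero, zero_mul]⟩
        smul_mem' := by
          rintro c b ⟨a, ha⟩
          exact ⟨c * a, by rw [smul_eq_mul, map_mul, mul_assoc, ha, map_mul]⟩ }
    have hnot : ¬ ((I : Set Γ(X, U.1)) ⊆
        ⋃ Q ∈ (hfinM.toFinset : Set (Ideal Γ(X, U.1))), ((id Q : Ideal Γ(X, U.1)) : Set Γ(X, U.1))) := by
      intro hsub
      obtain ⟨Q, hQ', hIQ⟩ := (Ideal.subset_union_prime (s := hfinM.toFinset) (f := id) ⊥ ⊥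
        (fun i hi _ _ => ((hfinM.mem_toFinset.mp hi) : i ∈ minimalPrimes Γ(X, U.1)).1.1)).mp hsub
      have hQ : Q ∈ minimalPrimes Γ(X, U.1) := hfinM.mem_toFinset.mp hQ'
      haveI : Q.IsPrime := hQ.1.1
      obtain ⟨η, hηU, hηQ⟩ := Groth.Agent.Lib.Helper28.StalkAss.exists_point_of_prime hU Q
      have hmax := (Groth.Agent.Lib.Helper28.MaxPoint.isMaxPoint_iff_minimalPrimes hU η hηU).mpr
        (hηQ ▸ hQ)
      obtain ⟨b, hbQ, a, hba⟩ := exists_denom_notMem hU f η hηU hmax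
      have hbI : b ∈ I := ⟨a, hba⟩
      exact hbQ (hηQ ▸ hIQ hbI)
    obtain ⟨s, hsI, hsU⟩ := Set.not_subset.mp hnot
    have hs : s ∈ nonZeroDivisors Γ(X, U.1) := mem_nzd_of_avoid hU ha s (fun Q hQ hsQ =>
      hsU (Set.mem_biUnion (Finset.mem_coe.mpr (hfinM.mem_toFinset.mpr hQ)) hsQ))
    obtain ⟨a, ha'⟩ := hsI
    refine ⟨(a, ⟨s, hs⟩), ?_⟩
    show f * Mero.toK X U.1 s = Mero.toK X U.1 a
    rw [mul_comm]
    exact ha'
  · intro a b hab
    refine ⟨1, ?_⟩
    rw [OneMemClass.coe_one, one_mul, one_mul]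
    refine TopCat.Presheaf.section_ext X.sheaf U.1 a b fun x hx => ?_
    change X.presheaf.germ U.1 x hx a = X.presheaf.germ U.1 x hx b
    have h1 : (Mero.toK X U.1 a).1 ⟨x, hx⟩ = (Mero.toK X U.1 b).1 ⟨x, hx⟩ := by
      have h2 : Mero.toK X U.1 a = Mero.toK X U.1 b := hab
      rw [h2]
    rw [Mero.toK_apply, Mero.toK_apply, LocalizedModule.mk_eq] at h1
    obtain ⟨u, hu⟩ := h1
    simp only [one_smul, Submonoid.smul_def, smul_eq_mul] at hu
    have hnz := Mero.regStalk_le_nonZeroDivisors x u.2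
    have h5 : (u : X.presheaf.stalk x) *
        (X.presheaf.germ U.1 x hx a - X.presheaf.germ U.1 x hx b) = 0 := by
      rw [mul_sub, hu, sub_self]
    exact sub_eq_zero.mp ((mem_nonZeroDivisors_iff_left.mp hnz) _ h5)

/-- `S_x` is the set of all nonzerodivisors of `O_{X,x}` on a scheme whose weakly associated points are maximal
points and whose quasi-compact opens have finitely many irreducible components. -/
theorem regStalk_eq_of_weakAss (X : Scheme.{u})
    (ha : ∀ x : X, Curv2.IsWeakAssPoint (Coh.structureModule X) x → ∀ y : X, y ⤳ x → y = x)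
    (hb : ∀ U : X.Opens, IsCompact (U : Set X) → (irreducibleComponents ↥(U : Scheme.{u})).Finite)
    (x : X) : Mero.regStalk X x = nonZeroDivisors (X.presheaf.stalk x) := by
  classical
  apply le_antisymm (Mero.regStalk_le_nonZeroDivisors x)
  intro g hg
  obtain ⟨V, hxV, a', rfl⟩ := TopCat.Presheaf.exists_germ_eq X.presheaf g
  obtain ⟨_, ⟨W, hW, rfl⟩, hxW, hWV⟩ :=
    X.isBasis_affineOpens.exists_subset_of_mem_open hxV V.isOpen
  have hWV' : W ≤ V := hWV
  have hW' : IsAffineOpen W := hW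
  obtain ⟨a, hadef⟩ : ∃ a : Γ(X, W), a = X.presheaf.map (homOfLE hWV').op a' := ⟨_, rfl⟩
  have hga : X.presheaf.germ W x hxW a = X.presheaf.germ V x hxV a' := by
    rw [hadef, TopCat.Presheaf.germ_res_apply]
  rw [← hga] at hg ⊢
  have hfinM : (minimalPrimes Γ(X, W)).Finite :=
    finite_minimalPrimes_of_finite_irreducibleComponents hW' (hb W hW'.isCompact)
  -- (i) `a` avoids the minimal primes below the prime of `x`
  have hai : ∀ Q ∈ minimalPrimes Γ(X, W), Q ≤ (hW'.primeIdealOf ⟨x, hxW⟩).asIdeal → a ∉ Q := by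
    intro Q hQ hQle
    let _ : Algebra Γ(X, W) (X.presheaf.stalk x) :=
      TopCat.Presheaf.algebra_section_stalk X.presheaf (U := W) ⟨x, hxW⟩
    haveI hloc : IsLocalization.AtPrime (X.presheaf.stalk x) (hW'.primeIdealOf ⟨x, hxW⟩).asIdeal :=
      hW'.isLocalization_stalk ⟨x, hxW⟩
    exact notMem_minimalPrime_of_map_mem_nzd (S := X.presheaf.stalk x)
      (hW'.primeIdealOf ⟨x, hxW⟩).asIdeal Q hQ hQle a hg
  -- (ii) a function outside the prime of `x` lying in all the other minimal primes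
  have hex : ∀ Q : Ideal Γ(X, W), ¬ Q ≤ (hW'.primeIdealOf ⟨x, hxW⟩).asIdeal →
      ∃ q : Γ(X, W), q ∈ Q ∧ q ∉ (hW'.primeIdealOf ⟨x, hxW⟩).asIdeal :=
    fun Q h => SetLike.not_le_iff_exists.mp h
  choose! hq hq1 hq2 using hex
  obtain ⟨h, hdef⟩ : ∃ h : Γ(X, W), h = ∏ Q ∈ hfinM.toFinset.filter
      (fun Q => ¬ Q ≤ (hW'.primeIdealOf ⟨x, hxW⟩).asIdeal), hq Q := ⟨_, rfl⟩
  have hh𝔭 : h ∉ (hW'.primeIdealOf ⟨x, hxW⟩).asIdeal := by
    intro hmem
    rw [hdef] at hmem
    obtain ⟨Q, hQF, hQm⟩ := (Ideal.IsPrime.prod_mem_iff).mp hmem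
    exact hq2 Q (Finset.mem_filter.mp hQF).2 hQm
  have hhQ : ∀ Q ∈ minimalPrimes Γ(X, W), ¬ Q ≤ (hW'.primeIdealOf ⟨x, hxW⟩).asIdeal → h ∈ Q := by
    intro Q hQ hnle
    haveI : Q.IsPrime := hQ.1.1
    rw [hdef]
    exact (Ideal.IsPrime.prod_mem_iff).mpr
      ⟨Q, Finset.mem_filter.mpr ⟨hfinM.mem_toFinset.mpr hQ, hnle⟩, hq1 Q hnle⟩
  have hxh : x ∈ X.basicOpen h :=
    (Groth.Agent.Lib.Helper3.mem_basicOpen_iff_notMem_primeIdealOf hW' x hxW h).mpr hh𝔭
  have hunit : ∀ (y : X) (hy : y ∈ W) (c : Γ(X, W)), c ∉ (hW'.primeIdealOf ⟨y, hy⟩).asIdeal →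
      IsUnit (X.presheaf.germ W y hy c) := fun y hy c hc =>
    (Scheme.mem_basicOpen X c y hy).mp
      ((Groth.Agent.Lib.Helper3.mem_basicOpen_iff_notMem_primeIdealOf hW' y hy c).mpr hc)
  -- (iii) `a` is regular on `D(h)`
  refine ⟨X.basicOpen h, hxh, X.presheaf.map (homOfLE (X.basicOpen_le h)).op a, ?_,
    TopCat.Presheaf.germ_res_apply X.presheaf (homOfLE (X.basicOpen_le h)) x hxh a⟩
  intro y
  change X.presheaf.germ (X.basicOpen h) y.1 y.2 (X.presheaf.map (homOfLE (X.basicOpen_le h)).op a) ∈ _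
  rw [TopCat.Presheaf.germ_res_apply]
  have hyW : y.1 ∈ W := X.basicOpen_le h y.2
  rw [mem_nonZeroDivisors_iff_right]
  intro β hβ
  by_contra hβ0
  let _ : Algebra Γ(X, W) (X.presheaf.stalk y.1) :=
    TopCat.Presheaf.algebra_section_stalk X.presheaf (U := W) ⟨y.1, hyW⟩
  have hloc : IsLocalization.AtPrime (X.presheaf.stalk y.1) (hW'.primeIdealOf ⟨y.1, hyW⟩).asIdeal :=
    hW'.isLocalization_stalk ⟨y.1, hyW⟩
  obtain ⟨⟨b, c⟩, hbc⟩ := IsLocalization.surj (hW'.primeIdealOf ⟨y.1, hyW⟩).asIdeal.primeCompl β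
  have hbc' : β * X.presheaf.germ W y.1 hyW c.1 = X.presheaf.germ W y.1 hyW b := hbc
  have hcu : IsUnit (X.presheaf.germ W y.1 hyW c.1) := hunit y.1 hyW c.1 c.2
  have hb0 : X.presheaf.germ W y.1 hyW b ≠ 0 := by
    intro h0
    rw [h0] at hbc'
    exact hβ0 (hcu.mul_left_eq_zero.mp hbc')
  have hba : algebraMap Γ(X, W) (X.presheaf.stalk y.1) (b * a) = 0 := by
    change X.presheaf.germ W y.1 hyW (b * a) = 0
    rw [map_mul, ← hbc', mul_assoc, mul_comm (X.presheaf.germ W y.1 hyW c.1), ← mul_assoc, hβ,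
      zero_mul]
  obtain ⟨c', hc'⟩ := (IsLocalization.map_eq_zero_iff
    (hW'.primeIdealOf ⟨y.1, hyW⟩).asIdeal.primeCompl (X.presheaf.stalk y.1) (b * a)).mp hba
  have hb'a : c'.1 * b * a = 0 := by
    rw [mul_assoc]
    exact hc'
  have hb'y : X.presheaf.germ W y.1 hyW (c'.1 * b) ≠ 0 := by
    rw [map_mul]
    intro h0
    exact hb0 ((hunit y.1 hyW c'.1 c'.2).mul_right_eq_zero.mp h0)
  have hDh : IsAffineOpen (X.basicOpen h) := hW'.basicOpen h
  have hb''0 : X.presheaf.map (homOfLE (X.basicOpen_le h)).op (c'.1 * b) ≠ 0 := by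
    intro h0
    apply hb'y
    have h6 := congrArg (X.presheaf.germ (X.basicOpen h) y.1 y.2) h0
    rw [TopCat.Presheaf.germ_res_apply, map_zero] at h6
    exact h6
  obtain ⟨z, hz, hzw, hzb⟩ := exists_weakAssPoint_germ_ne_zero' hDh _ hb''0
  have hzW : z ∈ W := X.basicOpen_le h hz
  have hmaxz := ha z hzw
  have hQz := (Groth.Agent.Lib.Helper28.MaxPoint.isMaxPoint_iff_minimalPrimes hW' z hzW).mp hmaxz
  have hhz : h ∉ (hW'.primeIdealOf ⟨z, hzW⟩).asIdeal :=
    (Groth.Agent.Lib.Helper3.mem_basicOpen_iff_notMem_primeIdealOf hW' z hzW h).mp hz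
  have hle : (hW'.primeIdealOf ⟨z, hzW⟩).asIdeal ≤ (hW'.primeIdealOf ⟨x, hxW⟩).asIdeal := by
    by_contra hnle
    exact hhz (hhQ _ hQz hnle)
  have haz : a ∉ (hW'.primeIdealOf ⟨z, hzW⟩).asIdeal := hai _ hQz hle
  have hau : IsUnit (X.presheaf.germ W z hzW a) := hunit z hzW a haz
  have h7 : X.presheaf.germ W z hzW (c'.1 * b) * X.presheaf.germ W z hzW a = 0 := by
    rw [← map_mul, hb'a, map_zero]
  apply hzb
  rw [TopCat.Presheaf.germ_res_apply]
  exact hau.mul_left_eq_zero.mp h7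

end H16Mero
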