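import Mathlib
import Groth.Agent.Lib.Helper16.Mero.WeakAss
import Groth.Agent.Lib.Helper28.MeroBasic

/-!
# Meromorphic functions and maximal points

On a scheme whose weakly associated points are maximal points and whose quasi-compact opens have finitely many
irreducible components, a meromorphic function on an affine open is determined by (and can be prescribed through) its
values at the finitely many maximal points of the affine open.
-/

set_option autoImplicit false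
universe u
open CategoryTheory AlgebraicGeometry TopologicalSpace Opposite

namespace H16Mero

open Mero

variable {X : Scheme.{u}}

/-- A maximal point: a point without proper generizations. -/
def IsMax (η : X) : Prop := ∀ z : X, z ⤳ η → z = η

theorem kstalk_exists_mk {x : X} (v : KStalk X x) :
    ∃ (α : X.presheaf.stalk x) (σ : regStalk X x), v = LocalizedModule.mk α σ :=
  LocalizedModule.induction_on
    (β := fun v : KStalk X x => ∃ (α : X.presheaf.stalk x) (σ : regStalk X x), v = LocalizedModule.mk α σ)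
    (fun m s => ⟨m, s, rfl⟩) v

theorem algebraMap_eq_mk {x : X} (r : X.presheaf.stalk x) :
    algebraMap (X.presheaf.stalk x) (KStalk X x) r = LocalizedModule.mk r 1 := rfl

theorem mk_one_isUnit {x : X} {r : X.presheaf.stalk x} (hr : IsUnit r) :
    IsUnit (LocalizedModule.mk r 1 : KStalk X x) := by
  rw [← algebraMap_eq_mk]
  exact hr.map (algebraMap (X.presheaf.stalk x) (KStalk X x))

/-- At a maximal point every element of `K_{X,η}` comes from the local ring. -/
theorem exists_mk_one_eq_of_isMax {η : X} (hη : IsMax η) (v : KStalk X η) :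
    ∃ β : X.presheaf.stalk η, v = LocalizedModule.mk β 1 := by
  obtain ⟨α, σ, rfl⟩ := kstalk_exists_mk v
  have hu : IsUnit (σ : X.presheaf.stalk η) :=
    isUnit_of_mem_nzd_of_maxPoint η hη _ (regStalk_le_nonZeroDivisors η σ.2)
  obtain ⟨τ, hτ⟩ := hu.exists_right_inv
  refine ⟨α * τ, ?_⟩
  rw [LocalizedModule.mk_eq]
  refine ⟨1, ?_⟩
  simp only [one_smul, Submonoid.smul_def, smul_eq_mul]
  rw [mul_left_comm, hτ, mul_one]

theorem isUnit_germ_of_notMem {W : X.Opens} (hW : IsAffineOpen W) {η : X} (hηW : η ∈ W) (c : Γ(X, W))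
    (hc : c ∉ (hW.primeIdealOf ⟨η, hηW⟩).asIdeal) : IsUnit (X.presheaf.germ W η hηW c) :=
  (Scheme.mem_basicOpen X c η hηW).mp
    ((Groth.Agent.Lib.Helper3.mem_basicOpen_iff_notMem_primeIdealOf hW η hηW c).mpr hc)

theorem notMem_of_isUnit_germ {W : X.Opens} (hW : IsAffineOpen W) {η : X} (hηW : η ∈ W) (c : Γ(X, W))
    (hc : IsUnit (X.presheaf.germ W η hηW c)) : c ∉ (hW.primeIdealOf ⟨η, hηW⟩).asIdeal :=
  (Groth.Agent.Lib.Helper3.mem_basicOpen_iff_notMem_primeIdealOf hW η hηW c).mp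
    ((Scheme.mem_basicOpen X c η hηW).mpr hc)

/-- A function in the prime of a maximal point has nilpotent germ there. -/
theorem isNilpotent_germ_of_mem {W : X.Opens} (hW : IsAffineOpen W) {η : X} (hηW : η ∈ W) (hη : IsMax η)
    (h : Γ(X, W)) (hh : h ∈ (hW.primeIdealOf ⟨η, hηW⟩).asIdeal) :
    IsNilpotent (X.presheaf.germ W η hηW h) := by
  have hnu : ¬ IsUnit (X.presheaf.germ W η hηW h) := fun hu =>
    notMem_of_isUnit_germ hW hηW h hu hh
  have hm : X.presheaf.germ W η hηW h ∈ IsLocalRing.maximalIdeal (X.presheaf.stalk η) := by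
    rw [IsLocalRing.mem_maximalIdeal, mem_nonunits_iff]
    exact hnu
  have hmin := Groth.Agent.Lib.Helper28.MaxPoint.maximalIdeal_mem_minimalPrimes_stalk η hη
  rw [← mem_nilradical, nilradical_eq_sInf, Ideal.mem_sInf]
  intro J hJ
  have hJp : J.IsPrime := hJ
  exact hmin.2 ⟨hJp, bot_le⟩ (IsLocalRing.le_maximalIdeal hJp.ne_top) hm

theorem primeIdealOf_injective {W : X.Opens} (hW : IsAffineOpen W) {x y : X} (hx : x ∈ W) (hy : y ∈ W)
    (h : hW.primeIdealOf ⟨x, hx⟩ = hW.primeIdealOf ⟨y, hy⟩) : x = y := by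
  have h1 := hW.fromSpec_primeIdealOf ⟨x, hx⟩
  have h2 := hW.fromSpec_primeIdealOf ⟨y, hy⟩
  rw [h] at h1
  exact h1.symm.trans h2

section Star

variable (ha : ∀ x : X, Curv2.IsWeakAssPoint (Coh.structureModule X) x → ∀ y : X, y ⤳ x → y = x)
  (hb : ∀ U : X.Opens, IsCompact (U : Set X) → (irreducibleComponents ↥(U : Scheme.{u})).Finite)

include ha hb in
theorem isUnit_toK_of_nzd {W : X.Opens} (hW : IsAffineOpen W) (s : Γ(X, W))
    (hs : s ∈ nonZeroDivisors Γ(X, W)) : IsUnit (toK X W s) := by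
  letI : Algebra Γ(X, W) Γ(Mero.kmod X, W) := (Mero.toK X W).toAlgebra
  haveI := isLocalization_kmod_of_weakAss X ha hb ⟨W, hW⟩
  exact IsLocalization.map_units (M := nonZeroDivisors Γ(X, W)) Γ(Mero.kmod X, W) ⟨s, hs⟩

include ha hb in
theorem exists_frac {W : X.Opens} (hW : IsAffineOpen W) (f : Γ(kmod X, W)) :
    ∃ a s : Γ(X, W), s ∈ nonZeroDivisors Γ(X, W) ∧ IsUnit (toK X W s) ∧
      f * toK X W s = toK X W a := by
  letI : Algebra Γ(X, W) Γ(Mero.kmod X, W) := (Mero.toK X W).toAlgebra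
  haveI := isLocalization_kmod_of_weakAss X ha hb ⟨W, hW⟩
  obtain ⟨⟨a, s⟩, h⟩ := IsLocalization.surj (nonZeroDivisors Γ(X, W)) f
  exact ⟨a, s.1, s.2, isUnit_toK_of_nzd ha hb hW s.1 s.2, h⟩

include ha hb in
/-- A meromorphic function on an affine open vanishing at all maximal points is zero. -/
theorem kmod_eq_zero_of_maxPoints {W : X.Opens} (hW : IsAffineOpen W) (f : Γ(kmod X, W))
    (h0 : ∀ (η : X) (hη : η ∈ W), IsMax η → f.1 ⟨η, hη⟩ = 0) : f = 0 := by
  obtain ⟨a, s, hs, hsu, hfs⟩ := exists_frac ha hb hW f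
  have ha0 : a = 0 := by
    by_contra hne
    obtain ⟨z, hz, hzw, hzy⟩ := exists_weakAssPoint_germ_ne_zero' hW a hne
    apply hzy
    have h1 : (f * toK X W s).1 ⟨z, hz⟩ = (toK X W a).1 ⟨z, hz⟩ := by rw [hfs]
    rw [kmod_mul_apply, h0 z hz (ha z hzw), zero_mul, toK_apply] at h1
    exact (Groth.Agent.Lib.Helper28.MeroBasic.mk_eq_zero_iff _ _).mp h1.symm
  rw [ha0, map_zero] at hfs
  exact hsu.mul_left_eq_zero.mp hfs

include ha hb in
/-- Two meromorphic functions on an affine open agreeing at all maximal points are equal. -/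
theorem kmod_eq_of_maxPoints {W : X.Opens} (hW : IsAffineOpen W) (f₁ f₂ : Γ(kmod X, W))
    (h : ∀ (η : X) (hη : η ∈ W), IsMax η → f₁.1 ⟨η, hη⟩ = f₂.1 ⟨η, hη⟩) : f₁ = f₂ := by
  have h0 : f₁ - f₂ = 0 := kmod_eq_zero_of_maxPoints ha hb hW (f₁ - f₂) (fun η hη hmax => by
    show f₁.1 ⟨η, hη⟩ - f₂.1 ⟨η, hη⟩ = 0
    rw [h η hη hmax, sub_self])
  exact sub_eq_zero.mp h0

include hb in
/-- An affine open has finitely many maximal points. -/
theorem finite_maxPoints {W : X.Opens} (hW : IsAffineOpen W) : {η : X | η ∈ W ∧ IsMax η}.Finite := by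
  classical
  have hfinM := finite_minimalPrimes_of_finite_irreducibleComponents hW (hb W hW.isCompact)
  refine Set.Finite.of_injOn
    (f := fun η : X => if h : η ∈ W then (hW.primeIdealOf ⟨η, h⟩).asIdeal else ⊥) ?_ ?_ hfinM
  · rintro η ⟨hηW, hη⟩
    show (if h : η ∈ W then (hW.primeIdealOf ⟨η, h⟩).asIdeal else ⊥) ∈ minimalPrimes Γ(X, W)
    rw [dif_pos hηW]
    exact (Groth.Agent.Lib.Helper28.MaxPoint.isMaxPoint_iff_minimalPrimes hW η hηW).mp hη
  · rintro η₁ ⟨h₁, -⟩ η₂ ⟨h₂, -⟩ heq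
    have heq' : (if h : η₁ ∈ W then (hW.primeIdealOf ⟨η₁, h⟩).asIdeal else ⊥) =
        (if h : η₂ ∈ W then (hW.primeIdealOf ⟨η₂, h⟩).asIdeal else ⊥) := heq
    rw [dif_pos h₁, dif_pos h₂] at heq'
    exact primeIdealOf_injective hW h₁ h₂ (PrimeSpectrum.ext heq')

omit ha hb

theorem exists_sep_pair {W : X.Opens} (hW : IsAffineOpen W) {η η' : X} (hηW : η ∈ W) (hη'W : η' ∈ W)
    (hη : IsMax η) (hη' : IsMax η') (hne : η' ≠ η) :
    ∃ c : Γ(X, W), c ∉ (hW.primeIdealOf ⟨η, hηW⟩).asIdeal ∧ X.presheaf.germ W η' hη'W c = 0 := by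
  have hQ := (Groth.Agent.Lib.Helper28.MaxPoint.isMaxPoint_iff_minimalPrimes hW η hηW).mp hη
  have hQ' := (Groth.Agent.Lib.Helper28.MaxPoint.isMaxPoint_iff_minimalPrimes hW η' hη'W).mp hη'
  have hnle : ¬ (hW.primeIdealOf ⟨η', hη'W⟩).asIdeal ≤ (hW.primeIdealOf ⟨η, hηW⟩).asIdeal := by
    intro hle
    have hge := hQ.2 hQ'.1 hle
    exact hne (primeIdealOf_injective hW hη'W hηW (PrimeSpectrum.ext (le_antisymm hle hge)))
  obtain ⟨q, hq', hq⟩ := SetLike.not_le_iff_exists.mp hnle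
  obtain ⟨N, hN⟩ := isNilpotent_germ_of_mem hW hη'W hη' q hq'
  refine ⟨q ^ N, fun hmem => hq ((hW.primeIdealOf ⟨η, hηW⟩).isPrime.mem_of_pow_mem N hmem), ?_⟩
  rw [map_pow]
  exact hN

theorem exists_sep {W : X.Opens} (hW : IsAffineOpen W) {η : X} (hηW : η ∈ W) (hη : IsMax η)
    (M : Finset X) (hM : ∀ η' ∈ M, η' ∈ W ∧ IsMax η') :
    ∃ e : Γ(X, W), e ∉ (hW.primeIdealOf ⟨η, hηW⟩).asIdeal ∧
      ∀ η' ∈ M, ∀ h : η' ∈ W, η' ≠ η → X.presheaf.germ W η' h e = 0 := by
  classical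
  induction M using Finset.induction_on with
  | empty =>
    exact ⟨1, fun h => (hW.primeIdealOf ⟨η, hηW⟩).isPrime.ne_top ((Ideal.eq_top_iff_one _).mpr h),
      fun η' h => absurd h (Finset.notMem_empty η')⟩
  | insert a M' haM ih =>
    obtain ⟨e, he, he0⟩ := ih (fun η' h => hM η' (Finset.mem_insert_of_mem h))
    by_cases hane : a = η
    · refine ⟨e, he, fun η' hη' hW' hne => ?_⟩
      rcases Finset.mem_insert.mp hη' with h | h
      · exact absurd (h.trans hane) hne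
      · exact he0 η' h hW' hne
    · obtain ⟨c, hc, hc0⟩ := exists_sep_pair hW hηW (hM a (Finset.mem_insert_self a M')).1 hη
        (hM a (Finset.mem_insert_self a M')).2 hane
      refine ⟨c * e, fun hmem =>
        ((hW.primeIdealOf ⟨η, hηW⟩).isPrime.mem_or_mem hmem).elim hc he, fun η' hη' hW' hne => ?_⟩
      rw [map_mul]
      rcases Finset.mem_insert.mp hη' with h | h
      · subst h
        rw [hc0, zero_mul]
      · rw [he0 η' h hW' hne, mul_zero]

include ha hb in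
/-- Prescribing the values of a meromorphic function at the maximal points of an affine open. -/
theorem exists_kmod_of_values {W : X.Opens} (hW : IsAffineOpen W) (v : ∀ η : X, KStalk X η) :
    ∃ f : Γ(kmod X, W), ∀ (η : X) (hη : η ∈ W), IsMax η → f.1 ⟨η, hη⟩ = v η := by
  classical
  obtain ⟨M, hMdef⟩ : ∃ M : Finset X, M = (finite_maxPoints hb hW).toFinset := ⟨_, rfl⟩
  have hM : ∀ η ∈ M, η ∈ W ∧ IsMax η := fun η h => by
    rw [hMdef] at h
    exact (finite_maxPoints hb hW).mem_toFinset.mp h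
  have hM' : ∀ η, η ∈ W → IsMax η → η ∈ M := fun η h1 h2 => by
    rw [hMdef]
    exact (finite_maxPoints hb hW).mem_toFinset.mpr ⟨h1, h2⟩
  have hdata : ∀ η : X, ∃ (a t e : Γ(X, W)), η ∈ M → ∀ hηW : η ∈ W,
      t ∉ (hW.primeIdealOf ⟨η, hηW⟩).asIdeal ∧ e ∉ (hW.primeIdealOf ⟨η, hηW⟩).asIdeal ∧
      (∀ η' ∈ M, ∀ h : η' ∈ W, η' ≠ η → X.presheaf.germ W η' h e = 0) ∧
      ∃ β : X.presheaf.stalk η, v η = LocalizedModule.mk β 1 ∧
        β * X.presheaf.germ W η hηW t = X.presheaf.germ W η hηW a := by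
    intro η
    by_cases hηM : η ∈ M
    · obtain ⟨hηW, hη⟩ := hM η hηM
      obtain ⟨β, hβ⟩ := exists_mk_one_eq_of_isMax hη (v η)
      let _ : Algebra Γ(X, W) (X.presheaf.stalk η) :=
        TopCat.Presheaf.algebra_section_stalk X.presheaf (U := W) ⟨η, hηW⟩
      haveI hloc : IsLocalization.AtPrime (X.presheaf.stalk η) (hW.primeIdealOf ⟨η, hηW⟩).asIdeal :=
        hW.isLocalization_stalk ⟨η, hηW⟩
      obtain ⟨⟨a, t⟩, hat⟩ := IsLocalization.surj (hW.primeIdealOf ⟨η, hηW⟩).asIdeal.primeCompl β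
      have hat' : β * X.presheaf.germ W η hηW t.1 = X.presheaf.germ W η hηW a := hat
      obtain ⟨e, he, he0⟩ := exists_sep hW hηW hη M hM
      exact ⟨a, t.1, e, fun _ _ => ⟨t.2, he, he0, β, hβ, hat'⟩⟩
    · exact ⟨0, 0, 0, fun h => absurd h hηM⟩
  choose a t e hdata using hdata
  have hgerm_sum : ∀ (c : X → Γ(X, W)) (η : X) (_ : η ∈ M) (hηW : η ∈ W),
      X.presheaf.germ W η hηW (∑ η' ∈ M, e η' * c η') =
        X.presheaf.germ W η hηW (e η) * X.presheaf.germ W η hηW (c η) := by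
    intro c η hηM hηW
    rw [map_sum, Finset.sum_eq_single η]
    · rw [map_mul]
    · intro η' hη'M hne
      rw [map_mul, (hdata η' hη'M (hM η' hη'M).1).2.2.1 η hηM hηW (Ne.symm hne), zero_mul]
    · intro h
      exact absurd hηM h
  obtain ⟨A, hAdef⟩ : ∃ A : Γ(X, W), A = ∑ η' ∈ M, e η' * a η' := ⟨_, rfl⟩
  obtain ⟨T, hTdef⟩ : ∃ T : Γ(X, W), T = ∑ η' ∈ M, e η' * t η' := ⟨_, rfl⟩
  have hTnzd : T ∈ nonZeroDivisors Γ(X, W) := by
    refine mem_nzd_of_avoid hW ha T (fun Q hQ hTQ => ?_)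
    haveI : Q.IsPrime := hQ.1.1
    obtain ⟨η, hηW, hηQ⟩ := Groth.Agent.Lib.Helper28.StalkAss.exists_point_of_prime hW Q
    have hη : IsMax η := (Groth.Agent.Lib.Helper28.MaxPoint.isMaxPoint_iff_minimalPrimes hW η hηW).mpr
      (by rw [hηQ]; exact hQ)
    have hηM := hM' η hηW hη
    have hd := hdata η hηM hηW
    have hu : IsUnit (X.presheaf.germ W η hηW T) := by
      rw [hTdef, hgerm_sum t η hηM hηW]
      exact (isUnit_germ_of_notMem hW hηW _ hd.2.1).mul (isUnit_germ_of_notMem hW hηW _ hd.1)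
    exact notMem_of_isUnit_germ hW hηW T hu (by rw [hηQ]; exact hTQ)
  have hTreg : T ∈ regSub X W := fun x => germ_mem_nzd hW T hTnzd x.1 x.2
  let b : regSub X W := ⟨T, hTreg⟩
  let f : Γ(kmod X, W) := ⟨fun x => LocalizedModule.mk (X.presheaf.germ W x.1 x.2 A) (regGerm x b),
    fun x => ⟨W, x.2, 𝟙 _, A, b, fun y => rfl⟩⟩
  refine ⟨f, fun η hηW hη => ?_⟩
  have hηM := hM' η hηW hη
  obtain ⟨-, -, -, β, hβ, hat⟩ := hdata η hηM hηW
  show (LocalizedModule.mk (X.presheaf.germ W η hηW A) (regGerm ⟨η, hηW⟩ b) : KStalk X η) = v η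
  rw [hβ, LocalizedModule.mk_eq]
  refine ⟨1, ?_⟩
  show (1 : regStalk X η) • (1 : regStalk X η) • X.presheaf.germ W η hηW A =
    (1 : regStalk X η) • (regGerm ⟨η, hηW⟩ b) • β
  rw [one_smul, one_smul, one_smul]
  show X.presheaf.germ W η hηW A = X.presheaf.germ W η hηW T * β
  rw [hAdef, hTdef, hgerm_sum a η hηM hηW, hgerm_sum t η hηM hηW, ← hat]
  ring

include ha hb in
/-- A meromorphic function on an affine open whose values at the maximal points are units is a unit. -/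
theorem isUnit_kmod_of_values {W : X.Opens} (hW : IsAffineOpen W) (f : Γ(kmod X, W))
    (hu : ∀ (η : X) (hη : η ∈ W), IsMax η → IsUnit (f.1 ⟨η, hη⟩)) : IsUnit f := by
  obtain ⟨a, s, hs, hsu, hfs⟩ := exists_frac ha hb hW f
  have hanzd : a ∈ nonZeroDivisors Γ(X, W) := by
    refine mem_nzd_of_avoid hW ha a (fun Q hQ haQ => ?_)
    haveI : Q.IsPrime := hQ.1.1
    obtain ⟨η, hηW, hηQ⟩ := Groth.Agent.Lib.Helper28.StalkAss.exists_point_of_prime hW Q
    have hη : IsMax η := (Groth.Agent.Lib.Helper28.MaxPoint.isMaxPoint_iff_minimalPrimes hW η hηW).mpr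
      (by rw [hηQ]; exact hQ)
    have hnil : IsNilpotent (X.presheaf.germ W η hηW a) :=
      isNilpotent_germ_of_mem hW hηW hη a (by rw [hηQ]; exact haQ)
    have h1 : (f * toK X W s).1 ⟨η, hηW⟩ = (toK X W a).1 ⟨η, hηW⟩ := by rw [hfs]
    simp only [kmod_mul_apply, toK_apply] at h1
    have hunit : IsUnit (LocalizedModule.mk (X.presheaf.germ W η hηW a) 1 : KStalk X η) := by
      rw [← h1]
      exact (hu η hηW hη).mul (hsu.map (evalK X W ⟨η, hηW⟩))
    obtain ⟨n, hn⟩ := hnil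
    have h0 : (LocalizedModule.mk (X.presheaf.germ W η hηW a) 1 : KStalk X η) ^ n = 0 := by
      have h2 := congrArg (algebraMap (X.presheaf.stalk η) (KStalk X η)) hn
      rw [map_pow, map_zero] at h2
      exact h2
    have h3 := hunit.pow n
    rw [h0] at h3
    exact not_isUnit_zero h3
  have hau := isUnit_toK_of_nzd ha hb hW a hanzd
  rw [← hfs] at hau
  exact isUnit_of_mul_isUnit_left hau

end Star

end H16Mero
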