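import Mathlib
import Groth.Agent.Lib.Helper16.Mero.GenPt
import Groth.Agent.Lib.Helper3.InvCoh
import Groth.Agent.Lib.Helper3.InvGen

/-!
# An invertible module is trivial on a neighbourhood of finitely many points of an affine open
-/

set_option autoImplicit false
universe u
open CategoryTheory AlgebraicGeometry TopologicalSpace Opposite

namespace H16Mero

open Groth.Agent.Lib.Helper3.InvGen Groth.Agent.Lib.Helper3.QCSec

variable {X : Scheme.{u}}

/-- In a local ring, a unit plus a sum of multiples of nonunits is a unit. -/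
theorem isUnit_add_sum {R : Type*} [CommRing R] [IsLocalRing R] {ι : Type*} (s : Finset ι) (u : R)
    (hu : IsUnit u) (a b : ι → R) (ha : ∀ i ∈ s, ¬ IsUnit (a i)) :
    IsUnit (u + ∑ i ∈ s, a i * b i) := by
  by_contra hnu
  have h1 : u + ∑ i ∈ s, a i * b i ∈ IsLocalRing.maximalIdeal R := by
    rw [IsLocalRing.mem_maximalIdeal, mem_nonunits_iff]
    exact hnu
  have h2 : ∑ i ∈ s, a i * b i ∈ IsLocalRing.maximalIdeal R :=
    Ideal.sum_mem _ (fun i hi => Ideal.mul_mem_right _ _ (by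
      rw [IsLocalRing.mem_maximalIdeal, mem_nonunits_iff]
      exact ha i hi))
  have h3 : u ∈ IsLocalRing.maximalIdeal R := by
    have h4 := Ideal.sub_mem _ h1 h2
    rwa [add_sub_cancel_right] at h4
  rw [IsLocalRing.mem_maximalIdeal, mem_nonunits_iff] at h3
  exact h3 hu

theorem res_sum (M : X.Modules) {A B : X.Opens} (h : A ≤ B) {ι : Type*} (s : Finset ι)
    (f : ι → Γ(M, B)) : res M h (∑ i ∈ s, f i) = ∑ i ∈ s, res M h (f i) :=
  _root_.map_sum _ f s

/-- Given finitely many pairwise incomparable points of an affine open `W`, an invertible module has a generator on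
a basic open of `W` containing all of them. -/
theorem exists_basicOpen_isGen_of_finite {L : X.Modules} (hL : PicF.IsInvertible L) {W : X.Opens}
    (hW : IsAffineOpen W) (T : Finset X) (hTW : ∀ x ∈ T, x ∈ W)
    (hinc : ∀ x ∈ T, ∀ y ∈ T, y ⤳ x → y = x) :
    ∃ (h : Γ(X, W)) (e : Γ(L, X.basicOpen h)),
      (∀ x ∈ T, x ∈ X.basicOpen h) ∧ IsGen L (X.basicOpen h) e := by
  classical
  haveI := Groth.Agent.Lib.Helper3.InvCoh.isQuasicoherent_of_isInvertible hL
  -- (1) charts
  have hchart : ∀ x : X, ∃ (hx : Γ(X, W)) (εt : Γ(L, W)), x ∈ T →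
      (x ∈ X.basicOpen hx ∧ IsGen L (X.basicOpen hx) (res L (X.basicOpen_le hx) εt)) := by
    intro x
    by_cases hxT : x ∈ T
    · have hxW := hTW x hxT
      obtain ⟨U, e, hU, hxU, hUW, hg⟩ := exists_affine_isGen_le hL x W hxW
      obtain ⟨f, hfU, hxf⟩ := hW.exists_basicOpen_le (V := U) ⟨x, hxU⟩ hxW
      have hloc := isLocSec_of_isQuasicoherent L hW f (X.basicOpen f) rfl (X.basicOpen_le f)
      obtain ⟨n, εt, hεt⟩ := hloc.surj (res L hfU e)
      refine ⟨f, εt, fun _ => ⟨hxf, ?_⟩⟩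
      rw [hεt]
      have hfu : IsUnit (rres X (X.basicOpen_le f) f) := X.toRingedSpace.isUnit_res_basicOpen f
      exact (hg.mono hfU).smul_unit (hfu.pow n)
    · exact ⟨0, 0, fun h => absurd h hxT⟩
  choose hh εt hchart using hchart
  -- (2) separating functions
  have hq : ∀ x y : X, ∃ q : Γ(X, W), x ∈ T → y ∈ T → y ≠ x → ∀ (hx : x ∈ W) (hy : y ∈ W),
      q ∈ (hW.primeIdealOf ⟨y, hy⟩).asIdeal ∧ q ∉ (hW.primeIdealOf ⟨x, hx⟩).asIdeal := by
    intro x y
    by_cases hc : x ∈ T ∧ y ∈ T ∧ y ≠ x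
    · obtain ⟨hxT, hyT, hne⟩ := hc
      have hnle : ¬ (hW.primeIdealOf ⟨y, hTW y hyT⟩).asIdeal ≤
          (hW.primeIdealOf ⟨x, hTW x hxT⟩).asIdeal := fun hle =>
        hne (hinc x hxT y hyT
          ((Groth.Agent.Lib.Helper3.primeIdealOf_le_iff_specializes hW y x _ _).mp hle))
      obtain ⟨q, hq1, hq2⟩ := SetLike.not_le_iff_exists.mp hnle
      exact ⟨q, fun _ _ _ _ _ => ⟨hq1, hq2⟩⟩
    · exact ⟨0, fun h1 h2 h3 => absurd ⟨h1, h2, h3⟩ hc⟩
  choose q hq using hq
  obtain ⟨c, hcdef⟩ : ∃ c : X → Γ(X, W), ∀ x, c x = ∏ y ∈ T.erase x, q x y := ⟨_, fun _ => rfl⟩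
  have hc_unit : ∀ x ∈ T, ∀ hx : x ∈ W, IsUnit (X.presheaf.germ W x hx (c x)) := by
    intro x hxT hx
    refine isUnit_germ_of_notMem hW hx (c x) (fun hmem => ?_)
    rw [hcdef] at hmem
    obtain ⟨y, hyE, hqm⟩ := (Ideal.IsPrime.prod_mem_iff).mp hmem
    have hy := Finset.mem_erase.mp hyE
    exact (hq x y hxT hy.2 hy.1 hx (hTW y hy.2)).2 hqm
  have hc_non : ∀ x ∈ T, ∀ y ∈ T, y ≠ x → ∀ hy : y ∈ W,
      ¬ IsUnit (X.presheaf.germ W y hy (c x)) := by
    intro x hxT y hyT hne hy hu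
    refine notMem_of_isUnit_germ hW hy (c x) hu ?_
    rw [hcdef, ← Finset.mul_prod_erase (T.erase x) (q x) (Finset.mem_erase.mpr ⟨hne, hyT⟩)]
    exact Ideal.mul_mem_right _ _ (hq x y hxT hyT hne (hTW x hxT) hy).1
  -- (3) the section
  obtain ⟨e', he'def⟩ : ∃ e' : Γ(L, W), e' = ∑ x ∈ T, c x • εt x := ⟨_, rfl⟩
  -- (4) local generation near each point of `T`
  have hk : ∀ x : X, ∃ k : Γ(X, W), x ∈ T →
      (x ∈ X.basicOpen k ∧ IsGen L (X.basicOpen k) (res L (X.basicOpen_le k) e')) := by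
    intro x
    by_cases hxT : x ∈ T
    swap
    · exact ⟨0, fun h => absurd h hxT⟩
    have hxW := hTW x hxT
    obtain ⟨hxh, hgx⟩ := hchart x hxT
    have hDW : X.basicOpen (hh x) ≤ W := X.basicOpen_le _
    have hr : ∀ y : X, ∃ r : Γ(X, X.basicOpen (hh x)),
        r • res L hDW (εt x) = res L hDW (εt y) := fun y => hgx.self.exists_coord _
    choose r hr using hr
    obtain ⟨ρ, hρdef⟩ : ∃ ρ : Γ(X, X.basicOpen (hh x)),
        ρ = ∑ y ∈ T, rres X hDW (c y) * r y := ⟨_, rfl⟩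
    have he'ρ : res L hDW e' = ρ • res L hDW (εt x) := by
      rw [he'def, hρdef, res_sum, Finset.sum_smul]
      refine Finset.sum_congr rfl fun y _ => ?_
      rw [res_smul, mul_smul, hr y]
    have hρu : IsUnit (X.presheaf.germ (X.basicOpen (hh x)) x hxh ρ) := by
      have hsplit : ρ = rres X hDW (c x) * r x + ∑ y ∈ T.erase x, rres X hDW (c y) * r y := by
        rw [hρdef]
        exact (Finset.add_sum_erase T _ hxT).symm
      have hrx : r x = 1 := hgx.self.smul_inj (by rw [hr x, one_smul])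
      rw [hsplit, map_add, map_sum, hrx, mul_one]
      simp only [map_mul]
      refine isUnit_add_sum (T.erase x) _ ?_ _ _ ?_
      · rw [TopCat.Presheaf.germ_res_apply]
        exact hc_unit x hxT hxW
      · intro y hy
        rw [TopCat.Presheaf.germ_res_apply]
        exact hc_non y (Finset.mem_erase.mp hy).2 x hxT (Finset.mem_erase.mp hy).1.symm hxW
    have hxρ : x ∈ X.basicOpen ρ := (Scheme.mem_basicOpen X ρ x hxh).mpr hρu
    obtain ⟨k, hkρ, hxk⟩ := hW.exists_basicOpen_le (V := X.basicOpen ρ) ⟨x, hxρ⟩ hxW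
    refine ⟨k, fun _ => ⟨hxk, ?_⟩⟩
    have hρD : X.basicOpen ρ ≤ X.basicOpen (hh x) := X.basicOpen_le ρ
    have hgen : IsGen L (X.basicOpen ρ) (res L (hρD.trans hDW) e') := by
      have h1 : res L (hρD.trans hDW) e' = rres X hρD ρ • res L hρD (res L hDW (εt x)) := by
        rw [← res_res L hρD hDW e', he'ρ, res_smul]
      rw [h1]
      exact (hgx.mono hρD).smul_unit (X.toRingedSpace.isUnit_res_basicOpen ρ)
    have h2 := hgen.mono hkρ
    rwa [res_res] at h2
  choose k hk using hk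
  -- (5) the function `h`
  obtain ⟨h, hhdef⟩ : ∃ h : Γ(X, W), h = ∑ x ∈ T, c x * k x := ⟨_, rfl⟩
  refine ⟨h, res L (X.basicOpen_le h) e', ?_, ?_⟩
  · intro x hxT
    have hxW := hTW x hxT
    apply (Scheme.mem_basicOpen X h x hxW).mpr
    have hsplit : h = c x * k x + ∑ y ∈ T.erase x, c y * k y := by
      rw [hhdef]
      exact (Finset.add_sum_erase T _ hxT).symm
    rw [hsplit, map_add, map_sum]
    simp only [map_mul]
    refine isUnit_add_sum (T.erase x) _ ?_ _ _ ?_
    · exact (hc_unit x hxT hxW).mul ((Scheme.mem_basicOpen X (k x) x hxW).mp (hk x hxT).1)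
    · intro y hy
      exact hc_non y (Finset.mem_erase.mp hy).2 x hxT (Finset.mem_erase.mp hy).1.symm hxW
  · apply isGen_of_local
    intro z hz
    have hzW : z ∈ W := X.basicOpen_le h hz
    have hu : IsUnit (X.presheaf.germ W z hzW h) := (Scheme.mem_basicOpen X h z hzW).mp hz
    have hex : ∃ y ∈ T, IsUnit (X.presheaf.germ W z hzW (c y * k y)) := by
      by_contra hno
      push_neg at hno
      have hm : X.presheaf.germ W z hzW h ∈ IsLocalRing.maximalIdeal (X.presheaf.stalk z) := by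
        rw [hhdef, map_sum]
        exact Ideal.sum_mem _ (fun y hy => by
          rw [IsLocalRing.mem_maximalIdeal, mem_nonunits_iff]
          exact hno y hy)
      rw [IsLocalRing.mem_maximalIdeal, mem_nonunits_iff] at hm
      exact hm hu
    obtain ⟨y, hyT, hyu⟩ := hex
    rw [map_mul] at hyu
    have hzk : z ∈ X.basicOpen (k y) :=
      (Scheme.mem_basicOpen X (k y) z hzW).mpr (isUnit_of_mul_isUnit_right hyu)
    refine ⟨X.basicOpen h ⊓ X.basicOpen (k y), inf_le_left, Opens.mem_inf.mpr ⟨hz, hzk⟩, ?_⟩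
    rw [res_res]
    have h2 := (hk y hyT).2.mono
      (inf_le_right : X.basicOpen h ⊓ X.basicOpen (k y) ≤ X.basicOpen (k y))
    rwa [res_res] at h2

end H16Mero
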