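import Mathlib
import Groth.Agent.Lib.Helper16.Mero.GenPt
import Groth.Agent.Lib.Helper3.InvGen
import Groth.Agent.S8869

/-!
# Existence of regular meromorphic sections of invertible modules

On a scheme whose weakly associated points are maximal points and whose quasi-compact opens have finitely many
irreducible components, every invertible module has a regular meromorphic section (the family of chosen
generators at the maximal points).
-/

set_option autoImplicit false
universe u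
open CategoryTheory AlgebraicGeometry TopologicalSpace Opposite

namespace H16Mero

open Mero
open Groth.Agent.Lib.Helper3.InvGen Groth.Agent.Lib.Helper3.QCSec

variable {X : Scheme.{u}}

/-- The germ of a local generator is a free generator of the stalk (injectivity part). -/
theorem germ_smul_eq_zero {L : X.Modules} {U : X.Opens} {e : Γ(L, U)} (hg : IsGen L U e) {x : X}
    (hx : x ∈ U) (r : X.presheaf.stalk x) (h : r • L.presheaf.germ U x hx e = 0) : r = 0 := by
  obtain ⟨V, hxV, ρ, rfl⟩ := TopCat.Presheaf.exists_germ_eq X.presheaf r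
  have hx' : x ∈ V ⊓ U := Opens.mem_inf.mpr ⟨hxV, hx⟩
  have hl : V ⊓ U ≤ V := inf_le_left
  have hr : V ⊓ U ≤ U := inf_le_right
  have h1 : L.presheaf.germ (V ⊓ U) x hx' (rres X hl ρ • res L hr e) = 0 := by
    rw [Mero.germ_smul, TopCat.Presheaf.germ_res_apply, TopCat.Presheaf.germ_res_apply]
    exact h
  obtain ⟨W', hxW', i, i', hres⟩ := TopCat.Presheaf.germ_eq L.presheaf x hx' hx'
    (rres X hl ρ • res L hr e) 0 (by rw [h1, map_zero])
  rw [map_zero] at hres
  have hle : W' ≤ V ⊓ U := i.le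
  have h2 : res L hle (rres X hl ρ • res L hr e) = 0 := hres
  rw [res_smul, res_res, rres_rres] at h2
  have h3 := (hg W' (hle.trans hr)).eq_zero h2
  rw [← TopCat.Presheaf.germ_res_apply X.presheaf (homOfLE (hle.trans hl)) x hxW' ρ]
  show X.presheaf.germ W' x hxW' (rres X (hle.trans hl) ρ) = 0
  rw [h3, map_zero]

/-- The germ of a local generator is a free generator of the localized stalk (injectivity part). -/
theorem smul_mk_germ_eq_zero {L : X.Modules} {U : X.Opens} {e : Γ(L, U)} (hg : IsGen L U e) {x : X}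
    (hx : x ∈ U) (q : KStalk X x)
    (h : q • (LocalizedModule.mk (L.presheaf.germ U x hx e) 1 : MStalk L x) = 0) : q = 0 := by
  obtain ⟨α, σ, rfl⟩ := kstalk_exists_mk q
  have h1 : (LocalizedModule.mk α σ : KStalk X x) •
      (LocalizedModule.mk (L.presheaf.germ U x hx e) 1 : MStalk L x) =
      LocalizedModule.mk (α • L.presheaf.germ U x hx e) (σ * 1) :=
    LocalizedModule.mk_smul_mk α _ σ 1
  rw [h1, ← LocalizedModule.zero_mk (1 : regStalk X x), LocalizedModule.mk_eq] at h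
  obtain ⟨t, ht⟩ := h
  simp only [smul_zero, one_smul, Submonoid.smul_def, smul_smul] at ht
  have h2 := germ_smul_eq_zero hg hx _ ht
  have h3 : α = 0 :=
    (mul_left_mem_nonZeroDivisors_eq_zero_iff (regStalk_le_nonZeroDivisors x t.2)).mp h2
  rw [h3]
  exact LocalizedModule.zero_mk σ

/-- The cocycle identity for the transition functions of local generators, on germs. -/
theorem cocycle_germ {L : X.Modules} {W₁ W₂ W₃ : X.Opens} {e₁ : Γ(L, W₁)} {e₂ : Γ(L, W₂)}
    {e₃ : Γ(L, W₃)} (h₁ : IsGen L W₁ e₁)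
    (g₁₂ : Γ(X, W₁ ⊓ W₂)) (g₂₃ : Γ(X, W₂ ⊓ W₃)) (g₁₃ : Γ(X, W₁ ⊓ W₃))
    (h12 : res L (inf_le_right : W₁ ⊓ W₂ ≤ W₂) e₂ = g₁₂ • res L (inf_le_left : W₁ ⊓ W₂ ≤ W₁) e₁)
    (h23 : res L (inf_le_right : W₂ ⊓ W₃ ≤ W₃) e₃ = g₂₃ • res L (inf_le_left : W₂ ⊓ W₃ ≤ W₂) e₂)
    (h13 : res L (inf_le_right : W₁ ⊓ W₃ ≤ W₃) e₃ = g₁₃ • res L (inf_le_left : W₁ ⊓ W₃ ≤ W₁) e₁)
    (η : X) (m12 : η ∈ W₁ ⊓ W₂) (m23 : η ∈ W₂ ⊓ W₃) (m13 : η ∈ W₁ ⊓ W₃) :
    X.presheaf.germ (W₂ ⊓ W₃) η m23 g₂₃ * X.presheaf.germ (W₁ ⊓ W₂) η m12 g₁₂ =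
      X.presheaf.germ (W₁ ⊓ W₃) η m13 g₁₃ := by
  have a12 : W₁ ⊓ W₂ ⊓ W₃ ≤ W₁ ⊓ W₂ := inf_le_left
  have a23 : W₁ ⊓ W₂ ⊓ W₃ ≤ W₂ ⊓ W₃ := le_inf (inf_le_left.trans inf_le_right) inf_le_right
  have a13 : W₁ ⊓ W₂ ⊓ W₃ ≤ W₁ ⊓ W₃ := le_inf (inf_le_left.trans inf_le_left) inf_le_right
  have b1 : W₁ ⊓ W₂ ⊓ W₃ ≤ W₁ := inf_le_left.trans inf_le_left
  have b2 : W₁ ⊓ W₂ ⊓ W₃ ≤ W₂ := inf_le_left.trans inf_le_right
  have b3 : W₁ ⊓ W₂ ⊓ W₃ ≤ W₃ := inf_le_right
  have e12 : res L b2 e₂ = rres X a12 g₁₂ • res L b1 e₁ := by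
    have h := congrArg (res L a12) h12
    rw [res_res, res_smul, res_res] at h
    exact h
  have e23 : res L b3 e₃ = rres X a23 g₂₃ • res L b2 e₂ := by
    have h := congrArg (res L a23) h23
    rw [res_res, res_smul, res_res] at h
    exact h
  have e13 : res L b3 e₃ = rres X a13 g₁₃ • res L b1 e₁ := by
    have h := congrArg (res L a13) h13
    rw [res_res, res_smul, res_res] at h
    exact h
  have h4 : (rres X a23 g₂₃ * rres X a12 g₁₂) • res L b1 e₁ = rres X a13 g₁₃ • res L b1 e₁ := by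
    rw [mul_smul, ← e12, ← e23, e13]
  have h5 := (h₁ _ b1).smul_inj h4
  have hη : η ∈ W₁ ⊓ W₂ ⊓ W₃ := Opens.mem_inf.mpr ⟨m12, (Opens.mem_inf.mp m23).2⟩
  have h6 := congrArg (X.presheaf.germ (W₁ ⊓ W₂ ⊓ W₃) η hη) h5
  rw [map_mul, TopCat.Presheaf.germ_res_apply, TopCat.Presheaf.germ_res_apply,
    TopCat.Presheaf.germ_res_apply] at h6
  exact h6

/-- Every invertible module has a regular meromorphic section, on a scheme whose weakly associated points are
maximal points and whose quasi-compact opens have finitely many irreducible components. -/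
theorem hasRegularMero_of_star (X : Scheme.{u})
    (ha : ∀ x : X, Curv2.IsWeakAssPoint (Coh.structureModule X) x → ∀ y : X, y ⤳ x → y = x)
    (hb : ∀ U : X.Opens, IsCompact (U : Set X) → (irreducibleComponents ↥(U : Scheme.{u})).Finite)
    (L : X.Modules) (hL : PicF.IsInvertible L) : Mero.HasRegularMero L := by
  classical
  choose W ε hW hxW hg using fun x : X => exists_affine_isGen hL x
  have hunit : ∀ x η : X, ∃ g : Γ(X, W x ⊓ W η), IsUnit g ∧
      res L (inf_le_right : W x ⊓ W η ≤ W η) (ε η) =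
        g • res L (inf_le_left : W x ⊓ W η ≤ W x) (ε x) := fun x η =>
    IsGenAt.exists_unit (hg x _ inf_le_left) (hg η _ inf_le_right)
  choose g hgu hgε using hunit
  have hmem : ∀ x η : X, η ∈ W x → η ∈ W x ⊓ W η := fun x η h => Opens.mem_inf.mpr ⟨h, hxW η⟩
  let v : ∀ x η : X, KStalk X η := fun x η =>
    if h : η ∈ W x then
      LocalizedModule.mk (X.presheaf.germ (W x ⊓ W η) η (hmem x η h) (g x η)) 1 else 0
  have hvdef : ∀ (x η : X) (h : η ∈ W x), v x η =
      LocalizedModule.mk (X.presheaf.germ (W x ⊓ W η) η (hmem x η h) (g x η)) 1 :=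
    fun x η h => dif_pos h
  have hf : ∀ x : X, ∃ f : Γ(kmod X, W x),
      ∀ (η : X) (hη : η ∈ W x), IsMax η → f.1 ⟨η, hη⟩ = v x η :=
    fun x => exists_kmod_of_values ha hb (hW x) (v x)
  choose f hfv using hf
  have hfu : ∀ x : X, IsUnit (f x) := fun x =>
    isUnit_kmod_of_values ha hb (hW x) (f x) (fun η hη hmax => by
      rw [hfv x η hη hmax, hvdef x η hη]
      exact mk_one_isUnit ((hgu x η).map (X.presheaf.germ (W x ⊓ W η) η (hmem x η hη)).hom))
  -- compatibility of the local descriptions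
  have hC : ∀ (x y : X) (hy : y ∈ W x),
      (f y).1 ⟨y, hxW y⟩ •
        (LocalizedModule.mk (L.presheaf.germ (W y) y (hxW y) (ε y)) 1 : MStalk L y) =
      (f x).1 ⟨y, hy⟩ •
        (LocalizedModule.mk (L.presheaf.germ (W x) y hy (ε x)) 1 : MStalk L y) := by
    intro x y hy
    have hyV₀ : y ∈ W x ⊓ W y := hmem x y hy
    have hgerm : L.presheaf.germ (W y) y (hxW y) (ε y) =
        X.presheaf.germ (W x ⊓ W y) y hyV₀ (g x y) • L.presheaf.germ (W x) y hy (ε x) := by
      have h1 := congrArg (L.presheaf.germ (W x ⊓ W y) y hyV₀) (hgε x y)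
      rw [Mero.germ_smul, TopCat.Presheaf.germ_res_apply, TopCat.Presheaf.germ_res_apply] at h1
      exact h1
    obtain ⟨V, hV, hyV, hVle⟩ := Opens.isBasis_iff_nbhd.mp X.isBasis_affineOpens hyV₀
    have hV' : IsAffineOpen V := hV
    have hVx : V ≤ W x := hVle.trans inf_le_left
    have hVy : V ≤ W y := hVle.trans inf_le_right
    have hF : (kmod X).presheaf.map (homOfLE hVy).op (f y) * toK X V (rres X hVle (g x y)) =
        (kmod X).presheaf.map (homOfLE hVx).op (f x) := by
      refine kmod_eq_of_maxPoints ha hb hV' _ _ (fun η hηV hmax => ?_)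
      have hηx : η ∈ W x := hVx hηV
      have hηy : η ∈ W y := hVy hηV
      show (f y).1 ⟨η, hηy⟩ *
        LocalizedModule.mk (X.presheaf.germ V η hηV (rres X hVle (g x y))) 1 = (f x).1 ⟨η, hηx⟩
      rw [hfv y η hηy hmax, hfv x η hηx hmax, hvdef y η hηy, hvdef x η hηx,
        TopCat.Presheaf.germ_res_apply]
      refine LocalizedModule.mk_mul_mk.trans (mk_congr ?_ (by rw [one_mul]))
      exact cocycle_germ (hg x) (g x y) (g y η) (g x η) (hgε x y) (hgε y η) (hgε x η) η _ _ _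
    have hval : (f y).1 ⟨y, hxW y⟩ *
        LocalizedModule.mk (X.presheaf.germ (W x ⊓ W y) y hyV₀ (g x y)) 1 = (f x).1 ⟨y, hy⟩ := by
      have h7 : (f y).1 ⟨y, hxW y⟩ *
          LocalizedModule.mk (X.presheaf.germ V y hyV (rres X hVle (g x y))) 1 = (f x).1 ⟨y, hy⟩ :=
        congrArg (fun F : Γ(kmod X, V) => F.1 ⟨y, hyV⟩) hF
      rw [TopCat.Presheaf.germ_res_apply] at h7
      exact h7
    have hsm : (LocalizedModule.mk (X.presheaf.germ (W x ⊓ W y) y hyV₀ (g x y) •
        L.presheaf.germ (W x) y hy (ε x)) 1 : MStalk L y) =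
        (LocalizedModule.mk (X.presheaf.germ (W x ⊓ W y) y hyV₀ (g x y)) 1 : KStalk X y) •
          (LocalizedModule.mk (L.presheaf.germ (W x) y hy (ε x)) 1 : MStalk L y) :=
      ((LocalizedModule.mk_smul_mk _ _ 1 1).trans (mk_congr rfl (by rw [one_mul]))).symm
    rw [hgerm, hsm, ← mul_smul, hval]
  -- the section
  let sfun : ∀ x : (⊤ : X.Opens), MStalk L x.1 := fun x =>
    (f x.1).1 ⟨x.1, hxW x.1⟩ •
      (LocalizedModule.mk (L.presheaf.germ (W x.1) x.1 (hxW x.1) (ε x.1)) 1 : MStalk L x.1)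
  have hpred : (mLoc L).pred sfun := by
    intro x
    obtain ⟨W', hxW', hW'le, a, b, hab⟩ :=
      Groth.Agent.Lib.Helper28.MeroBasic.kmod_local (f x.1) ⟨x.1, hxW x.1⟩
    refine ⟨W', hxW', homOfLE le_top, a • res L hW'le (ε x.1), b, fun y => ?_⟩
    show (f y.1).1 ⟨y.1, hxW y.1⟩ •
        (LocalizedModule.mk (L.presheaf.germ (W y.1) y.1 (hxW y.1) (ε y.1)) 1 : MStalk L y.1) =
      LocalizedModule.mk (L.presheaf.germ W' y.1 y.2 (a • res L hW'le (ε x.1))) (regGerm y b)
    rw [hC x.1 y.1 (hW'le y.2), hab y]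
    refine (LocalizedModule.mk_smul_mk _ _ _ 1).trans (mk_congr ?_ (by rw [mul_one]))
    rw [Mero.germ_smul, TopCat.Presheaf.germ_res_apply]
  refine ⟨⟨sfun, hpred⟩, fun x q hq => ?_⟩
  have hq' : q • ((f x).1 ⟨x, hxW x⟩ •
      (LocalizedModule.mk (L.presheaf.germ (W x) x (hxW x) (ε x)) 1 : MStalk L x)) = 0 := hq
  rw [← mul_smul] at hq'
  have h1 := smul_mk_germ_eq_zero (hg x) (hxW x) _ hq'
  have hu : IsUnit ((f x).1 ⟨x, hxW x⟩) := (hfu x).map (evalK X (W x) ⟨x, hxW x⟩)
  exact hu.mul_left_eq_zero.mp h1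

/-! ### Maximal points are weakly associated -/

/-- Every point has a generization which is a maximal point. -/
theorem exists_isMax_specializes (y : X) : ∃ z : X, IsMax z ∧ z ⤳ y := by
  have hirr : IsIrreducible (irreducibleComponent y) := isIrreducible_irreducibleComponent
  have hcl : IsClosed (irreducibleComponent y) := isClosed_irreducibleComponent
  obtain ⟨z, hz⟩ := QuasiSober.sober hirr hcl
  have hzdef : closure ({z} : Set X) = irreducibleComponent y := hz
  refine ⟨z, fun w hw => ?_, ?_⟩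
  · have h1 : irreducibleComponent y ⊆ closure ({w} : Set X) := by
      rw [← hzdef]
      exact specializes_iff_closure_subset.mp hw
    have h2 : closure ({w} : Set X) = irreducibleComponent y :=
      eq_irreducibleComponent isIrreducible_singleton.closure.isPreirreducible h1
    have hw' : IsGenericPoint w (irreducibleComponent y) := h2
    exact hw'.eq hz
  · rw [specializes_iff_mem_closure, hzdef]
    exact mem_irreducibleComponent

/-- A maximal point is a weakly associated point of `O_X`. -/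
theorem isWeakAssPoint_of_isMax {z : X} (hz : IsMax z) :
    Curv2.IsWeakAssPoint (Coh.structureModule X) z := by
  obtain ⟨e, hinj, -⟩ := Groth.Agent.S8869.stalk_structure_bij X z
  refine ⟨e, ?_⟩
  have hker : (LinearMap.ker (LinearMap.toSpanSingleton (X.presheaf.stalk z)
      ((Coh.structureModule X).presheaf.stalk z) e) : Ideal (X.presheaf.stalk z)) = ⊥ := by
    rw [eq_bot_iff]
    intro a ha'
    rw [LinearMap.mem_ker, LinearMap.toSpanSingleton_apply] at ha'
    exact (Submodule.mem_bot _).mpr (hinj a ha')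
  rw [hker]
  have hmin := Groth.Agent.Lib.Helper28.MaxPoint.maximalIdeal_mem_minimalPrimes_stalk z hz
  apply le_antisymm
  · exact (IsLocalRing.maximalIdeal.isMaximal _).isPrime.radical_le_iff.mpr bot_le
  · intro a ha'
    rw [Ideal.radical_eq_sInf, Ideal.mem_sInf]
    rintro J ⟨-, hJp⟩
    exact hmin.2 ⟨hJp, bot_le⟩ (IsLocalRing.le_maximalIdeal hJp.ne_top) ha'

end H16Mero
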