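import Mathlib
import Groth.Agent.Lib.Helper16.Mero.RegMero
import Groth.Agent.Lib.Helper3.GrModComap

/-!
# `O_X(D)` is invertible; an invertible module with a regular meromorphic section is some `O_X(D)`
-/

set_option autoImplicit false
universe u
open CategoryTheory AlgebraicGeometry TopologicalSpace Opposite

namespace H16Mero

open Mero
open Groth.Agent.Lib.Helper3.InvGen Groth.Agent.Lib.Helper3.QCSec

variable {X : Scheme.{u}}

/-! ### Sections of `K_X` that are pointwise functions -/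

theorem toK_injective (U : X.Opens) : Function.Injective (toK X U) := by
  intro a b hab
  refine TopCat.Presheaf.section_ext X.sheaf U a b fun x hx => ?_
  change X.presheaf.germ U x hx a = X.presheaf.germ U x hx b
  have h1 : (toK X U a).1 ⟨x, hx⟩ = (toK X U b).1 ⟨x, hx⟩ := by rw [hab]
  have h2 : algebraMap (X.presheaf.stalk x) (KStalk X x) (X.presheaf.germ U x hx a) =
      algebraMap (X.presheaf.stalk x) (KStalk X x) (X.presheaf.germ U x hx b) := h1
  exact algebraMap_KStalk_injective x h2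

/-- A meromorphic function all of whose values are germs of functions is a function. -/
theorem exists_toK_eq_of_pointwise {V : X.Opens} (F : Γ(kmod X, V))
    (h : ∀ (y : X) (hy : y ∈ V),
      F.1 ⟨y, hy⟩ ∈ (algebraMap (X.presheaf.stalk y) (KStalk X y)).range) :
    ∃ a : Γ(X, V), toK X V a = F := by
  choose r hr using h
  have hloc : ∀ y₀ : V, ∃ (W : X.Opens) (hWV : W ≤ V) (_ : y₀.1 ∈ W) (ρ : Γ(X, W)),
      ∀ (y : X) (hy : y ∈ W), X.presheaf.germ W y hy ρ = r y (hWV hy) := by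
    intro y₀
    obtain ⟨W', hy₀W', hW'V, α, β, hαβ⟩ := Groth.Agent.Lib.Helper28.MeroBasic.kmod_local F y₀
    have hkey : ∀ (y : X) (hy : y ∈ W'),
        X.presheaf.germ W' y hy β.1 * r y (hW'V hy) = X.presheaf.germ W' y hy α := by
      intro y hy
      have h1 := hαβ ⟨y, hy⟩
      rw [← hr y (hW'V hy)] at h1
      have h1' : (LocalizedModule.mk (r y (hW'V hy)) 1 : KStalk X y) =
          LocalizedModule.mk (X.presheaf.germ W' y hy α) (regGerm ⟨y, hy⟩ β) := h1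
      rw [LocalizedModule.mk_eq] at h1'
      obtain ⟨u, hu⟩ := h1'
      simp only [one_smul, Submonoid.smul_def, smul_eq_mul] at hu
      have hu' : (u : X.presheaf.stalk y) * (X.presheaf.germ W' y hy β.1 * r y (hW'V hy)) =
          (u : X.presheaf.stalk y) * X.presheaf.germ W' y hy α := hu
      have hnz := regStalk_le_nonZeroDivisors y u.2
      have h5 : (u : X.presheaf.stalk y) *
          (X.presheaf.germ W' y hy β.1 * r y (hW'V hy) - X.presheaf.germ W' y hy α) = 0 := by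
        rw [mul_sub, hu', sub_self]
      exact sub_eq_zero.mp ((mem_nonZeroDivisors_iff_left.mp hnz) _ h5)
    obtain ⟨W₁, hy₀W₁, ρ₁, hρ₁⟩ := TopCat.Presheaf.exists_germ_eq X.presheaf (r y₀.1 y₀.2)
    have hy₀2 : y₀.1 ∈ W₁ ⊓ W' := Opens.mem_inf.mpr ⟨hy₀W₁, hy₀W'⟩
    have hl : W₁ ⊓ W' ≤ W₁ := inf_le_left
    have hr' : W₁ ⊓ W' ≤ W' := inf_le_right
    have hgermeq : X.presheaf.germ (W₁ ⊓ W') y₀.1 hy₀2 (rres X hr' β.1 * rres X hl ρ₁) =
        X.presheaf.germ (W₁ ⊓ W') y₀.1 hy₀2 (rres X hr' α) := by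
      rw [map_mul, TopCat.Presheaf.germ_res_apply, TopCat.Presheaf.germ_res_apply,
        TopCat.Presheaf.germ_res_apply, hρ₁]
      exact hkey y₀.1 hy₀W'
    obtain ⟨W₃, hy₀W₃, i, i', hres⟩ := TopCat.Presheaf.germ_eq X.presheaf y₀.1 hy₀2 hy₀2 _ _ hgermeq
    have hW₃ : W₃ ≤ W₁ ⊓ W' := i.le
    refine ⟨W₃, hW₃.trans (hr'.trans hW'V), hy₀W₃, rres X (hW₃.trans hl) ρ₁, fun y hy => ?_⟩
    have hyW' : y ∈ W' := hr' (hW₃ hy)
    have h6 := congrArg (X.presheaf.germ W₃ y hy) hres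
    rw [TopCat.Presheaf.germ_res_apply, TopCat.Presheaf.germ_res_apply, map_mul,
      TopCat.Presheaf.germ_res_apply, TopCat.Presheaf.germ_res_apply,
      TopCat.Presheaf.germ_res_apply] at h6
    rw [TopCat.Presheaf.germ_res_apply]
    have h7 : X.presheaf.germ W' y hyW' β.1 *
        (X.presheaf.germ W₁ y (hl (hW₃ hy)) ρ₁ - r y (hW'V hyW')) = 0 := by
      rw [mul_sub, h6, hkey y hyW', sub_self]
    exact sub_eq_zero.mp ((mem_nonZeroDivisors_iff_left.mp (β.2 ⟨y, hyW'⟩)) _ h7)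
  choose W hWV hyW ρ hρ using hloc
  obtain ⟨b, hb⟩ := fun_glue (X := X) W V hWV
    (fun y hy => Opens.mem_iSup.mpr ⟨⟨y, hy⟩, hyW ⟨y, hy⟩⟩) ρ (fun i j => by
      refine TopCat.Presheaf.section_ext X.sheaf _ _ _ fun y hy => ?_
      change X.presheaf.germ (W i ⊓ W j) y hy (rres X inf_le_left (ρ i)) =
        X.presheaf.germ (W i ⊓ W j) y hy (rres X inf_le_right (ρ j))
      rw [TopCat.Presheaf.germ_res_apply, TopCat.Presheaf.germ_res_apply, hρ i y _, hρ j y _])
  refine ⟨b, Groth.Agent.Lib.Helper28.MeroBasic.kmod_ext fun y => ?_⟩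
  rw [toK_apply, ← hr y.1 y.2]
  have h1 : X.presheaf.germ V y.1 y.2 b = r y.1 y.2 := by
    rw [← TopCat.Presheaf.germ_res_apply X.presheaf (homOfLE (hWV y)) y.1 (hyW y) b]
    change X.presheaf.germ (W y) y.1 (hyW y) (rres X (hWV y) b) = _
    rw [hb y, hρ y y.1 (hyW y)]
  rw [h1]
  rfl

/-! ### `O_X(D)` is invertible -/

/-- The value of a unit of `Γ(U, K_X)` at a point, as a unit of `K_{X,y}`. -/
noncomputable abbrev uval {U : X.Opens} (f : (Γ(kmod X, U))ˣ) (y : U) : (KStalk X y.1)ˣ :=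
  Units.map (evalK X U y).toMonoidHom f

theorem divCond_iff_of_germ {D : Divisor X} {y : X} (k : (KStalk X y)ˣ)
    (hD : D.1 y = QuotientGroup.mk k) (t : KStalk X y) :
    DivCond D y t ↔
      t * (k : KStalk X y) ∈ (algebraMap (X.presheaf.stalk y) (KStalk X y)).range := by
  constructor
  · intro h
    exact h k hD
  · intro h g hg
    have h1 : (QuotientGroup.mk k : Germ X y) = QuotientGroup.mk g := hD.symm.trans hg
    rw [QuotientGroup.eq] at h1
    obtain ⟨c, hc⟩ := h1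
    have h2u : g = k * Units.map (algebraMap (X.presheaf.stalk y) (KStalk X y)).toMonoidHom c := by
      rw [hc, mul_inv_cancel_left]
    have h2 : (g : KStalk X y) =
        (k : KStalk X y) * algebraMap (X.presheaf.stalk y) (KStalk X y) (c : X.presheaf.stalk y) :=
      congrArg Units.val h2u
    rw [h2, ← mul_assoc]
    exact mul_mem h ⟨(c : X.presheaf.stalk y), rfl⟩

theorem inv_mul_apply {U : X.Opens} (f : (Γ(kmod X, U))ˣ) (y : U) :
    (↑f⁻¹ : Γ(kmod X, U)).1 y * (↑f : Γ(kmod X, U)).1 y = 1 :=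
  congrArg (fun G : Γ(kmod X, U) => G.1 y) f.inv_mul

theorem mul_inv_apply {U : X.Opens} (f : (Γ(kmod X, U))ˣ) (y : U) :
    (↑f : Γ(kmod X, U)).1 y * (↑f⁻¹ : Γ(kmod X, U)).1 y = 1 :=
  congrArg (fun G : Γ(kmod X, U) => G.1 y) f.mul_inv

/-- The inverse of a local equation of `D`, as a section of `O_X(D)`. -/
noncomputable def invSec (D : Divisor X) {U : X.Opens} (f : (Γ(kmod X, U))ˣ)
    (hf : ∀ y : U, D.1 y.1 = germOf f y) : Γ(divMod D, U) :=
  ⟨(↑f⁻¹ : Γ(kmod X, U)).1, And.intro (↑f⁻¹ : Γ(kmod X, U)).2 (fun y =>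
    (divCond_iff_of_germ (uval f y) (hf y) _).mpr ⟨1, by
      rw [map_one]
      exact (inv_mul_apply f y).symm⟩)⟩

theorem invSec_apply (D : Divisor X) {U : X.Opens} (f : (Γ(kmod X, U))ˣ)
    (hf : ∀ y : U, D.1 y.1 = germOf f y) (y : U) :
    (invSec D f hf).1 y = (↑f⁻¹ : Γ(kmod X, U)).1 y := rfl

theorem isGen_invSec (D : Divisor X) {U : X.Opens} (f : (Γ(kmod X, U))ˣ)
    (hf : ∀ y : U, D.1 y.1 = germOf f y) : IsGen (divMod D) U (invSec D f hf) := by
  intro V hV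
  constructor
  · intro a b hab
    apply toK_injective V
    refine Groth.Agent.Lib.Helper28.MeroBasic.kmod_ext fun y => ?_
    have h1 : X.presheaf.germ V y.1 y.2 a • (↑f⁻¹ : Γ(kmod X, U)).1 ⟨y.1, hV y.2⟩ =
        X.presheaf.germ V y.1 y.2 b • (↑f⁻¹ : Γ(kmod X, U)).1 ⟨y.1, hV y.2⟩ :=
      congrArg (fun t : Γ(divMod D, V) => t.1 y) hab
    rw [Algebra.smul_def, Algebra.smul_def] at h1
    have hu : IsUnit ((↑f⁻¹ : Γ(kmod X, U)).1 ⟨y.1, hV y.2⟩) :=
      (f⁻¹).isUnit.map (evalK X U ⟨y.1, hV y.2⟩)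
    exact hu.mul_left_injective h1
  · intro t
    let G : Γ(kmod X, V) := ⟨t.1, t.2.1⟩
    obtain ⟨a, ha⟩ := exists_toK_eq_of_pointwise
      (G * (kmod X).presheaf.map (homOfLE hV).op (↑f : Γ(kmod X, U))) (fun y hy =>
        (divCond_iff_of_germ (uval f ⟨y, hV hy⟩) (hf ⟨y, hV hy⟩) _).mp (t.2.2 ⟨y, hy⟩))
    refine ⟨a, Subtype.ext (funext fun y => ?_)⟩
    show X.presheaf.germ V y.1 y.2 a • (↑f⁻¹ : Γ(kmod X, U)).1 ⟨y.1, hV y.2⟩ = t.1 y
    have h1 : (LocalizedModule.mk (X.presheaf.germ V y.1 y.2 a) 1 : KStalk X y.1) =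
        t.1 y * (↑f : Γ(kmod X, U)).1 ⟨y.1, hV y.2⟩ :=
      congrArg (fun G' : Γ(kmod X, V) => G'.1 y) ha
    rw [Algebra.smul_def]
    change (LocalizedModule.mk (X.presheaf.germ V y.1 y.2 a) 1 : KStalk X y.1) *
      (↑f⁻¹ : Γ(kmod X, U)).1 ⟨y.1, hV y.2⟩ = t.1 y
    rw [h1, mul_assoc, mul_inv_apply f ⟨y.1, hV y.2⟩, mul_one]

/-- `O_X(D)` is an invertible module. -/
theorem isInvertible_divMod (D : Divisor X) : PicF.IsInvertible (divMod D) := by
  apply isInvertible_of_isGen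
  intro x
  obtain ⟨U, hxU, f, hf⟩ := D.2 x
  exact ⟨U, invSec D f hf, hxU, isGen_invSec D f hf⟩

end H16Mero
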