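import Mathlib
import Groth.Agent.Lib.Helper16.Mero.DivIso
import Groth.Agent.Lib.Helper3.TensorDesc
import Groth.Agent.Lib.Helper3.GrModComap

/-!
# `O_X(D) ⊗ O_X(E) ≅ O_X(D · E)`
-/

set_option autoImplicit false
universe u
open CategoryTheory AlgebraicGeometry TopologicalSpace Opposite

namespace H16Mero

open Mero
open Groth.Agent.Lib.Helper3.InvGen Groth.Agent.Lib.Helper3.QCSec
open Groth.Agent.Lib.Helper3.InvTensor Groth.Agent.Lib.Helper3.TensorDesc

variable {X : Scheme.{u}}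

theorem divCond_mul {D E : Divisor X} {x : X} {t t' : KStalk X x} (h : DivCond D x t)
    (h' : DivCond E x t') : DivCond (D * E) x (t * t') := by
  obtain ⟨gD, hgD⟩ := QuotientGroup.mk_surjective (D.1 x)
  obtain ⟨gE, hgE⟩ := QuotientGroup.mk_surjective (E.1 x)
  have hDE : (D * E).1 x = QuotientGroup.mk (gD * gE) := by
    show D.1 x * E.1 x = _
    rw [← hgD, ← hgE]
    rfl
  rw [divCond_iff_of_germ (gD * gE) hDE]
  have h1 := h gD hgD.symm
  have h2 := h' gE hgE.symm
  have h3 : t * t' * ((gD * gE : (KStalk X x)ˣ) : KStalk X x) =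
      (t * (gD : KStalk X x)) * (t' * (gE : KStalk X x)) := by
    rw [Units.val_mul]
    ring
  rw [h3]
  exact mul_mem h1 h2

/-- The product of a section of `O_X(D)` and a section of `O_X(E)`, a section of `O_X(D · E)`. -/
noncomputable def mulSec {D E : Divisor X} {U : X.Opens} (t : Γ(divMod D, U))
    (t' : Γ(divMod E, U)) : Γ(divMod (D * E), U) :=
  ⟨t.1 * t'.1, And.intro (kLoc_mul X U t.1 t'.1 t.2.1 t'.2.1)
    (fun x => divCond_mul (t.2.2 x) (t'.2.2 x))⟩

theorem mulSec_apply {D E : Divisor X} {U : X.Opens} (t : Γ(divMod D, U))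
    (t' : Γ(divMod E, U)) (x : U) : (mulSec t t').1 x = t.1 x * t'.1 x := rfl

/-- The multiplication pairing `O_X(D) × O_X(E) → O_X(D · E)`. -/
noncomputable def mulPairing (D E : Divisor X) : Pairing (divMod D) (divMod E) (divMod (D * E)) where
  toFun U t t' := mulSec t t'
  add_left U m m' n := Subtype.ext (funext fun x => add_mul (m.1 x) (m'.1 x) (n.1 x))
  add_right U m n n' := Subtype.ext (funext fun x => mul_add (m.1 x) (n.1 x) (n'.1 x))
  smul_left U a m n := Subtype.ext (funext fun x =>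
    smul_mul_assoc (X.presheaf.germ U x.1 x.2 a) (m.1 x) (n.1 x))
  smul_right U a m n := Subtype.ext (funext fun x =>
    mul_smul_comm (X.presheaf.germ U x.1 x.2 a) (m.1 x) (n.1 x))
  map_res h m n := rfl

/-- Restriction of units of `Γ(U, K_X)`. -/
noncomputable def resU {U V : X.Opens} (hV : V ≤ U) (f : (Γ(kmod X, U))ˣ) : (Γ(kmod X, V))ˣ :=
  Units.map ((kring X).obj.map (homOfLE hV).op).hom.toMonoidHom f

theorem resU_apply {U V : X.Opens} (hV : V ≤ U) (f : (Γ(kmod X, U))ˣ) (y : V) :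
    ((resU hV f : (Γ(kmod X, V))ˣ) : Γ(kmod X, V)).1 y = (f : Γ(kmod X, U)).1 ⟨y.1, hV y.2⟩ := rfl

theorem resU_inv_apply {U V : X.Opens} (hV : V ≤ U) (f : (Γ(kmod X, U))ˣ) (y : V) :
    (↑(resU hV f)⁻¹ : Γ(kmod X, V)).1 y = (↑f⁻¹ : Γ(kmod X, U)).1 ⟨y.1, hV y.2⟩ := by
  have h : (resU hV f)⁻¹ = resU hV f⁻¹ := (map_inv _ _).symm
  rw [h]
  rfl

theorem germOf_resU {U V : X.Opens} (hV : V ≤ U) (f : (Γ(kmod X, U))ˣ) (y : V) :
    germOf (resU hV f) y = germOf f ⟨y.1, hV y.2⟩ :=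
  congrArg _ (Units.ext rfl)

/-- A morphism carrying a generator to a generator is bijective on sections. -/
theorem bijective_app_of_isGen {M N : X.Modules} (φ : M ⟶ N) {V : X.Opens} {m : Γ(M, V)}
    (hm : IsGen M V m) (hn : IsGen N V (φ.app V m)) : Function.Bijective (φ.app V) := by
  have hM := hm.self
  have hN := hn.self
  constructor
  · intro a b hab
    obtain ⟨r, rfl⟩ := hM.exists_coord a
    obtain ⟨r', rfl⟩ := hM.exists_coord b
    rw [Scheme.Modules.Hom.app_smul, Scheme.Modules.Hom.app_smul] at hab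
    rw [hN.smul_inj hab]
  · intro t
    obtain ⟨r, hr⟩ := hN.exists_coord t
    exact ⟨r • m, by rw [Scheme.Modules.Hom.app_smul, hr]⟩

/-- `O_X(D) ⊗ O_X(E) ≅ O_X(D · E)` by multiplication of meromorphic functions. -/
theorem exists_mul_iso (D E : Divisor X) :
    ∃ μ : CohB1.tensorMod (divMod D) (divMod E) ⟶ divMod (D * E),
      (∀ (U : X.Opens) (t : Γ(divMod D, U)) (t' : Γ(divMod E, U)),
        (divModι (D * E)).app U (μ.app U (SecTwist.tmul (divMod D) (divMod E) U t t')) =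
          (divModι D).app U t * (divModι E).app U t') ∧
      IsIso μ := by
  refine ⟨(mulPairing D E).hom, fun U t t' => ?_, ?_⟩
  · have h1 : (mulPairing D E).hom.app U (SecTwist.tmul (divMod D) (divMod E) U t t') =
        mulSec t t' := (mulPairing D E).hom_tm U t t'
    rw [h1]
    rfl
  · apply Groth.Agent.Lib.Helper3.GrModComap.isIso_of_bijective_on_basis
    intro W x hxW
    obtain ⟨U, hxU, f, hf⟩ := D.2 x
    obtain ⟨U', hxU', f', hf'⟩ := E.2 x
    have hVU : W ⊓ U ⊓ U' ≤ U := inf_le_left.trans inf_le_right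
    have hVU' : W ⊓ U ⊓ U' ≤ U' := inf_le_right
    refine ⟨W ⊓ U ⊓ U', Opens.mem_inf.mpr ⟨Opens.mem_inf.mpr ⟨hxW, hxU⟩, hxU'⟩,
      inf_le_left.trans inf_le_left, ?_⟩
    have hgD := (isGen_invSec D f hf).mono hVU
    have hgE := (isGen_invSec E f' hf').mono hVU'
    have hgT := isGen_tm hgD hgE
    have hF : ∀ y : (W ⊓ U ⊓ U' : X.Opens),
        (D * E).1 y.1 = germOf (resU hVU f * resU hVU' f') y := by
      intro y
      show D.1 y.1 * E.1 y.1 = _
      rw [hf ⟨y.1, hVU y.2⟩, hf' ⟨y.1, hVU' y.2⟩, ← germOf_resU hVU f y, ← germOf_resU hVU' f' y]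
      exact (congrArg _ (Units.ext rfl) :
        (QuotientGroup.mk (uval (resU hVU f) y * uval (resU hVU' f') y) : Germ X y.1) =
          QuotientGroup.mk (uval (resU hVU f * resU hVU' f') y))
    have hkey : (mulPairing D E).hom.app (W ⊓ U ⊓ U')
        (tm (divMod D) (divMod E) (W ⊓ U ⊓ U') (res (divMod D) hVU (invSec D f hf))
          (res (divMod E) hVU' (invSec E f' hf'))) =
        invSec (D * E) (resU hVU f * resU hVU' f') hF := by
      rw [(mulPairing D E).hom_tm]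
      refine Subtype.ext (funext fun y => ?_)
      show (↑f⁻¹ : Γ(kmod X, U)).1 ⟨y.1, hVU y.2⟩ * (↑f'⁻¹ : Γ(kmod X, U')).1 ⟨y.1, hVU' y.2⟩ =
        (↑(resU hVU f * resU hVU' f')⁻¹ : Γ(kmod X, W ⊓ U ⊓ U')).1 y
      rw [mul_inv, Units.val_mul, kmod_mul_apply, resU_inv_apply, resU_inv_apply]
    refine bijective_app_of_isGen _ hgT ?_
    rw [hkey]
    exact isGen_invSec (D * E) _ hF

end H16Mero
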