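import Mathlib

/-!
# Quasi-coherent ideal sheaves from ideals of the stalks

Given ideals `𝔞 x` of all the local rings `O_{X,x}`, `stalkIdeal 𝔞 U` is the ideal of the sections over `U` all of
whose germs lie in the `𝔞 x`.  If every point has an open neighbourhood `W` on which the `𝔞 y` are generated by the germs
of the sections in `stalkIdeal 𝔞 W` (`StalkGood`), then `U ↦ stalkIdeal 𝔞 U` (on affine opens) is a quasi-coherent ideal
sheaf (`exists_idealSheafData_of_stalkGood`).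
-/

set_option autoImplicit false
universe u
open CategoryTheory AlgebraicGeometry TopologicalSpace Opposite

namespace H16Mero

variable {X : Scheme.{u}}

/-- The ideal of sections over `U` whose germs lie in prescribed ideals of the stalks. -/
def stalkIdeal (𝔞 : ∀ x : X, Ideal (X.presheaf.stalk x)) (U : X.Opens) : Ideal Γ(X, U) where
  carrier := {a | ∀ (x : X) (hx : x ∈ U), X.presheaf.germ U x hx a ∈ 𝔞 x}
  add_mem' := by
    intro a b ha hb x hx
    rw [map_add]
    exact (𝔞 x).add_mem (ha x hx) (hb x hx)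
  zero_mem' := by
    intro x hx
    rw [map_zero]
    exact (𝔞 x).zero_mem
  smul_mem' := by
    intro c a ha x hx
    rw [smul_eq_mul, map_mul]
    exact (𝔞 x).mul_mem_left _ (ha x hx)

variable (𝔞 : ∀ x : X, Ideal (X.presheaf.stalk x))

theorem mem_stalkIdeal {U : X.Opens} {a : Γ(X, U)} :
    a ∈ stalkIdeal 𝔞 U ↔ ∀ (x : X) (hx : x ∈ U), X.presheaf.germ U x hx a ∈ 𝔞 x := Iff.rfl

theorem res_mem_stalkIdeal {U V : X.Opens} (i : V ⟶ U) {a : Γ(X, U)} (ha : a ∈ stalkIdeal 𝔞 U) :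
    X.presheaf.map i.op a ∈ stalkIdeal 𝔞 V := fun x hx => by
  rw [TopCat.Presheaf.germ_res_apply]
  exact ha x (i.le hx)

theorem map_germ_stalkIdeal_le (U : X.Opens) (y : X) (hy : y ∈ U) :
    (stalkIdeal 𝔞 U).map (X.presheaf.germ U y hy).hom ≤ 𝔞 y :=
  Ideal.map_le_iff_le_comap.mpr fun a ha => ha y hy

theorem map_map_germ {U V : X.Opens} (i : V ⟶ U) (I : Ideal Γ(X, U)) (y : X) (hy : y ∈ V) :
    (I.map (X.presheaf.map i.op).hom).map (X.presheaf.germ V y hy).hom =
      I.map (X.presheaf.germ U y (i.le hy)).hom := by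
  rw [Ideal.map_map, ← CommRingCat.hom_comp, X.presheaf.germ_res]

/-- On `W` the stalk ideals are generated by the germs of the sections of `stalkIdeal 𝔞 W`. -/
def StalkGood (W : X.Opens) : Prop :=
  ∀ (y : X) (hy : y ∈ W), 𝔞 y ≤ (stalkIdeal 𝔞 W).map (X.presheaf.germ W y hy).hom

variable {𝔞}

theorem StalkGood.mono {W V : X.Opens} (h : StalkGood 𝔞 W) (hVW : V ≤ W) : StalkGood 𝔞 V := by
  intro y hy
  refine (h y (hVW hy)).trans ?_
  rw [← map_map_germ (homOfLE hVW) (stalkIdeal 𝔞 W) y hy]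
  exact Ideal.map_mono (Ideal.map_le_iff_le_comap.mpr fun a ha =>
    res_mem_stalkIdeal 𝔞 (homOfLE hVW) ha)

/-- A criterion: the stalk ideals are generated on `W` by the germs of one section. -/
theorem stalkGood_of_span {W : X.Opens} (c : Γ(X, W)) (hc : c ∈ stalkIdeal 𝔞 W)
    (h : ∀ (y : X) (hy : y ∈ W), 𝔞 y ≤ Ideal.span {X.presheaf.germ W y hy c}) : StalkGood 𝔞 W := by
  intro y hy
  refine (h y hy).trans ?_
  rw [Ideal.span_singleton_le_iff_mem]
  exact Ideal.mem_map_of_mem _ hc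

theorem stalkIdeal_basicOpen_le {W : X.Opens} (hW : IsAffineOpen W) (hg : StalkGood 𝔞 W)
    (f : Γ(X, W)) :
    stalkIdeal 𝔞 (X.basicOpen f) ≤
      (stalkIdeal 𝔞 W).map (X.presheaf.map (homOfLE (X.basicOpen_le f)).op).hom := by
  intro b hb
  rw [(hW.basicOpen f).mem_ideal_iff]
  intro y hy
  rw [map_map_germ]
  exact hg y _ (hb y hy)

theorem exists_pow_mul_mem_of_basicOpen {W : X.Opens} (hW : IsAffineOpen W) (hg : StalkGood 𝔞 W)
    (f β : Γ(X, W))
    (hβ : X.presheaf.map (homOfLE (X.basicOpen_le f)).op β ∈ stalkIdeal 𝔞 (X.basicOpen f)) :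
    ∃ N : ℕ, ∀ N', N ≤ N' → f ^ N' * β ∈ stalkIdeal 𝔞 W := by
  have h1 := stalkIdeal_basicOpen_le hW hg f hβ
  haveI := hW.isLocalization_basicOpen f
  obtain ⟨⟨c, m⟩, hcm⟩ :=
    (IsLocalization.mem_map_algebraMap_iff (Submonoid.powers f) Γ(X, X.basicOpen f)).mp h1
  obtain ⟨k, hk⟩ := m.2
  have hk' : f ^ k = (m : Γ(X, W)) := hk
  have h2 : algebraMap Γ(X, W) Γ(X, X.basicOpen f) (β * f ^ k) =
      algebraMap Γ(X, W) Γ(X, X.basicOpen f) (c : Γ(X, W)) := by
    rw [map_mul, hk']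
    exact hcm
  obtain ⟨⟨_, l, rfl⟩, hl⟩ :=
    (IsLocalization.eq_iff_exists (Submonoid.powers f) Γ(X, X.basicOpen f)).mp h2
  refine ⟨l + k, fun N' hN' => ?_⟩
  obtain ⟨r, rfl⟩ := Nat.exists_eq_add_of_le hN'
  have h3 : f ^ (l + k + r) * β = f ^ r * (f ^ l * (c : Γ(X, W))) := by
    rw [← hl]
    ring
  rw [h3]
  exact Ideal.mul_mem_left _ _ (Ideal.mul_mem_left _ _ c.2)

theorem StalkGood.of_affine_local {U : X.Opens} (hU : IsAffineOpen U)
    (h : ∀ x ∈ U, ∃ W : X.Opens, x ∈ W ∧ StalkGood 𝔞 W) : StalkGood 𝔞 U := by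
  have hA : ∀ x : U, ∃ g : Γ(X, U), x.1 ∈ X.basicOpen g ∧ StalkGood 𝔞 (X.basicOpen g) := by
    intro x
    obtain ⟨W, hxW, hW⟩ := h x.1 x.2
    obtain ⟨g, hgW, hxg⟩ := hU.exists_basicOpen_le ⟨x.1, hxW⟩ x.2
    exact ⟨g, hxg, hW.mono hgW⟩
  choose g hxg hgood using hA
  obtain ⟨t, ht⟩ := hU.isCompact.elim_finite_subcover (fun x : U => (X.basicOpen (g x) : Set X))
    (fun x => (X.basicOpen (g x)).isOpen)
    (fun x hx => Set.mem_iUnion.mpr ⟨⟨x, hx⟩, hxg ⟨x, hx⟩⟩)
  have hcov : ∀ z : X, z ∈ U → ∃ j ∈ t, z ∈ X.basicOpen (g j) := by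
    intro z hz
    have := ht hz
    simp only [Set.mem_iUnion] at this
    obtain ⟨j, hj, hzj⟩ := this
    exact ⟨j, hj, hzj⟩
  intro y hy
  obtain ⟨j0, hj0, hyj0⟩ := hcov y hy
  refine (hgood j0 y hyj0).trans ?_
  rw [Ideal.map_le_iff_le_comap]
  intro b hb
  show X.presheaf.germ (X.basicOpen (g j0)) y hyj0 b ∈
    (stalkIdeal 𝔞 U).map (X.presheaf.germ U y hy).hom
  obtain ⟨n, β, hβ⟩ := exists_eq_pow_mul_of_isAffineOpen X U hU (g j0) b
  dsimp only [TopCat.Presheaf.restrictOpenCommRingCat_apply] at hβ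
  have hj : ∀ j : U, ∃ N : ℕ, ∀ N', N ≤ N' →
      X.presheaf.map (homOfLE (X.basicOpen_le (g j))).op (g j0 ^ N' * β) ∈
        stalkIdeal 𝔞 (X.basicOpen (g j)) := by
    intro j
    have hWaff : IsAffineOpen (X.basicOpen (g j)) := hU.basicOpen (g j)
    have hV' : X.basicOpen (X.presheaf.map (homOfLE (X.basicOpen_le (g j))).op (g j0)) =
        X.basicOpen (g j) ⊓ X.basicOpen (g j0) := Scheme.basicOpen_res _ _ _
    have hle : X.basicOpen (X.presheaf.map (homOfLE (X.basicOpen_le (g j))).op (g j0)) ≤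
        X.basicOpen (g j0) := hV'.le.trans inf_le_right
    have hmem : X.presheaf.map (homOfLE (X.basicOpen_le
          (X.presheaf.map (homOfLE (X.basicOpen_le (g j))).op (g j0)))).op
          (X.presheaf.map (homOfLE (X.basicOpen_le (g j))).op β) ∈
        stalkIdeal 𝔞 (X.basicOpen (X.presheaf.map (homOfLE (X.basicOpen_le (g j))).op (g j0))) := by
      have e1 : X.presheaf.map (homOfLE (X.basicOpen_le
          (X.presheaf.map (homOfLE (X.basicOpen_le (g j))).op (g j0)))).op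
          (X.presheaf.map (homOfLE (X.basicOpen_le (g j))).op β) =
          X.presheaf.map (homOfLE hle).op
            (X.presheaf.map (homOfLE (X.basicOpen_le (g j0))).op β) := by
        rw [← ConcreteCategory.comp_apply, ← Functor.map_comp, ← ConcreteCategory.comp_apply,
          ← Functor.map_comp]
        rfl
      rw [e1, hβ, map_mul]
      exact Ideal.mul_mem_left _ _ (res_mem_stalkIdeal 𝔞 _ hb)
    obtain ⟨N, hN⟩ := exists_pow_mul_mem_of_basicOpen hWaff (hgood j) _ _ hmem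
    refine ⟨N, fun N' hN' => ?_⟩
    rw [map_mul, map_pow]
    exact hN N' hN'
  choose N hN using hj
  have hmemU : g j0 ^ (t.sup N) * β ∈ stalkIdeal 𝔞 U := by
    intro z hz
    obtain ⟨j, hjt, hzj⟩ := hcov z hz
    have h4 := hN j (t.sup N) (Finset.le_sup hjt) z hzj
    rwa [TopCat.Presheaf.germ_res_apply] at h4
  have hunit : IsUnit (X.presheaf.germ U y hy (g j0)) :=
    (Scheme.mem_basicOpen X (g j0) y hy).mp hyj0
  have hgerm : X.presheaf.germ U y hy (g j0 ^ (t.sup N) * β) =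
      (X.presheaf.germ U y hy (g j0)) ^ (t.sup N + n) *
        X.presheaf.germ (X.basicOpen (g j0)) y hyj0 b := by
    have e2 := congrArg (X.presheaf.germ (X.basicOpen (g j0)) y hyj0) hβ
    rw [TopCat.Presheaf.germ_res_apply, map_mul, map_pow, TopCat.Presheaf.germ_res_apply] at e2
    rw [map_mul, map_pow, e2, pow_add, mul_assoc]
  have h3 : X.presheaf.germ U y hy (g j0 ^ (t.sup N) * β) ∈
      (stalkIdeal 𝔞 U).map (X.presheaf.germ U y hy).hom :=
    Ideal.mem_map_of_mem _ hmemU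
  rw [hgerm] at h3
  obtain ⟨v, hv⟩ := hunit.pow (t.sup N + n)
  have h5 : X.presheaf.germ (X.basicOpen (g j0)) y hyj0 b =
      ↑v⁻¹ * (↑v * X.presheaf.germ (X.basicOpen (g j0)) y hyj0 b) := by
    rw [← mul_assoc, Units.inv_mul, one_mul]
  rw [h5, hv]
  exact Ideal.mul_mem_left _ _ h3

/-- Locally generated stalk ideals define a quasi-coherent ideal sheaf. -/
theorem exists_idealSheafData_of_stalkGood
    (h : ∀ x : X, ∃ W : X.Opens, x ∈ W ∧ StalkGood 𝔞 W) :
    ∃ I : X.IdealSheafData, ∀ U : X.affineOpens, I.ideal U = stalkIdeal 𝔞 U.1 := by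
  refine ⟨{ ideal := fun U => stalkIdeal 𝔞 U.1
            map_ideal_basicOpen := fun U f => ?_ }, fun U => rfl⟩
  apply le_antisymm
  · rw [Ideal.map_le_iff_le_comap]
    intro a ha
    exact res_mem_stalkIdeal 𝔞 _ ha
  · exact stalkIdeal_basicOpen_le U.2 (StalkGood.of_affine_local U.2 fun x _ => h x) f

end H16Mero
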