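import Mathlib
import Groth.Agent.Lib.Helper16.Mero.StalkIdeal
import Groth.Agent.Lib.Helper16.Mero.DivTensor
import Groth.Agent.Lib.Helper3.SubIdeal
import Groth.Prelude.Def_PicF2

/-!
# The zero scheme of a section of an invertible module on an integral scheme

`zeroScheme_ideal_eq_span`: on an affine open `U` where `L` has a generator `ε` and `s = c • ε`, the ideal of the
zero scheme `Z(s)` is `(c)`.
-/

set_option autoImplicit false
universe u
open CategoryTheory AlgebraicGeometry TopologicalSpace Opposite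

namespace H16Mero

open Mero
open Groth.Agent.Lib.Helper3.InvGen Groth.Agent.Lib.Helper3.QCSec

variable {X : Scheme.{u}}

/-- The germ at `y` of the global section named by `s`. -/
noncomputable def sgerm {L : X.Modules} (s : Coh.structureModule X ⟶ L) (y : X) :
    L.presheaf.stalk y :=
  L.presheaf.germ ⊤ y trivial (sec s ⊤)

theorem sgerm_eq {L : X.Modules} (s : Coh.structureModule X ⟶ L) {W : X.Opens} {y : X}
    (hy : y ∈ W) : sgerm s y = L.presheaf.germ W y hy (sec s W) := by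
  rw [← res_sec s (le_top : W ≤ ⊤)]
  exact (TopCat.Presheaf.germ_res_apply L.presheaf (homOfLE le_top) y hy _).symm

theorem sgerm_eq_smul {L : X.Modules} {s : Coh.structureModule X ⟶ L} {W : X.Opens}
    {ε : Γ(L, W)} {c : Γ(X, W)} (hc : sec s W = c • ε) {y : X} (hy : y ∈ W) :
    sgerm s y = X.presheaf.germ W y hy c • L.presheaf.germ W y hy ε := by
  rw [sgerm_eq s hy, hc, Mero.germ_smul]

theorem exists_smul_germ_eq {L : X.Modules} {W : X.Opens} {ε : Γ(L, W)} (hg : IsGen L W ε)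
    {y : X} (hy : y ∈ W) (m : L.presheaf.stalk y) :
    ∃ μ : X.presheaf.stalk y, μ • L.presheaf.germ W y hy ε = m := by
  obtain ⟨V, hyV, n, rfl⟩ := TopCat.Presheaf.exists_germ_eq L.presheaf m
  have hy' : y ∈ V ⊓ W := Opens.mem_inf.mpr ⟨hyV, hy⟩
  have hl : V ⊓ W ≤ V := inf_le_left
  have hr : V ⊓ W ≤ W := inf_le_right
  obtain ⟨a, ha⟩ := (hg (V ⊓ W) hr).exists_coord (res L hl n)
  refine ⟨X.presheaf.germ (V ⊓ W) y hy' a, ?_⟩
  have h1 := congrArg (L.presheaf.germ (V ⊓ W) y hy') ha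
  rw [Mero.germ_smul, TopCat.Presheaf.germ_res_apply, TopCat.Presheaf.germ_res_apply] at h1
  exact h1

/-- The stalk at `y` of the ideal of the zero scheme of `s`. -/
noncomputable def zeroStalkIdeal (L : X.Modules) (s : Coh.structureModule X ⟶ L) (y : X) :
    Ideal (X.presheaf.stalk y) where
  carrier := {φ | ∀ m : L.presheaf.stalk y, ∃ b : X.presheaf.stalk y, φ • m = b • sgerm s y}
  add_mem' := by
    intro φ ψ hφ hψ m
    obtain ⟨b, hb⟩ := hφ m
    obtain ⟨b', hb'⟩ := hψ m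
    exact ⟨b + b', by rw [add_smul, add_smul, hb, hb']⟩
  zero_mem' := fun m => ⟨0, by rw [zero_smul, zero_smul]⟩
  smul_mem' := by
    intro c φ hφ m
    obtain ⟨b, hb⟩ := hφ m
    exact ⟨c * b, by rw [smul_eq_mul, mul_smul, hb, mul_smul]⟩

theorem germ_mem_zeroStalkIdeal {L : X.Modules} {s : Coh.structureModule X ⟶ L} {W : X.Opens}
    {ε : Γ(L, W)} (hg : IsGen L W ε) {c : Γ(X, W)} (hc : sec s W = c • ε) {y : X} (hy : y ∈ W) :
    X.presheaf.germ W y hy c ∈ zeroStalkIdeal L s y := by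
  intro m
  obtain ⟨μ, rfl⟩ := exists_smul_germ_eq hg hy m
  exact ⟨μ, by rw [sgerm_eq_smul hc hy, smul_smul, smul_smul, mul_comm]⟩

theorem zeroStalkIdeal_le_span {L : X.Modules} {s : Coh.structureModule X ⟶ L} {W : X.Opens}
    {ε : Γ(L, W)} (hg : IsGen L W ε) {c : Γ(X, W)} (hc : sec s W = c • ε) {y : X} (hy : y ∈ W) :
    zeroStalkIdeal L s y ≤ Ideal.span {X.presheaf.germ W y hy c} := by
  intro φ hφ
  obtain ⟨b, hb⟩ := hφ (L.presheaf.germ W y hy ε)
  rw [sgerm_eq_smul hc hy, smul_smul] at hb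
  have h0 : (φ - b * X.presheaf.germ W y hy c) • L.presheaf.germ W y hy ε = 0 := by
    rw [sub_smul, hb, sub_self]
  have h1 := germ_smul_eq_zero hg hy _ h0
  rw [Ideal.mem_span_singleton']
  exact ⟨b, (sub_eq_zero.mp h1).symm⟩

/-- The quasi-coherent ideal sheaf with the stalks `zeroStalkIdeal`. -/
theorem exists_zeroIdealSheaf {L : X.Modules} (hL : PicF.IsInvertible L)
    (s : Coh.structureModule X ⟶ L) :
    ∃ J : X.IdealSheafData, ∀ U : X.affineOpens,
      J.ideal U = stalkIdeal (zeroStalkIdeal L s) U.1 := by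
  apply exists_idealSheafData_of_stalkGood
  intro x
  obtain ⟨W, ε, hxW, hg⟩ := exists_isGen hL x
  obtain ⟨c, hc⟩ := hg.self.exists_coord (sec s W)
  exact ⟨W, hxW, stalkGood_of_span c (fun y hy => germ_mem_zeroStalkIdeal hg hc.symm hy)
    (fun y hy => zeroStalkIdeal_le_span hg hc.symm hy)⟩

/-! ### Integral schemes -/

theorem sec_top_ne_zero {L : X.Modules} {s : Coh.structureModule X ⟶ L} (hs : s ≠ 0) :
    sec s ⊤ ≠ 0 := by
  intro h
  apply hs
  apply Groth.Agent.Lib.Helper3.SubIdeal.unit_hom_ext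
  rw [h]
  rfl

theorem sgerm_ne_zero [IsIntegral X] {L : X.Modules} (hL : PicF.IsInvertible L)
    {s : Coh.structureModule X ⟶ L} (hs : s ≠ 0) (y : X) : sgerm s y ≠ 0 := by
  intro h0
  obtain ⟨V, hyV, i, i', hres⟩ := TopCat.Presheaf.germ_eq L.presheaf y
    (Opens.mem_top y) (Opens.mem_top y) (sec s ⊤) 0 (by rw [map_zero]; exact h0)
  have hV : sec s V = 0 := by
    rw [← res_sec s (le_top : V ≤ ⊤)]
    have h1 : res L (le_top : V ≤ ⊤) (sec s ⊤) = L.presheaf.map i'.op 0 := hres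
    rw [h1, map_zero]
  apply sec_top_ne_zero hs
  choose W ε hzW hg using fun z => exists_isGen hL z
  refine sec_eq_of_locally_eq L W ⊤ (fun _ => le_top)
    (fun z _ => Opens.mem_iSup.mpr ⟨z, hzW z⟩) _ _ (fun z => ?_)
  rw [res_sec, res_zero]
  obtain ⟨c, hc⟩ := (hg z).self.exists_coord (sec s (W z))
  have hl : W z ⊓ V ≤ W z := inf_le_left
  have hr : W z ⊓ V ≤ V := inf_le_right
  have h1 : rres X hl c • res L hl (ε z) = 0 := by
    rw [← res_smul, hc, res_sec, ← res_sec s hr, hV, res_zero]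
  have h2 : rres X hl c = 0 := ((hg z) _ hl).eq_zero h1
  haveI : Nonempty (W z ⊓ V : X.Opens) := by
    obtain ⟨p, hp⟩ := nonempty_preirreducible_inter (W z).isOpen V.isOpen ⟨z, hzW z⟩ ⟨y, hyV⟩
    exact ⟨⟨p, hp⟩⟩
  have h3 : c = 0 :=
    map_injective_of_isIntegral X (homOfLE hl) (h2.trans (map_zero _).symm)
  rw [← hc, h3, zero_smul]

theorem stalk_smul_eq_zero [IsIntegral X] {L : X.Modules} (hL : PicF.IsInvertible L) {y : X}
    (r : X.presheaf.stalk y) (m : L.presheaf.stalk y) (h : r • m = 0) : r = 0 ∨ m = 0 := by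
  obtain ⟨W, ε, hyW, hg⟩ := exists_isGen hL y
  obtain ⟨μ, rfl⟩ := exists_smul_germ_eq hg hyW m
  rw [smul_smul] at h
  have h1 := germ_smul_eq_zero hg hyW _ h
  rcases mul_eq_zero.mp h1 with h2 | h2
  · exact Or.inl h2
  · right
    rw [h2, zero_smul]

theorem smul_sec_eq_zero [IsIntegral X] {L : X.Modules} (hL : PicF.IsInvertible L)
    {s : Coh.structureModule X ⟶ L} (hs : s ≠ 0) {W : X.Opens} (r : Γ(X, W))
    (h : r • sec s W = 0) : r = 0 := by
  refine TopCat.Presheaf.section_ext X.sheaf W r 0 (fun z hz => ?_)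
  rw [map_zero]
  have h1 := congrArg (L.presheaf.germ W z hz) h
  rw [Mero.germ_smul, map_zero, ← sgerm_eq s hz] at h1
  exact (stalk_smul_eq_zero hL _ _ h1).resolve_right (sgerm_ne_zero hL hs z)

theorem exists_smul_eq_of_mem_stalkIdeal [IsIntegral X] {L : X.Modules}
    (hL : PicF.IsInvertible L) {s : Coh.structureModule X ⟶ L} (hs : s ≠ 0) {V : X.Opens}
    {a : Γ(X, V)} (ha : a ∈ stalkIdeal (zeroStalkIdeal L s) V) (m : Γ(L, V)) :
    ∃ b : Γ(X, V), a • m = b • sec s V := by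
  have hloc : ∀ y : V, ∃ (W : X.Opens) (hWV : W ≤ V) (_ : y.1 ∈ W) (B : Γ(X, W)),
      res L hWV (a • m) = B • sec s W := by
    intro y
    obtain ⟨β, hβ⟩ := ha y.1 y.2 (L.presheaf.germ V y.1 y.2 m)
    obtain ⟨W₁, hyW₁, B₁, rfl⟩ := TopCat.Presheaf.exists_germ_eq X.presheaf β
    have hy' : y.1 ∈ V ⊓ W₁ := Opens.mem_inf.mpr ⟨y.2, hyW₁⟩
    have hl : V ⊓ W₁ ≤ V := inf_le_left
    have hr : V ⊓ W₁ ≤ W₁ := inf_le_right
    have hgerm : L.presheaf.germ (V ⊓ W₁) y.1 hy' (res L hl (a • m)) =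
        L.presheaf.germ (V ⊓ W₁) y.1 hy' (rres X hr B₁ • sec s (V ⊓ W₁)) := by
      rw [TopCat.Presheaf.germ_res_apply, Mero.germ_smul, Mero.germ_smul,
        TopCat.Presheaf.germ_res_apply, ← sgerm_eq s hy']
      exact hβ
    obtain ⟨W, hyW, i, i', hres⟩ := TopCat.Presheaf.germ_eq L.presheaf y.1 hy' hy' _ _ hgerm
    have hle : W ≤ V ⊓ W₁ := i.le
    refine ⟨W, hle.trans hl, hyW, rres X (hle.trans hr) B₁, ?_⟩
    calc res L (hle.trans hl) (a • m) = res L hle (res L hl (a • m)) := (res_res L hle hl _).symm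
      _ = res L hle (rres X hr B₁ • sec s (V ⊓ W₁)) := hres
      _ = rres X (hle.trans hr) B₁ • sec s W := by rw [res_smul, rres_rres, res_sec]
  choose W hWV hyW B hB using hloc
  have hcompat : ∀ i j : V, rres X (inf_le_left : W i ⊓ W j ≤ W i) (B i) =
      rres X (inf_le_right : W i ⊓ W j ≤ W j) (B j) := by
    intro i j
    have h1 : (rres X (inf_le_left : W i ⊓ W j ≤ W i) (B i) -
        rres X (inf_le_right : W i ⊓ W j ≤ W j) (B j)) • sec s (W i ⊓ W j) = 0 := by
      rw [sub_smul, sub_eq_zero]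
      have e1 : res L ((inf_le_left : W i ⊓ W j ≤ W i).trans (hWV i)) (a • m) =
          rres X (inf_le_left : W i ⊓ W j ≤ W i) (B i) • sec s (W i ⊓ W j) := by
        rw [← res_res L (inf_le_left : W i ⊓ W j ≤ W i) (hWV i), hB i, res_smul, res_sec]
      have e2 : res L ((inf_le_right : W i ⊓ W j ≤ W j).trans (hWV j)) (a • m) =
          rres X (inf_le_right : W i ⊓ W j ≤ W j) (B j) • sec s (W i ⊓ W j) := by
        rw [← res_res L (inf_le_right : W i ⊓ W j ≤ W j) (hWV j), hB j, res_smul, res_sec]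
      rw [← e1, ← e2]
    exact sub_eq_zero.mp (smul_sec_eq_zero hL hs _ h1)
  have hcov : V ≤ ⨆ i, W i := fun y hy => Opens.mem_iSup.mpr ⟨⟨y, hy⟩, hyW ⟨y, hy⟩⟩
  obtain ⟨b, hb⟩ := fun_glue W V hWV hcov B hcompat
  refine ⟨b, sec_eq_of_locally_eq L W V hWV hcov _ _ (fun i => ?_)⟩
  rw [hB i, res_smul, hb i, res_sec]

/-- On an affine open where `L` has a generator `ε` and `s = c • ε`, the ideal of `Z(s)` is `(c)`. -/
theorem zeroScheme_ideal_eq_span [IsIntegral X] {L : X.Modules} (hL : PicF.IsInvertible L)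
    {s : Coh.structureModule X ⟶ L} (hs : s ≠ 0) {U : X.Opens} (hU : IsAffineOpen U)
    {ε : Γ(L, U)} (hg : IsGen L U ε) {c : Γ(X, U)} (hc : sec s U = c • ε) :
    (PicF2.zeroScheme L s).ideal ⟨U, hU⟩ = Ideal.span {c} := by
  apply le_antisymm
  · intro a ha
    have ha' : a ∈ PicF2.zeroIdealOn L s U :=
      Scheme.IdealSheafData.ideal_ofIdeals_le _ ⟨U, hU⟩ ha
    obtain ⟨b, hb⟩ : ∃ b : Γ(X, U), a • ε = b • sec s U := ha' ε
    have hb' : a • ε = (b * c) • ε := by
      rw [mul_smul, ← hc]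
      exact hb
    rw [Ideal.mem_span_singleton']
    exact ⟨b, (hg.self.smul_inj hb').symm⟩
  · obtain ⟨J, hJ⟩ := exists_zeroIdealSheaf hL s
    have hJle : J ≤ PicF2.zeroScheme L s := by
      apply Scheme.IdealSheafData.le_ofIdeals_iff.mpr
      intro V a ha
      rw [hJ V] at ha
      intro m
      exact exists_smul_eq_of_mem_stalkIdeal hL hs ha m
    rw [Ideal.span_singleton_le_iff_mem]
    apply hJle ⟨U, hU⟩
    rw [hJ]
    intro y hy
    exact germ_mem_zeroStalkIdeal hg hc hy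

/-- The coordinate of a nonzero section with respect to a local generator is a regular section. -/
theorem coord_mem_regSub [IsIntegral X] {L : X.Modules} (hL : PicF.IsInvertible L)
    {s : Coh.structureModule X ⟶ L} (hs : s ≠ 0) {W : X.Opens} {ε : Γ(L, W)} {c : Γ(X, W)}
    (hc : sec s W = c • ε) : c ∈ regSub X W := by
  intro y
  show X.presheaf.germ W y.1 y.2 c ∈ nonZeroDivisors (X.presheaf.stalk y.1)
  apply mem_nonZeroDivisors_of_ne_zero
  intro h0
  apply sgerm_ne_zero hL hs y.1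
  rw [sgerm_eq_smul hc y.2, h0, zero_smul]

end H16Mero
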