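import Mathlib
import Groth.Agent.Lib.Helper16.Mero.DivIso

/-!
# An invertible module with a regular meromorphic section is `O_X(D)` for a divisor `D`
-/

set_option autoImplicit false
universe u
open CategoryTheory AlgebraicGeometry TopologicalSpace Opposite

namespace H16Mero

open Mero
open Groth.Agent.Lib.Helper3.InvGen Groth.Agent.Lib.Helper3.QCSec

variable {X : Scheme.{u}}

/-! ### Localized stalks of an invertible module -/

theorem mk_smul_one {L : X.Modules} {y : X} (γ : X.presheaf.stalk y) (m : L.presheaf.stalk y) :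
    (LocalizedModule.mk (γ • m) 1 : MStalk L y) =
      (LocalizedModule.mk γ 1 : KStalk X y) • (LocalizedModule.mk m 1 : MStalk L y) :=
  ((LocalizedModule.mk_smul_mk γ m 1 1).trans (mk_congr rfl (by rw [one_mul]))).symm

theorem surjective_smul_mk_germ {L : X.Modules} {U : X.Opens} {e : Γ(L, U)} (hg : IsGen L U e)
    {y : X} (hy : y ∈ U) (m : MStalk L y) :
    ∃ k : KStalk X y, k • (LocalizedModule.mk (L.presheaf.germ U y hy e) 1 : MStalk L y) = m := by
  induction m using LocalizedModule.induction_on with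
  | h n t =>
    obtain ⟨V, hyV, μ, rfl⟩ := TopCat.Presheaf.exists_germ_eq L.presheaf n
    have hy' : y ∈ V ⊓ U := Opens.mem_inf.mpr ⟨hyV, hy⟩
    have hl : V ⊓ U ≤ V := inf_le_left
    have hr : V ⊓ U ≤ U := inf_le_right
    obtain ⟨a, ha⟩ := (hg (V ⊓ U) hr).exists_coord (res L hl μ)
    refine ⟨LocalizedModule.mk (X.presheaf.germ (V ⊓ U) y hy' a) t, ?_⟩
    refine (LocalizedModule.mk_smul_mk _ _ t 1).trans (mk_congr ?_ (by rw [mul_one]))
    have h1 := congrArg (L.presheaf.germ (V ⊓ U) y hy') ha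
    rw [Mero.germ_smul, TopCat.Presheaf.germ_res_apply, TopCat.Presheaf.germ_res_apply] at h1
    exact h1

/-- Two descriptions `k • e = k' • e'` of an element of the localized stalk through germs of local generators
have the same class in `K^×/O^×`. -/
theorem germ_class_eq {L : X.Modules} {U U' : X.Opens} {ε : Γ(L, U)} {ε' : Γ(L, U')}
    (hg : IsGen L U ε) (hg' : IsGen L U' ε') {y : X} (hy : y ∈ U) (hy' : y ∈ U')
    (k k' : (KStalk X y)ˣ)
    (h : (k : KStalk X y) • (LocalizedModule.mk (L.presheaf.germ U y hy ε) 1 : MStalk L y) =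
      (k' : KStalk X y) • (LocalizedModule.mk (L.presheaf.germ U' y hy' ε') 1 : MStalk L y)) :
    (QuotientGroup.mk k : Germ X y) = QuotientGroup.mk k' := by
  have hyV : y ∈ U ⊓ U' := Opens.mem_inf.mpr ⟨hy, hy'⟩
  have hl : U ⊓ U' ≤ U := inf_le_left
  have hr : U ⊓ U' ≤ U' := inf_le_right
  obtain ⟨c, hc, hcε⟩ := IsGenAt.exists_unit (hg _ hl) (hg' _ hr)
  have hgerm : L.presheaf.germ U' y hy' ε' =
      X.presheaf.germ (U ⊓ U') y hyV c • L.presheaf.germ U y hy ε := by
    have h1 := congrArg (L.presheaf.germ (U ⊓ U') y hyV) hcε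
    rw [Mero.germ_smul, TopCat.Presheaf.germ_res_apply, TopCat.Presheaf.germ_res_apply] at h1
    exact h1
  have hγ : IsUnit (X.presheaf.germ (U ⊓ U') y hyV c) :=
    hc.map (X.presheaf.germ (U ⊓ U') y hyV).hom
  have h2 : ((k : KStalk X y) -
      (k' : KStalk X y) * LocalizedModule.mk (X.presheaf.germ (U ⊓ U') y hyV c) 1) •
      (LocalizedModule.mk (L.presheaf.germ U y hy ε) 1 : MStalk L y) = 0 := by
    rw [sub_smul, h, hgerm, mk_smul_one, mul_smul, sub_self]
  have h3 := sub_eq_zero.mp (smul_mk_germ_eq_zero hg hy _ h2)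
  symm
  rw [QuotientGroup.eq]
  refine ⟨hγ.unit, Units.ext ?_⟩
  show (LocalizedModule.mk (X.presheaf.germ (U ⊓ U') y hyV c) 1 : KStalk X y) =
    ((k'⁻¹ : (KStalk X y)ˣ) : KStalk X y) * (k : KStalk X y)
  rw [h3, ← mul_assoc, Units.inv_mul, one_mul]

/-! ### Division by a basis element of the localized stalk -/

section DivBy

variable {L : X.Modules} {y : X} (σ : MStalk L y)
  (hσ : Function.Bijective (fun k : KStalk X y => k • σ))

/-- `t ↦ t / σ`. -/
noncomputable def divByFun (t : L.presheaf.stalk y) : KStalk X y :=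
  Classical.choose (hσ.2 (LocalizedModule.mk t 1))

theorem divByFun_spec (t : L.presheaf.stalk y) :
    divByFun σ hσ t • σ = (LocalizedModule.mk t 1 : MStalk L y) :=
  Classical.choose_spec (hσ.2 (LocalizedModule.mk t 1))

theorem divByFun_eq {t : L.presheaf.stalk y} {k : KStalk X y}
    (h : k • σ = (LocalizedModule.mk t 1 : MStalk L y)) : divByFun σ hσ t = k :=
  hσ.1 ((divByFun_spec σ hσ t).trans h.symm)

/-- `t ↦ t / σ`, as a linear map from the stalk to `K_{X,y}`. -/
noncomputable def divBy : L.presheaf.stalk y →ₗ[X.presheaf.stalk y] KStalk X y where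
  toFun := divByFun σ hσ
  map_add' t t' := divByFun_eq σ hσ (by
    rw [add_smul, divByFun_spec, divByFun_spec]
    exact ((LocalizedModule.mkLinearMap (regStalk X y) (L.presheaf.stalk y)).map_add t t').symm)
  map_smul' r t := divByFun_eq σ hσ (by
    rw [RingHom.id_apply, Algebra.smul_def, mul_smul, divByFun_spec]
    exact (LocalizedModule.mk_smul_mk r t 1 1).trans (mk_congr rfl (by rw [one_mul])))

theorem divBy_eq {t : L.presheaf.stalk y} {k : KStalk X y}
    (h : k • σ = (LocalizedModule.mk t 1 : MStalk L y)) : divBy σ hσ t = k :=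
  divByFun_eq σ hσ h

end DivBy

/-! ### Morphisms into a module of the form `modOf` -/

section HomToModOf

variable {T' : X → Type u} [∀ x, AddCommGroup (T' x)] [∀ x, Module (X.presheaf.stalk x) (T' x)]

/-- The map on sections of `homToModOf`. -/
noncomputable def homToModOfFun (M : X.Modules) (Q : TopCat.LocalPredicate T') [IsModPred Q]
    (φ : ∀ x, M.presheaf.stalk x →ₗ[X.presheaf.stalk x] T' x)
    (hφ : ∀ (U : X.Opens) (m : Γ(M, U)),
      Q.pred (fun x : U => φ x.1 (M.presheaf.germ U x.1 x.2 m)))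
    (U : X.Opens) : Γ(M, U) →+ Γ(modOf Q, U) where
  toFun m := ⟨fun x => φ x.1 (M.presheaf.germ U x.1 x.2 m), hφ U m⟩
  map_zero' := Subtype.ext <| funext fun x => by
    change φ x.1 (M.presheaf.germ U x.1 x.2 0) = 0
    rw [map_zero, map_zero]
  map_add' s t := Subtype.ext <| funext fun x => by
    change φ x.1 (M.presheaf.germ U x.1 x.2 (s + t)) =
      φ x.1 (M.presheaf.germ U x.1 x.2 s) + φ x.1 (M.presheaf.germ U x.1 x.2 t)
    rw [map_add, map_add]

/-- A family of linear maps on the stalks sending germs of sections to families satisfying the predicate defines a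
morphism into `modOf`. -/
noncomputable def homToModOf (M : X.Modules) (Q : TopCat.LocalPredicate T') [IsModPred Q]
    (φ : ∀ x, M.presheaf.stalk x →ₗ[X.presheaf.stalk x] T' x)
    (hφ : ∀ (U : X.Opens) (m : Γ(M, U)),
      Q.pred (fun x : U => φ x.1 (M.presheaf.germ U x.1 x.2 m))) :
    M ⟶ modOf Q :=
  ⟨PresheafOfModules.homMk (M₁ := M.val) (M₂ := (modOf Q).val)
    { app := fun U => AddCommGrpCat.ofHom (homToModOfFun M Q φ hφ U.unop)
      naturality := fun {U V} i => by
        ext m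
        refine Subtype.ext (funext fun x => ?_)
        exact congrArg (φ x.1) (TopCat.Presheaf.germ_res_apply' M.presheaf i x.1 x.2 m) }
    (fun U r m => Subtype.ext <| funext fun x =>
      (congrArg (φ x.1) (Mero.germ_smul M U.unop x.1 x.2 r m)).trans (map_smul (φ x.1) _ _))⟩

theorem homToModOf_app (M : X.Modules) (Q : TopCat.LocalPredicate T') [IsModPred Q]
    (φ : ∀ x, M.presheaf.stalk x →ₗ[X.presheaf.stalk x] T' x)
    (hφ : ∀ (U : X.Opens) (m : Γ(M, U)),
      Q.pred (fun x : U => φ x.1 (M.presheaf.germ U x.1 x.2 m)))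
    (U : X.Opens) (m : Γ(M, U)) (x : U) :
    ((homToModOf M Q φ hφ).app U m).1 x = φ x.1 (M.presheaf.germ U x.1 x.2 m) := rfl

end HomToModOf

/-! ### Local descriptions of a regular meromorphic section -/

/-- A local description `s = F • ε` of a meromorphic section through a local generator `ε` and a unit `F` of
`Γ(U, K_X)`. -/
structure LocData (L : X.Modules) (s : Γ(merMod L, ⊤)) where
  U : X.Opens
  ε : Γ(L, U)
  hg : IsGen L U ε
  F : (Γ(kmod X, U))ˣ
  hs : ∀ (y : X) (hy : y ∈ U), s.1 ⟨y, Opens.mem_top y⟩ =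
    (F : Γ(kmod X, U)).1 ⟨y, hy⟩ • (LocalizedModule.mk (L.presheaf.germ U y hy ε) 1 : MStalk L y)

theorem exists_locData {L : X.Modules} (hL : PicF.IsInvertible L) (s : Γ(merMod L, ⊤))
    (hs : IsRegularMero L s) (x : X) : ∃ d : LocData L s, x ∈ d.U := by
  obtain ⟨W, ε, hxW, hg⟩ := exists_isGen hL x
  obtain ⟨V, hxV, i, m, b, hmb⟩ := s.2 ⟨x, Opens.mem_top x⟩
  have hx' : x ∈ V ⊓ W := Opens.mem_inf.mpr ⟨hxV, hxW⟩
  have hl : V ⊓ W ≤ V := inf_le_left
  have hr : V ⊓ W ≤ W := inf_le_right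
  obtain ⟨a, ha⟩ := (hg (V ⊓ W) hr).exists_coord (res L hl m)
  have hval : ∀ (y : X) (hy : y ∈ V ⊓ W), s.1 ⟨y, Opens.mem_top y⟩ =
      LocalizedModule.mk (X.presheaf.germ (V ⊓ W) y hy a • L.presheaf.germ W y (hr hy) ε)
        (regGerm ⟨y, hl hy⟩ b) := by
    intro y hy
    have h1 := hmb ⟨y, hl hy⟩
    refine h1.trans (mk_congr ?_ rfl)
    have h2 := congrArg (L.presheaf.germ (V ⊓ W) y hy) ha
    rw [Mero.germ_smul, TopCat.Presheaf.germ_res_apply, TopCat.Presheaf.germ_res_apply] at h2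
    exact h2.symm
  have hareg : a ∈ regSub X (V ⊓ W) := by
    intro y
    show X.presheaf.germ (V ⊓ W) y.1 y.2 a ∈ nonZeroDivisors (X.presheaf.stalk y.1)
    rw [mem_nonZeroDivisors_iff_right]
    intro ρ hρ
    have h3 : (LocalizedModule.mk ρ 1 : KStalk X y.1) • s.1 ⟨y.1, Opens.mem_top y.1⟩ = 0 := by
      rw [hval y.1 y.2]
      refine (LocalizedModule.mk_smul_mk ρ _ 1 _).trans ?_
      rw [smul_smul, hρ, zero_smul, LocalizedModule.zero_mk]
    have h4 := hs y.1 _ h3
    exact (Groth.Agent.Lib.Helper28.MeroBasic.mk_eq_zero_iff ρ 1).mp h4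
  let b' : regSub X (V ⊓ W) := ⟨X.presheaf.map (homOfLE hl).op b.1, regSub_res (homOfLE hl) b.2⟩
  let a' : regSub X (V ⊓ W) := ⟨a, hareg⟩
  let Fs : Γ(kmod X, V ⊓ W) :=
    ⟨fun y => LocalizedModule.mk (X.presheaf.germ (V ⊓ W) y.1 y.2 a) (regGerm y b'),
      fun y => ⟨V ⊓ W, y.2, 𝟙 _, a, b', fun z => rfl⟩⟩
  let Gs : Γ(kmod X, V ⊓ W) :=
    ⟨fun y => LocalizedModule.mk (X.presheaf.germ (V ⊓ W) y.1 y.2 b'.1) (regGerm y a'),
      fun y => ⟨V ⊓ W, y.2, 𝟙 _, b'.1, a', fun z => rfl⟩⟩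
  have hFG : Fs * Gs = 1 := Groth.Agent.Lib.Helper28.MeroBasic.kmod_ext fun y => by
    show (LocalizedModule.mk (X.presheaf.germ (V ⊓ W) y.1 y.2 a) (regGerm y b') : KStalk X y.1) *
      LocalizedModule.mk (X.presheaf.germ (V ⊓ W) y.1 y.2 b'.1) (regGerm y a') = 1
    refine LocalizedModule.mk_mul_mk.trans ?_
    exact (mk_congr (mul_comm _ _) rfl).trans (mk_self_eq_one (regGerm y b' * regGerm y a'))
  have hGF : Gs * Fs = 1 := by rw [mul_comm]; exact hFG
  refine ⟨⟨V ⊓ W, res L hr ε, hg.mono hr, ⟨Fs, Gs, hFG, hGF⟩, fun y hy => ?_⟩, hx'⟩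
  rw [hval y hy]
  show (LocalizedModule.mk (X.presheaf.germ (V ⊓ W) y hy a • L.presheaf.germ W y (hr hy) ε)
      (regGerm ⟨y, hl hy⟩ b) : MStalk L y) =
    (LocalizedModule.mk (X.presheaf.germ (V ⊓ W) y hy a) (regGerm ⟨y, hy⟩ b') : KStalk X y) •
      (LocalizedModule.mk (L.presheaf.germ (V ⊓ W) y hy (res L hr ε)) 1 : MStalk L y)
  refine ((LocalizedModule.mk_smul_mk _ _ _ 1).trans (mk_congr ?_ ?_)).symm
  · rw [TopCat.Presheaf.germ_res_apply]
  · rw [mul_one]
    exact TopCat.Presheaf.germ_res_apply X.presheaf (homOfLE hl) y hy b.1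

/-! ### The divisor of a regular meromorphic section and the isomorphism `L ≅ O_X(D)` -/

section Main

variable {L : X.Modules} {s : Γ(merMod L, ⊤)} (d : X → LocData L s) (hd : ∀ x, x ∈ (d x).U)

include hd in
theorem germOf_locData_eq (x : X) (y : (d x).U) :
    germOf (d y.1).F ⟨y.1, hd y.1⟩ = germOf (d x).F y :=
  germ_class_eq (d y.1).hg (d x).hg (hd y.1) y.2 _ _
    (((d y.1).hs y.1 (hd y.1)).symm.trans ((d x).hs y.1 y.2))

/-- The divisor of a meromorphic section given by local data. -/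
noncomputable def divOfData : Divisor X :=
  ⟨fun y => germOf (d y).F ⟨y, hd y⟩,
    fun x => ⟨(d x).U, hd x, (d x).F, fun y => germOf_locData_eq d hd x y⟩⟩

theorem divOfData_apply (x : X) (y : (d x).U) : (divOfData d hd).1 y.1 = germOf (d x).F y :=
  germOf_locData_eq d hd x y

include hd in
theorem bijective_smul_section (y : X) :
    Function.Bijective (fun k : KStalk X y => k • s.1 ⟨y, Opens.mem_top y⟩) := by
  have hFu : IsUnit (((d y).F : Γ(kmod X, (d y).U)).1 ⟨y, hd y⟩) :=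
    (d y).F.isUnit.map (evalK X (d y).U ⟨y, hd y⟩)
  have e := (d y).hs y (hd y)
  constructor
  · intro k k' hkk
    have hkk' : k • s.1 ⟨y, Opens.mem_top y⟩ = k' • s.1 ⟨y, Opens.mem_top y⟩ := hkk
    rw [e, ← mul_smul, ← mul_smul] at hkk'
    have h1 := smul_mk_germ_eq_zero (d y).hg (hd y)
      (k * ((d y).F : Γ(kmod X, (d y).U)).1 ⟨y, hd y⟩ -
        k' * ((d y).F : Γ(kmod X, (d y).U)).1 ⟨y, hd y⟩) (by rw [sub_smul, hkk', sub_self])
    exact hFu.mul_left_injective (sub_eq_zero.mp h1)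
  · intro m
    obtain ⟨k, hk⟩ := surjective_smul_mk_germ (d y).hg (hd y) m
    obtain ⟨G, hG⟩ := hFu.exists_left_inv
    refine ⟨k * G, ?_⟩
    show (k * G) • s.1 ⟨y, Opens.mem_top y⟩ = m
    rw [e, ← mul_smul, mul_assoc, hG, mul_one]
    exact hk

/-- Division by the meromorphic section, on stalks. -/
noncomputable def divBySection (y : X) : L.presheaf.stalk y →ₗ[X.presheaf.stalk y] KStalk X y :=
  divBy (s.1 ⟨y, Opens.mem_top y⟩) (bijective_smul_section d hd y)

theorem divBySection_germ (x : X) (y : X) (hy : y ∈ (d x).U) :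
    divBySection d hd y (L.presheaf.germ (d x).U y hy (d x).ε) =
      (↑(d x).F⁻¹ : Γ(kmod X, (d x).U)).1 ⟨y, hy⟩ := by
  refine divBy_eq _ _ ?_
  rw [(d x).hs y hy, ← mul_smul, inv_mul_apply (d x).F ⟨y, hy⟩, one_smul]

theorem divBySection_pred (U : X.Opens) (m : Γ(L, U)) :
    (divLoc X (divOfData d hd)).pred
      (fun x : U => divBySection d hd x.1 (L.presheaf.germ U x.1 x.2 m)) := by
  have hform : ∀ x : U, ∃ (V : X.Opens) (hVU : V ≤ U) (hVd : V ≤ (d x.1).U) (_ : x.1 ∈ V)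
      (a : Γ(X, V)), ∀ (z : X) (hz : z ∈ V),
        divBySection d hd z (L.presheaf.germ U z (hVU hz) m) =
          (LocalizedModule.mk (X.presheaf.germ V z hz a) 1 : KStalk X z) *
            (↑(d x.1).F⁻¹ : Γ(kmod X, (d x.1).U)).1 ⟨z, hVd hz⟩ := by
    intro x
    have hl : U ⊓ (d x.1).U ≤ U := inf_le_left
    have hr : U ⊓ (d x.1).U ≤ (d x.1).U := inf_le_right
    obtain ⟨a, ha⟩ := ((d x.1).hg (U ⊓ (d x.1).U) hr).exists_coord (res L hl m)
    refine ⟨U ⊓ (d x.1).U, hl, hr, Opens.mem_inf.mpr ⟨x.2, hd x.1⟩, a, fun z hz => ?_⟩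
    have h1 := congrArg (L.presheaf.germ (U ⊓ (d x.1).U) z hz) ha
    rw [Mero.germ_smul, TopCat.Presheaf.germ_res_apply, TopCat.Presheaf.germ_res_apply] at h1
    rw [← h1, map_smul, divBySection_germ d hd x.1 z (hr hz), Algebra.smul_def]
    rfl
  constructor
  · intro x
    obtain ⟨V, hVU, hVd, hxV, a, hform'⟩ := hform x
    let G : Γ(kmod X, V) := toK X V a *
      (kmod X).presheaf.map (homOfLE hVd).op (↑(d x.1).F⁻¹ : Γ(kmod X, (d x.1).U))
    obtain ⟨V', hxV', i', a', b', hG⟩ := G.2 ⟨x.1, hxV⟩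
    refine ⟨V', hxV', i' ≫ homOfLE hVU, a', b', fun z => ?_⟩
    have h2 := hG z
    refine Eq.trans ?_ h2
    exact hform' z.1 (i'.le z.2)
  · intro x
    show DivCond (divOfData d hd) x.1 (divBySection d hd x.1 (L.presheaf.germ U x.1 x.2 m))
    obtain ⟨V, hVU, hVd, hxV, a, hform'⟩ := hform x
    refine (divCond_iff_of_germ (uval (d x.1).F ⟨x.1, hd x.1⟩)
      (divOfData_apply d hd x.1 ⟨x.1, hd x.1⟩) _).mpr ?_
    refine ⟨X.presheaf.germ V x.1 hxV a, ?_⟩
    rw [hform' x.1 hxV, mul_assoc]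
    have h3 : (↑(d x.1).F⁻¹ : Γ(kmod X, (d x.1).U)).1 ⟨x.1, hVd hxV⟩ *
        ((uval (d x.1).F ⟨x.1, hd x.1⟩ : (KStalk X x.1)ˣ) : KStalk X x.1) = 1 :=
      inv_mul_apply (d x.1).F ⟨x.1, hd x.1⟩
    rw [h3, mul_one]
    rfl

/-- The morphism `L ⟶ O_X(D)`, division by the meromorphic section. -/
noncomputable def toDivMod : L ⟶ divMod (divOfData d hd) :=
  homToModOf L (divLoc X (divOfData d hd)) (divBySection d hd) (divBySection_pred d hd)

theorem isIso_toDivMod : IsIso (toDivMod d hd) := by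
  apply Groth.Agent.Lib.Helper3.GrModComap.isIso_of_bijective_on_basis
  intro W x hxW
  have hl : W ⊓ (d x).U ≤ W := inf_le_left
  have hr : W ⊓ (d x).U ≤ (d x).U := inf_le_right
  refine ⟨W ⊓ (d x).U, Opens.mem_inf.mpr ⟨hxW, hd x⟩, hl, ?_⟩
  have hgenL := (d x).hg (W ⊓ (d x).U) hr
  have hgenD := isGen_invSec (divOfData d hd) (d x).F (fun y => divOfData_apply d hd x y)
    (W ⊓ (d x).U) hr
  have hkey : (toDivMod d hd).app (W ⊓ (d x).U) (res L hr (d x).ε) =
      res (divMod (divOfData d hd)) hr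
        (invSec (divOfData d hd) (d x).F (fun y => divOfData_apply d hd x y)) := by
    refine Subtype.ext (funext fun y => ?_)
    show divBySection d hd y.1 (L.presheaf.germ (W ⊓ (d x).U) y.1 y.2 (res L hr (d x).ε)) =
      (↑(d x).F⁻¹ : Γ(kmod X, (d x).U)).1 ⟨y.1, hr y.2⟩
    rw [TopCat.Presheaf.germ_res_apply]
    exact divBySection_germ d hd x y.1 (hr y.2)
  constructor
  · intro m m' hmm
    obtain ⟨a, rfl⟩ := hgenL.exists_coord m
    obtain ⟨a', rfl⟩ := hgenL.exists_coord m'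
    rw [Scheme.Modules.Hom.app_smul, Scheme.Modules.Hom.app_smul, hkey] at hmm
    rw [hgenD.smul_inj hmm]
  · intro t
    obtain ⟨a, ha⟩ := hgenD.exists_coord t
    refine ⟨a • res L hr (d x).ε, ?_⟩
    rw [Scheme.Modules.Hom.app_smul, hkey]
    exact ha

end Main

/-- An invertible module with a regular meromorphic section is isomorphic to `O_X(D)` for a divisor `D`. -/
theorem exists_divisor_iso_of_regular {L : X.Modules} (hL : PicF.IsInvertible L)
    (s : Γ(merMod L, ⊤)) (hs : IsRegularMero L s) :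
    ∃ D : Divisor X, Nonempty (L ≅ divMod D) := by
  choose d hd using exists_locData hL s hs
  haveI := isIso_toDivMod d hd
  exact ⟨divOfData d hd, ⟨asIso (toDivMod d hd)⟩⟩

theorem exists_divisor_iso_of_hasRegularMero {L : X.Modules} (hL : PicF.IsInvertible L)
    (h : HasRegularMero L) : ∃ D : Divisor X, Nonempty (L ≅ divMod D) := by
  obtain ⟨s, hs⟩ := h
  exact exists_divisor_iso_of_regular hL s hs

end H16Mero
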