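import Mathlib
import Groth.Agent.Lib.Helper16.Mero.DivIso2
import Groth.Agent.Lib.Helper28.MeroDivLocal
import Groth.Agent.Lib.Helper3.InvMonoidal

/-!
# `O_X(D)` (and every module isomorphic to it) has a regular meromorphic section
-/

set_option autoImplicit false
universe u
open CategoryTheory AlgebraicGeometry TopologicalSpace Opposite

namespace H16Mero

open Mero
open Groth.Agent.Lib.Helper3.InvGen Groth.Agent.Lib.Helper3.QCSec

variable {X : Scheme.{u}}

/-- A meromorphic section described locally as (unit of `K_X`) • (local generator), compatibly, is regular. -/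
theorem hasRegularMero_of_data {L : X.Modules} (W : X → X.Opens) (ε : ∀ x, Γ(L, W x))
    (hxW : ∀ x, x ∈ W x) (hg : ∀ x, IsGen L (W x) (ε x)) (f : ∀ x, Γ(kmod X, W x))
    (hfu : ∀ x, IsUnit (f x))
    (hC : ∀ (x y : X) (hy : y ∈ W x),
      (f y).1 ⟨y, hxW y⟩ •
        (LocalizedModule.mk (L.presheaf.germ (W y) y (hxW y) (ε y)) 1 : MStalk L y) =
      (f x).1 ⟨y, hy⟩ •
        (LocalizedModule.mk (L.presheaf.germ (W x) y hy (ε x)) 1 : MStalk L y)) :
    HasRegularMero L := by
  let sfun : ∀ x : (⊤ : X.Opens), MStalk L x.1 := fun x =>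
    (f x.1).1 ⟨x.1, hxW x.1⟩ •
      (LocalizedModule.mk (L.presheaf.germ (W x.1) x.1 (hxW x.1) (ε x.1)) 1 : MStalk L x.1)
  have hpred : (mLoc L).pred sfun := by
    intro x
    obtain ⟨W', hxW', hW'le, a, b, hab⟩ :=
      Groth.Agent.Lib.Helper28.MeroBasic.kmod_local (f x.1) ⟨x.1, hxW x.1⟩
    refine ⟨W', hxW', homOfLE le_top, a • res L hW'le (ε x.1), b, fun y => ?_⟩
    show (f y.1).1 ⟨y.1, hxW y.1⟩ •
        (LocalizedModule.mk (L.presheaf.germ (W y.1) y.1 (hxW y.1) (ε y.1)) 1 : MStalk L y.1) =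
      LocalizedModule.mk (L.presheaf.germ W' y.1 y.2 (a • res L hW'le (ε x.1))) (regGerm y b)
    rw [hC x.1 y.1 (hW'le y.2), hab y]
    refine (LocalizedModule.mk_smul_mk _ _ _ 1).trans (mk_congr ?_ (by rw [mul_one]))
    rw [Mero.germ_smul, TopCat.Presheaf.germ_res_apply]
  refine ⟨⟨sfun, hpred⟩, fun x q hq => ?_⟩
  have hq' : q • ((f x).1 ⟨x, hxW x⟩ •
      (LocalizedModule.mk (L.presheaf.germ (W x) x (hxW x) (ε x)) 1 : MStalk L x)) = 0 := hq
  rw [← mul_smul] at hq'
  have h1 := smul_mk_germ_eq_zero (hg x) (hxW x) _ hq'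
  have hu : IsUnit ((f x).1 ⟨x, hxW x⟩) := (hfu x).map (evalK X (W x) ⟨x, hxW x⟩)
  exact hu.mul_left_eq_zero.mp h1

/-- Transport of local generators along an isomorphism. -/
theorem isGen_of_iso {M N : X.Modules} (e : M ≅ N) {U : X.Opens} {e₀ : Γ(N, U)}
    (hg : IsGen N U e₀) : IsGen M U (e.inv.app U e₀) := by
  intro V hV
  rw [← Groth.Agent.Lib.Helper3.QCExact.app_res']
  constructor
  · intro a b hab
    have hab' : a • e.inv.app V (res N hV e₀) = b • e.inv.app V (res N hV e₀) := hab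
    rw [← Scheme.Modules.Hom.app_smul, ← Scheme.Modules.Hom.app_smul] at hab'
    have h1 := congrArg (e.hom.app V) hab'
    rw [Groth.Agent.Lib.Helper3.InvMonoidal.iso_hom_inv_app,
      Groth.Agent.Lib.Helper3.InvMonoidal.iso_hom_inv_app] at h1
    exact (hg V hV).smul_inj h1
  · intro m
    obtain ⟨a, ha⟩ := (hg V hV).exists_coord (e.hom.app V m)
    refine ⟨a, ?_⟩
    show a • e.inv.app V (res N hV e₀) = m
    rw [← Scheme.Modules.Hom.app_smul, ha, Groth.Agent.Lib.Helper3.InvMonoidal.iso_inv_hom_app]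

/-- The unit `a / b` of `Γ(W, K_X)` for regular sections `a`, `b`. -/
noncomputable def fracSec {W : X.Opens} (a b : regSub X W) : (Γ(kmod X, W))ˣ where
  val := ⟨fun y => LocalizedModule.mk (X.presheaf.germ W y.1 y.2 a.1) (regGerm y b),
    fun y => ⟨W, y.2, 𝟙 _, a.1, b, fun z => rfl⟩⟩
  inv := ⟨fun y => LocalizedModule.mk (X.presheaf.germ W y.1 y.2 b.1) (regGerm y a),
    fun y => ⟨W, y.2, 𝟙 _, b.1, a, fun z => rfl⟩⟩
  val_inv := Groth.Agent.Lib.Helper28.MeroBasic.kmod_ext fun y => by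
    show (LocalizedModule.mk (X.presheaf.germ W y.1 y.2 a.1) (regGerm y b) : KStalk X y.1) *
      LocalizedModule.mk (X.presheaf.germ W y.1 y.2 b.1) (regGerm y a) = 1
    refine LocalizedModule.mk_mul_mk.trans ?_
    exact (mk_congr (mul_comm _ _) rfl).trans (mk_self_eq_one (regGerm y b * regGerm y a))
  inv_val := Groth.Agent.Lib.Helper28.MeroBasic.kmod_ext fun y => by
    show (LocalizedModule.mk (X.presheaf.germ W y.1 y.2 b.1) (regGerm y a) : KStalk X y.1) *
      LocalizedModule.mk (X.presheaf.germ W y.1 y.2 a.1) (regGerm y b) = 1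
    refine LocalizedModule.mk_mul_mk.trans ?_
    exact (mk_congr (mul_comm _ _) rfl).trans (mk_self_eq_one (regGerm y a * regGerm y b))

theorem fracSec_apply {W : X.Opens} (a b : regSub X W) (y : W) :
    ((fracSec a b : (Γ(kmod X, W))ˣ) : Γ(kmod X, W)).1 y =
      LocalizedModule.mk (X.presheaf.germ W y.1 y.2 a.1) (regGerm y b) := rfl

theorem fracSec_inv_apply {W : X.Opens} (a b : regSub X W) (y : W) :
    (↑(fracSec a b)⁻¹ : Γ(kmod X, W)).1 y =
      LocalizedModule.mk (X.presheaf.germ W y.1 y.2 b.1) (regGerm y a) := rfl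

/-- A module isomorphic to `O_X(D)` has a regular meromorphic section. -/
theorem hasRegularMero_of_iso_divMod {L : X.Modules} (D : Divisor X) (e : L ≅ divMod D) :
    HasRegularMero L := by
  choose W hWaff hxW a b hD using
    Groth.Agent.Lib.Helper28.MeroDivLocal.exists_local_fraction D
  have hf : ∀ (x : X) (y : W x), D.1 y.1 = germOf (fracSec (a x) (b x)) y := fun x y =>
    (hD x y).trans (congrArg _ (Units.ext rfl))
  let e₀ : ∀ x, Γ(divMod D, W x) := fun x => invSec D (fracSec (a x) (b x)) (hf x)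
  have hg₀ : ∀ x, IsGen (divMod D) (W x) (e₀ x) := fun x => isGen_invSec D _ (hf x)
  refine hasRegularMero_of_data W (fun x => e.inv.app (W x) (e₀ x)) hxW
    (fun x => isGen_of_iso e (hg₀ x)) (fun x => ((fracSec (a x) (b x) : (Γ(kmod X, W x))ˣ) :
      Γ(kmod X, W x))) (fun x => (fracSec (a x) (b x)).isUnit) ?_
  intro x y hy
  have hyV : y ∈ W x ⊓ W y := Opens.mem_inf.mpr ⟨hy, hxW y⟩
  have hl : W x ⊓ W y ≤ W x := inf_le_left
  have hr : W x ⊓ W y ≤ W y := inf_le_right
  -- the key identity of sections of `L` over the intersection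
  have hkey : (rres X hl (b x).1 * rres X hr (a y).1) • res L hr (e.inv.app (W y) (e₀ y)) =
      (rres X hr (b y).1 * rres X hl (a x).1) • res L hl (e.inv.app (W x) (e₀ x)) := by
    have hinj : Function.Injective (e.hom.app (W x ⊓ W y)) := fun m m' hmm => by
      have h1 := congrArg (e.inv.app (W x ⊓ W y)) hmm
      rwa [Groth.Agent.Lib.Helper3.InvMonoidal.iso_inv_hom_app,
        Groth.Agent.Lib.Helper3.InvMonoidal.iso_inv_hom_app] at h1
    apply hinj
    rw [Scheme.Modules.Hom.app_smul, Scheme.Modules.Hom.app_smul,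
      Groth.Agent.Lib.Helper3.QCExact.app_res', Groth.Agent.Lib.Helper3.QCExact.app_res',
      Groth.Agent.Lib.Helper3.InvMonoidal.iso_hom_inv_app,
      Groth.Agent.Lib.Helper3.InvMonoidal.iso_hom_inv_app]
    refine Subtype.ext (funext fun z => ?_)
    show X.presheaf.germ (W x ⊓ W y) z.1 z.2 (rres X hl (b x).1 * rres X hr (a y).1) •
        (LocalizedModule.mk (X.presheaf.germ (W y) z.1 (hr z.2) (b y).1)
          (regGerm ⟨z.1, hr z.2⟩ (a y)) : KStalk X z.1) =
      X.presheaf.germ (W x ⊓ W y) z.1 z.2 (rres X hr (b y).1 * rres X hl (a x).1) •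
        (LocalizedModule.mk (X.presheaf.germ (W x) z.1 (hl z.2) (b x).1)
          (regGerm ⟨z.1, hl z.2⟩ (a x)) : KStalk X z.1)
    rw [LocalizedModule.smul'_mk, LocalizedModule.smul'_mk, LocalizedModule.mk_eq]
    refine ⟨1, ?_⟩
    simp only [one_smul, Submonoid.smul_def, smul_eq_mul, map_mul,
      TopCat.Presheaf.germ_res_apply]
    show X.presheaf.germ (W x) z.1 (hl z.2) (a x).1 *
        (X.presheaf.germ (W x) z.1 (hl z.2) (b x).1 * X.presheaf.germ (W y) z.1 (hr z.2) (a y).1 *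
          X.presheaf.germ (W y) z.1 (hr z.2) (b y).1) =
      X.presheaf.germ (W y) z.1 (hr z.2) (a y).1 *
        (X.presheaf.germ (W y) z.1 (hr z.2) (b y).1 * X.presheaf.germ (W x) z.1 (hl z.2) (a x).1 *
          X.presheaf.germ (W x) z.1 (hl z.2) (b x).1)
    ring
  have hgermkey := congrArg (L.presheaf.germ (W x ⊓ W y) y hyV) hkey
  rw [Mero.germ_smul, Mero.germ_smul, map_mul, map_mul, TopCat.Presheaf.germ_res_apply,
    TopCat.Presheaf.germ_res_apply, TopCat.Presheaf.germ_res_apply,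
    TopCat.Presheaf.germ_res_apply, TopCat.Presheaf.germ_res_apply,
    TopCat.Presheaf.germ_res_apply] at hgermkey
  show (LocalizedModule.mk (X.presheaf.germ (W y) y (hxW y) (a y).1)
        (regGerm ⟨y, hxW y⟩ (b y)) : KStalk X y) •
      (LocalizedModule.mk (L.presheaf.germ (W y) y (hxW y) (e.inv.app (W y) (e₀ y))) 1 :
        MStalk L y) =
    (LocalizedModule.mk (X.presheaf.germ (W x) y hy (a x).1)
        (regGerm ⟨y, hy⟩ (b x)) : KStalk X y) •
      (LocalizedModule.mk (L.presheaf.germ (W x) y hy (e.inv.app (W x) (e₀ x))) 1 : MStalk L y)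
  refine (LocalizedModule.mk_smul_mk _ _ _ 1).trans
    (Eq.trans ?_ (LocalizedModule.mk_smul_mk _ _ _ 1).symm)
  rw [LocalizedModule.mk_eq]
  refine ⟨1, ?_⟩
  simp only [one_smul, mul_one, Submonoid.smul_def]
  show X.presheaf.germ (W x) y hy (b x).1 •
      X.presheaf.germ (W y) y (hxW y) (a y).1 •
        L.presheaf.germ (W y) y (hxW y) (e.inv.app (W y) (e₀ y)) =
    X.presheaf.germ (W y) y (hxW y) (b y).1 •
      X.presheaf.germ (W x) y hy (a x).1 •
        L.presheaf.germ (W x) y hy (e.inv.app (W x) (e₀ x))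
  rw [smul_smul, smul_smul]
  exact hgermkey

end H16Mero
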