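import Mathlib
import Groth.Agent.Lib.Helper16.Mero.DivIso3
import Groth.Agent.Lib.Helper16.Mero.SemiLoc
import Groth.Agent.S5085

/-!
# Regular meromorphic sections when the associated points lie in an affine open
-/

set_option autoImplicit false
universe u
open CategoryTheory AlgebraicGeometry TopologicalSpace Opposite

namespace H16Mero

open Mero
open Groth.Agent.Lib.Helper3.InvGen Groth.Agent.Lib.Helper3.QCSec

variable {X : Scheme.{u}}

/-- A weakly associated point of `O_X` has its maximal ideal associated to the local ring. -/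
theorem isAssociatedPrime_of_isWeakAssPoint {z : X}
    (hz : Curv2.IsWeakAssPoint (Coh.structureModule X) z) :
    IsAssociatedPrime (IsLocalRing.maximalIdeal (X.presheaf.stalk z)) (X.presheaf.stalk z) := by
  obtain ⟨e, hinj, hsurj⟩ := Groth.Agent.S8869.stalk_structure_bij X z
  obtain ⟨m, hm⟩ := hz
  obtain ⟨b, rfl⟩ := hsurj m
  have hker : (LinearMap.ker (LinearMap.toSpanSingleton (X.presheaf.stalk z)
        ((Coh.structureModule X).presheaf.stalk z) (b • e)) : Ideal (X.presheaf.stalk z)) =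
      LinearMap.ker (LinearMap.toSpanSingleton (X.presheaf.stalk z) (X.presheaf.stalk z) b) := by
    ext a
    rw [LinearMap.mem_ker, LinearMap.toSpanSingleton_apply, LinearMap.mem_ker,
      LinearMap.toSpanSingleton_apply, smul_smul, smul_eq_mul]
    exact ⟨fun h => hinj _ h, fun h => by rw [h, zero_smul]⟩
  rw [hker] at hm
  unfold IsAssociatedPrime
  rw [Submodule.isAssociatedPrime_def]
  exact ⟨(IsLocalRing.maximalIdeal.isMaximal _).isPrime, b, by
    rw [Groth.Agent.Lib.Helper3.QS.colon_bot_singleton_eq_ker]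
    exact hm.symm⟩

/-- An open containing the associated points of a bigger open is schematically dense in it. -/
theorem injective_res_of_assPoints {A B : X.Opens} (hAB : A ≤ B)
    (hA : ∀ z : X, z ∈ B →
      IsAssociatedPrime (IsLocalRing.maximalIdeal (X.presheaf.stalk z)) (X.presheaf.stalk z) → z ∈ A) :
    Function.Injective ⇑(X.presheaf.map (homOfLE hAB).op) := by
  intro a b hab
  have hd : X.presheaf.map (homOfLE hAB).op (a - b) = 0 := by
    rw [map_sub, hab, sub_self]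
  suffices h0 : a - b = 0 from sub_eq_zero.mp h0
  by_contra hne
  have hex : ∃ (x : X) (hx : x ∈ B), X.presheaf.germ B x hx (a - b) ≠ 0 := by
    by_contra hno
    push_neg at hno
    exact hne (Groth.Agent.Lib.Helper28.MeroBasic.section_eq_zero B (a - b) hno)
  obtain ⟨x, hxB, hgx⟩ := hex
  obtain ⟨B', hB', hxB', hB'B⟩ := Opens.isBasis_iff_nbhd.mp X.isBasis_affineOpens hxB
  have hB'aff : IsAffineOpen B' := hB'
  have hB'le : B' ≤ B := hB'B
  have hd' : X.presheaf.map (homOfLE hB'le).op (a - b) ≠ 0 := by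
    intro h0
    apply hgx
    have h1 := congrArg (X.presheaf.germ B' x hxB') h0
    rw [TopCat.Presheaf.germ_res_apply, map_zero] at h1
    exact h1
  obtain ⟨z, hzB', hzw, hzne⟩ := exists_weakAssPoint_germ_ne_zero' hB'aff _ hd'
  have hzB : z ∈ B := hB'le hzB'
  have hzA : z ∈ A := hA z hzB (isAssociatedPrime_of_isWeakAssPoint hzw)
  apply hzne
  rw [TopCat.Presheaf.germ_res_apply]
  have h2 := congrArg (X.presheaf.germ A z hzA) hd
  rw [TopCat.Presheaf.germ_res_apply, map_zero] at h2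
  exact h2

/-- If an invertible module on a locally Noetherian scheme has a generator over an open containing all
associated points, it has a regular meromorphic section. -/
theorem hasRegularMero_of_dense_gen [IsLocallyNoetherian X] {L : X.Modules}
    (hL : PicF.IsInvertible L) (V₀ : X.Opens) (e : Γ(L, V₀)) (hge : IsGen L V₀ e)
    (hV₀ : ∀ z : X,
      IsAssociatedPrime (IsLocalRing.maximalIdeal (X.presheaf.stalk z)) (X.presheaf.stalk z) →
        z ∈ V₀) : HasRegularMero L := by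
  choose W ε hWaff hxW hg using fun x : X => exists_affine_isGen hL x
  -- transition functions to the dense generator
  have hunit : ∀ x : X, ∃ g : Γ(X, W x ⊓ V₀), IsUnit g ∧
      res L (inf_le_right : W x ⊓ V₀ ≤ V₀) e =
        g • res L (inf_le_left : W x ⊓ V₀ ≤ W x) (ε x) := fun x =>
    IsGenAt.exists_unit (hg x _ inf_le_left) (hge _ inf_le_right)
  choose g hgu hgε using hunit
  have hg' : ∀ x : X, ∃ g' : Γ(X, W x ⊓ V₀), g x * g' = 1 := fun x => (hgu x).exists_right_inv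
  choose g' hgg' using hg'
  -- density
  have hdense : ∀ (U : X.Opens) (W' : X.Opens), W' ≤ U →
      Function.Injective ⇑(X.presheaf.map (homOfLE (inf_le_left : W' ⊓ (U ⊓ V₀) ≤ W')).op) :=
    fun U W' hW'U => injective_res_of_assPoints _ (fun z hz hass =>
      Opens.mem_inf.mpr ⟨hz, Opens.mem_inf.mpr ⟨hW'U hz, hV₀ z hass⟩⟩)
  have hf : ∀ x : X, ∃ f : Γ(kmod X, W x),
      (kmod X).presheaf.map (homOfLE (inf_le_left : W x ⊓ V₀ ≤ W x)).op f = toK X _ (g x) :=
    fun x => exists_extension X (Or.inl inferInstance) (W x) (W x ⊓ V₀) inf_le_left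
      (hdense (W x)) (g x)
  choose f hf using hf
  have hf' : ∀ x : X, ∃ f' : Γ(kmod X, W x),
      (kmod X).presheaf.map (homOfLE (inf_le_left : W x ⊓ V₀ ≤ W x)).op f' = toK X _ (g' x) :=
    fun x => exists_extension X (Or.inl inferInstance) (W x) (W x ⊓ V₀) inf_le_left
      (hdense (W x)) (g' x)
  choose f' hf' using hf'
  have hfval : ∀ (x z : X) (hz : z ∈ W x ⊓ V₀),
      (f x).1 ⟨z, (Opens.mem_inf.mp hz).1⟩ =
        LocalizedModule.mk (X.presheaf.germ (W x ⊓ V₀) z hz (g x)) 1 := fun x z hz =>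
    congrArg (fun F : Γ(kmod X, W x ⊓ V₀) => F.1 ⟨z, hz⟩) (hf x)
  have hfu : ∀ x : X, IsUnit (f x) := by
    intro x
    refine IsUnit.of_mul_eq_one (f' x) ?_
    apply Groth.Agent.S5085.result X (W x) (W x ⊓ V₀) inf_le_left (hdense (W x))
    have h1 : (kmod X).presheaf.map (homOfLE (inf_le_left : W x ⊓ V₀ ≤ W x)).op (f x * f' x) =
        (kmod X).presheaf.map (homOfLE (inf_le_left : W x ⊓ V₀ ≤ W x)).op (f x) *
          (kmod X).presheaf.map (homOfLE (inf_le_left : W x ⊓ V₀ ≤ W x)).op (f' x) := rfl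
    have h2 : (kmod X).presheaf.map (homOfLE (inf_le_left : W x ⊓ V₀ ≤ W x)).op
        (1 : Γ(kmod X, W x)) = 1 := rfl
    rw [h1, h2, hf x, hf' x, ← map_mul, hgg' x, map_one]
  refine hasRegularMero_of_data W ε hxW hg f hfu ?_
  intro x y hy
  have hyU : y ∈ W x ⊓ W y := Opens.mem_inf.mpr ⟨hy, hxW y⟩
  obtain ⟨u, huu, huε⟩ := IsGenAt.exists_unit (hg x _ (inf_le_left : W x ⊓ W y ≤ W x))
    (hg y _ (inf_le_right : W x ⊓ W y ≤ W y))
  have hgerm : L.presheaf.germ (W y) y (hxW y) (ε y) =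
      X.presheaf.germ (W x ⊓ W y) y hyU u • L.presheaf.germ (W x) y hy (ε x) := by
    have h1 := congrArg (L.presheaf.germ (W x ⊓ W y) y hyU) huε
    rw [Mero.germ_smul, TopCat.Presheaf.germ_res_apply, TopCat.Presheaf.germ_res_apply] at h1
    exact h1
  have hF : (kmod X).presheaf.map (homOfLE (inf_le_right : W x ⊓ W y ≤ W y)).op (f y) *
      toK X (W x ⊓ W y) u =
      (kmod X).presheaf.map (homOfLE (inf_le_left : W x ⊓ W y ≤ W x)).op (f x) := by
    apply Groth.Agent.S5085.result X (W x ⊓ W y) (W x ⊓ W y ⊓ V₀) inf_le_left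
      (fun W' hW' => by
        have h3 := hdense (W x ⊓ W y) W' hW'
        have e1 : W' ⊓ (W x ⊓ W y ⊓ V₀) = W' ⊓ ((W x ⊓ W y) ⊓ V₀) := rfl
        exact h3)
    refine Groth.Agent.Lib.Helper28.MeroBasic.kmod_ext fun z => ?_
    have hzx : z.1 ∈ W x ⊓ V₀ :=
      Opens.mem_inf.mpr ⟨(Opens.mem_inf.mp (Opens.mem_inf.mp z.2).1).1, (Opens.mem_inf.mp z.2).2⟩
    have hzy : z.1 ∈ W y ⊓ V₀ :=
      Opens.mem_inf.mpr ⟨(Opens.mem_inf.mp (Opens.mem_inf.mp z.2).1).2, (Opens.mem_inf.mp z.2).2⟩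
    show (f y).1 ⟨z.1, (Opens.mem_inf.mp hzy).1⟩ *
        LocalizedModule.mk (X.presheaf.germ (W x ⊓ W y) z.1 (Opens.mem_inf.mp z.2).1 u) 1 =
      (f x).1 ⟨z.1, (Opens.mem_inf.mp hzx).1⟩
    rw [hfval y z.1 hzy, hfval x z.1 hzx]
    refine LocalizedModule.mk_mul_mk.trans (mk_congr ?_ (by rw [one_mul]))
    exact cocycle_germ (hg x) u (g y) (g x) huε (hgε y) (hgε x) z.1 _ _ _
  have hval : (f y).1 ⟨y, hxW y⟩ *
      LocalizedModule.mk (X.presheaf.germ (W x ⊓ W y) y hyU u) 1 = (f x).1 ⟨y, hy⟩ :=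
    congrArg (fun F : Γ(kmod X, W x ⊓ W y) => F.1 ⟨y, hyU⟩) hF
  rw [hgerm, mk_smul_one, ← mul_smul, hval]

/-- On a locally Noetherian scheme whose associated points lie in an affine open, every invertible module has a
regular meromorphic section. -/
theorem hasRegularMero_of_ass_affine [IsLocallyNoetherian X] {L : X.Modules}
    (hL : PicF.IsInvertible L) {W : X.Opens} (hW : IsAffineOpen W)
    (hass : ∀ x : X,
      IsAssociatedPrime (IsLocalRing.maximalIdeal (X.presheaf.stalk x)) (X.presheaf.stalk x) →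
        x ∈ W) : HasRegularMero L := by
  classical
  haveI : IsNoetherianRing Γ(X, W) := IsLocallyNoetherian.component_noetherian ⟨W, hW⟩
  have hfinAss : (associatedPrimes Γ(X, W) Γ(X, W)).Finite := associatedPrimes.finite _ _
  have hS₀fin : {x : X | ∃ hx : x ∈ W, Maximal (· ∈ associatedPrimes Γ(X, W) Γ(X, W))
      (hW.primeIdealOf ⟨x, hx⟩).asIdeal}.Finite := by
    refine Set.Finite.of_injOn
      (f := fun η : X => if h : η ∈ W then (hW.primeIdealOf ⟨η, h⟩).asIdeal else ⊥) ?_ ?_ hfinAss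
    · rintro η ⟨hηW, hη⟩
      show (if h : η ∈ W then (hW.primeIdealOf ⟨η, h⟩).asIdeal else ⊥) ∈
        associatedPrimes Γ(X, W) Γ(X, W)
      rw [dif_pos hηW]
      exact hη.1
    · rintro η₁ ⟨h₁, -⟩ η₂ ⟨h₂, -⟩ heq
      have heq' : (if h : η₁ ∈ W then (hW.primeIdealOf ⟨η₁, h⟩).asIdeal else ⊥) =
          (if h : η₂ ∈ W then (hW.primeIdealOf ⟨η₂, h⟩).asIdeal else ⊥) := heq
      rw [dif_pos h₁, dif_pos h₂] at heq'
      exact primeIdealOf_injective hW h₁ h₂ (PrimeSpectrum.ext heq')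
  have hTmem : ∀ x, x ∈ hS₀fin.toFinset ↔ ∃ hx : x ∈ W,
      Maximal (· ∈ associatedPrimes Γ(X, W) Γ(X, W)) (hW.primeIdealOf ⟨x, hx⟩).asIdeal :=
    fun x => hS₀fin.mem_toFinset
  obtain ⟨h, e, hTh, hge⟩ := exists_basicOpen_isGen_of_finite hL hW hS₀fin.toFinset
    (fun x hx => ((hTmem x).mp hx).1) (by
      intro x hxT y hyT hyx
      obtain ⟨hxW, hxmax⟩ := (hTmem x).mp hxT
      obtain ⟨hyW, hymax⟩ := (hTmem y).mp hyT
      have hle : (hW.primeIdealOf ⟨y, hyW⟩).asIdeal ≤ (hW.primeIdealOf ⟨x, hxW⟩).asIdeal :=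
        (Groth.Agent.Lib.Helper3.primeIdealOf_le_iff_specializes hW y x hyW hxW).mpr hyx
      have hge := hymax.2 hxmax.1 hle
      exact primeIdealOf_injective hW hyW hxW (PrimeSpectrum.ext (le_antisymm hle hge)))
  refine hasRegularMero_of_dense_gen hL (X.basicOpen h) e hge (fun z hz => ?_)
  have hzW : z ∈ W := hass z hz
  have hPz : (hW.primeIdealOf ⟨z, hzW⟩).asIdeal ∈ associatedPrimes Γ(X, W) Γ(X, W) :=
    (Groth.Agent.Lib.Helper28.StalkAss.ass_stalk_iff hW z hzW).mp hz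
  obtain ⟨Q, hPQ, hQmax⟩ := hfinAss.exists_le_maximal hPz
  haveI hQprime : Q.IsPrime := (show IsAssociatedPrime Q Γ(X, W) from hQmax.1).isPrime
  obtain ⟨x, hxW, hxQ⟩ := Groth.Agent.Lib.Helper28.StalkAss.exists_point_of_prime hW Q
  have hxT : x ∈ hS₀fin.toFinset := (hTmem x).mpr ⟨hxW, by rw [hxQ]; exact hQmax⟩
  have hzx : z ⤳ x := Groth.Agent.Lib.Helper28.StalkAss.specializes_of_le hW z x hzW hxW
    (by rw [hxQ]; exact hPQ)
  exact hzx.mem_open (X.basicOpen h).2 (hTh x hxT)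

end H16Mero
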