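import Mathlib
import Groth.Agent.Lib.Helper16.Mero.GenPt

/-!
# Locally finite sets of irreducible components
-/

set_option autoImplicit false
universe u
open CategoryTheory AlgebraicGeometry TopologicalSpace Opposite

namespace H16Mero

variable {X : Scheme.{u}}

/-- If the set of irreducible components is locally finite, a quasi-compact open has finitely many maximal
points. -/
theorem finite_maxPoints_of_locallyFinite
    (hX : ∀ x : X, ∃ W : X.Opens, x ∈ W ∧
      {Z : Set X | Z ∈ irreducibleComponents X ∧ (Z ∩ (W : Set X)).Nonempty}.Finite)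
    (U : X.Opens) (hU : IsCompact (U : Set X)) : {η : X | η ∈ U ∧ IsMax η}.Finite := by
  choose W hxW hfin using hX
  obtain ⟨t, ht⟩ := hU.elim_finite_subcover (fun x : X => ((W x : X.Opens) : Set X))
    (fun x => (W x).isOpen) (fun x _ => Set.mem_iUnion.mpr ⟨x, hxW x⟩)
  have hfinW : ∀ x : X, {η : X | η ∈ W x ∧ IsMax η}.Finite := by
    intro x
    refine Set.Finite.of_injOn (f := fun ξ : X => closure ({ξ} : Set X)) ?_ ?_ (hfin x)
    · intro ξ hξ
      exact ⟨closure_singleton_mem_irreducibleComponents ξ hξ.2, ⟨ξ, subset_closure rfl, hξ.1⟩⟩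
    · intro ξ₁ _ ξ₂ h₂ heq
      have heq' : closure ({ξ₁} : Set X) = closure ({ξ₂} : Set X) := heq
      have h3 : ξ₂ ∈ closure ({ξ₁} : Set X) := by
        rw [heq']
        exact subset_closure rfl
      exact h₂.2 ξ₁ (specializes_iff_mem_closure.mpr h3)
  refine (Set.Finite.biUnion t.finite_toSet (fun x _ => hfinW x)).subset ?_
  rintro η ⟨hηU, hη⟩
  obtain ⟨x, hxt, hηx⟩ := Set.mem_iUnion₂.mp (ht hηU)
  exact Set.mem_biUnion hxt ⟨hηx, hη⟩

/-- If the set of irreducible components is locally finite, a quasi-compact open has finitely many irreducible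
components. -/
theorem finite_irreducibleComponents_of_locallyFinite
    (hX : ∀ x : X, ∃ W : X.Opens, x ∈ W ∧
      {Z : Set X | Z ∈ irreducibleComponents X ∧ (Z ∩ (W : Set X)).Nonempty}.Finite)
    (U : X.Opens) (hU : IsCompact (U : Set X)) :
    (irreducibleComponents ↥(U : Scheme.{u})).Finite := by
  have hS := finite_maxPoints_of_locallyFinite hX U hU
  refine (hS.image (fun η : X =>
    ((U.ι : ↥(U : Scheme.{u}) → X) ⁻¹' closure ({η} : Set X) : Set ↥(U : Scheme.{u})))).subset ?_
  intro Z hZ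
  have hZirr : IsIrreducible Z := hZ.1
  have hZcl : IsClosed Z := isClosed_of_mem_irreducibleComponents Z hZ
  obtain ⟨ξ, hξ⟩ := QuasiSober.sober hZirr hZcl
  have hξdef : closure ({ξ} : Set ↥(U : Scheme.{u})) = Z := hξ
  have hind : Topology.IsInducing (U.ι : ↥(U : Scheme.{u}) → X) :=
    U.ι.isOpenEmbedding.isInducing
  refine ⟨U.ι ξ, ⟨ξ.2, ?_⟩, ?_⟩
  · intro z hz
    have hzU : z ∈ U := hz.mem_open U.2 ξ.2
    have hz' : (⟨z, hzU⟩ : ↥(U : Scheme.{u})) ⤳ ξ := hind.specializes_iff.mp hz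
    have h1 : Z ⊆ closure ({⟨z, hzU⟩} : Set ↥(U : Scheme.{u})) := by
      rw [← hξdef]
      exact specializes_iff_closure_subset.mp hz'
    have h2 : closure ({⟨z, hzU⟩} : Set ↥(U : Scheme.{u})) ⊆ Z :=
      hZ.2 isIrreducible_singleton.closure h1
    have h3 : ξ ⤳ (⟨z, hzU⟩ : ↥(U : Scheme.{u})) := by
      rw [specializes_iff_mem_closure, hξdef]
      exact h2 (subset_closure rfl)
    have h4 : (⟨z, hzU⟩ : ↥(U : Scheme.{u})) = ξ := (hz'.antisymm h3).eq
    exact congrArg (fun p : ↥(U : Scheme.{u}) => (U.ι p : X)) h4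
  · show (U.ι : ↥(U : Scheme.{u}) → X) ⁻¹' closure ({(U.ι ξ : X)} : Set X) = Z
    rw [← hξdef, hind.closure_eq_preimage_closure_image, Set.image_singleton]

end H16Mero
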