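import Mathlib
import Groth.Agent.Lib.Helper16.Mero.GenPt
import Groth.Agent.Lib.Helper16.Mero.LocFin
import Groth.Agent.S8869

/-!
# `K_X(U)` is the product of the `K_{X,η}` over the maximal points of `U` (reduced, finitely many components)
-/

set_option autoImplicit false
universe u
open CategoryTheory AlgebraicGeometry TopologicalSpace Opposite

namespace H16Mero

open Mero

variable {X : Scheme.{u}}

theorem isMax_of_closure_mem {η : X} (h : closure ({η} : Set X) ∈ irreducibleComponents X) :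
    IsMax η := by
  intro z hz
  have h1 : closure ({η} : Set X) ⊆ closure ({z} : Set X) := specializes_iff_closure_subset.mp hz
  have h2 : closure ({z} : Set X) ⊆ closure ({η} : Set X) :=
    h.2 isIrreducible_singleton.closure h1
  have h3 : η ⤳ z := by
    rw [specializes_iff_mem_closure]
    exact h2 (subset_closure rfl)
  exact (hz.antisymm h3).eq

theorem isNilpotent_of_mem_maximalIdeal {η : X} (hη : IsMax η) (a : X.presheaf.stalk η)
    (ha : a ∈ IsLocalRing.maximalIdeal (X.presheaf.stalk η)) : IsNilpotent a := by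
  have hmin := Groth.Agent.Lib.Helper28.MaxPoint.maximalIdeal_mem_minimalPrimes_stalk η hη
  rw [← mem_nilradical, nilradical_eq_sInf, Ideal.mem_sInf]
  intro J hJ
  have hJp : J.IsPrime := hJ
  exact hmin.2 ⟨hJp, bot_le⟩ (IsLocalRing.le_maximalIdeal hJp.ne_top) ha

/-- On a reduced scheme with finitely many irreducible components, `K_X(U)` is the product of the `K_{X,η}` over
the generic points `η ∈ U`; the local rings at these points are fields mapping isomorphically to `K_{X,η}`. -/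
theorem kmod_prod_bijective (X : Scheme.{u}) [IsReduced X]
    (hfin : (irreducibleComponents (X : Type u)).Finite) (U : X.Opens) :
    Function.Bijective (fun s : Γ(kmod X, U) =>
      fun x : {x : U // closure ({x.1} : Set X) ∈ irreducibleComponents (X : Type u)} =>
        evalK X U x.1 s) ∧
    (∀ x : X, closure ({x} : Set X) ∈ irreducibleComponents (X : Type u) →
      IsField (X.presheaf.stalk x) ∧
        Function.Bijective (algebraMap (X.presheaf.stalk x) (KStalk X x))) := by
  classical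
  have ha : ∀ x : X, Curv2.IsWeakAssPoint (Coh.structureModule X) x → ∀ y : X, y ⤳ x → y = x :=
    fun x hx => (Groth.Agent.S8869.result X x).mp hx
  have hb : ∀ V : X.Opens, IsCompact (V : Set X) →
      (irreducibleComponents ↥(V : Scheme.{u})).Finite :=
    finite_irreducibleComponents_of_locallyFinite (fun x => ⟨⊤, trivial,
      hfin.subset (fun Z hZ => hZ.1)⟩)
  have haff : ∀ x : U, ∃ W : X.Opens, IsAffineOpen W ∧ x.1 ∈ W ∧ W ≤ U := by
    intro x
    obtain ⟨W, hW, hxW, hWU⟩ := Opens.isBasis_iff_nbhd.mp X.isBasis_affineOpens x.2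
    exact ⟨W, hW, hxW, hWU⟩
  -- agreement at maximal points gives pointwise agreement
  have hagree : ∀ {W₁ W₂ : X.Opens} (s₁ : Γ(kmod X, W₁)) (s₂ : Γ(kmod X, W₂)),
      (∀ (η : X) (h₁ : η ∈ W₁) (h₂ : η ∈ W₂), IsMax η → s₁.1 ⟨η, h₁⟩ = s₂.1 ⟨η, h₂⟩) →
      ∀ (z : X) (h₁ : z ∈ W₁) (h₂ : z ∈ W₂), s₁.1 ⟨z, h₁⟩ = s₂.1 ⟨z, h₂⟩ := by
    intro W₁ W₂ s₁ s₂ hs z h₁ h₂
    obtain ⟨W, hW, hzW, hWle⟩ := Opens.isBasis_iff_nbhd.mp X.isBasis_affineOpens
      (show z ∈ W₁ ⊓ W₂ from Opens.mem_inf.mpr ⟨h₁, h₂⟩)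
    have hW' : IsAffineOpen W := hW
    have hW₁ : W ≤ W₁ := hWle.trans inf_le_left
    have hW₂ : W ≤ W₂ := hWle.trans inf_le_right
    have heq : (kmod X).presheaf.map (homOfLE hW₁).op s₁ =
        (kmod X).presheaf.map (homOfLE hW₂).op s₂ :=
      kmod_eq_of_maxPoints ha hb hW' _ _ (fun η hη hmax => hs η (hW₁ hη) (hW₂ hη) hmax)
    exact congrArg (fun F : Γ(kmod X, W) => F.1 ⟨z, hzW⟩) heq
  refine ⟨⟨?_, ?_⟩, ?_⟩
  · intro s s' hss
    refine Groth.Agent.Lib.Helper28.MeroBasic.kmod_ext fun x => ?_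
    refine hagree s s' (fun η h₁ h₂ hmax => ?_) x.1 x.2 x.2
    exact congrFun hss ⟨⟨η, h₁⟩, closure_singleton_mem_irreducibleComponents η hmax⟩
  · intro v
    let v' : ∀ η : X, KStalk X η := fun η =>
      if h : η ∈ U ∧ closure ({η} : Set X) ∈ irreducibleComponents (X : Type u) then
        v ⟨⟨η, h.1⟩, h.2⟩ else 0
    choose W hWaff hxW hWU using haff
    have hf : ∀ x : U, ∃ f : Γ(kmod X, W x),
        ∀ (η : X) (hη : η ∈ W x), IsMax η → f.1 ⟨η, hη⟩ = v' η :=
      fun x => exists_kmod_of_values ha hb (hWaff x) v'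
    choose f hf using hf
    obtain ⟨S, hS⟩ := glue W hxW hWU f (fun x y z hzx hzy =>
      hagree (f x) (f y) (fun η h₁ h₂ hmax => (hf x η h₁ hmax).trans (hf y η h₂ hmax).symm)
        z hzx hzy)
    refine ⟨S, funext fun x => ?_⟩
    show S.1 x.1 = v x
    have hmax : IsMax x.1.1 := isMax_of_closure_mem x.2
    have h1 := hS x.1 x.1.1 (hxW x.1)
    have h2 : v' x.1.1 = v x := by
      show (if h : x.1.1 ∈ U ∧ closure ({x.1.1} : Set X) ∈ irreducibleComponents (X : Type u) then
        v ⟨⟨x.1.1, h.1⟩, h.2⟩ else 0) = v x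
      rw [dif_pos ⟨x.1.2, x.2⟩]
    exact h1.trans ((hf x.1 x.1.1 (hxW x.1) hmax).trans h2)
  · intro x hx
    have hmax : IsMax x := isMax_of_closure_mem hx
    constructor
    · rw [IsLocalRing.isField_iff_maximalIdeal_eq, eq_bot_iff]
      intro a ha'
      exact (Submodule.mem_bot _).mpr (isNilpotent_of_mem_maximalIdeal hmax a ha').eq_zero
    · refine ⟨algebraMap_KStalk_injective x, fun v => ?_⟩
      obtain ⟨β, hβ⟩ := exists_mk_one_eq_of_isMax hmax v
      exact ⟨β, hβ.symm⟩

end H16Mero
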