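import Mathlib
import Groth.Agent.Lib.Helper16.Mero.DivTensor
import Groth.Agent.Lib.Helper16.Mero.DivIso3
import Groth.Agent.Lib.Helper16.Mero.GenProd
import Groth.Agent.Lib.Helper28.MeroDivLocal
import Groth.Agent.Lib.Helper3.AffinePoints

/-!
# Cartier divisors on absolute curves: families of germs with finite support
-/

set_option autoImplicit false
universe u
open CategoryTheory AlgebraicGeometry TopologicalSpace Opposite

namespace H16Mero

open Mero
open Groth.Agent.Lib.Helper3.InvGen Groth.Agent.Lib.Helper3.QCSec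
open Groth.Agent.Lib.Helper28.MeroDivLocal

/-! ### Topology -/

theorem finite_of_noetherianSpace_quasiSober_t1 (α : Type*) [TopologicalSpace α] [NoetherianSpace α]
    [QuasiSober α] [T1Space α] : Finite α := by
  have hfin := NoetherianSpace.finite_irreducibleComponents (α := α)
  have hsub : ∀ Z ∈ irreducibleComponents α, Z.Finite := by
    intro Z hZ
    have hirr : IsIrreducible Z := hZ.1
    have hcl : IsClosed Z := isClosed_of_mem_irreducibleComponents Z hZ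
    obtain ⟨x, hx⟩ := QuasiSober.sober hirr hcl
    have hZx : Z = {x} := by rw [← hx.def, closure_singleton]
    rw [hZx]
    exact Set.finite_singleton x
  have h1 : (Set.univ : Set α).Finite := by
    rw [← sUnion_irreducibleComponents]
    exact Set.Finite.sUnion hfin hsub
  exact Set.finite_univ_iff.mp h1

variable {X : Scheme.{u}}

/-! ### Germs at maximal points are trivial -/

theorem germ_eq_one_of_isMax {η : X} (hη : IsMax η) (γ : Germ X η) : γ = 1 := by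
  obtain ⟨φ, rfl⟩ := QuotientGroup.mk_surjective γ
  rw [QuotientGroup.eq_one_iff]
  obtain ⟨β, hβ⟩ := exists_mk_one_eq_of_isMax hη (φ : KStalk X η)
  obtain ⟨β', hβ'⟩ := exists_mk_one_eq_of_isMax hη ((φ⁻¹ : (KStalk X η)ˣ) : KStalk X η)
  have h1 : algebraMap (X.presheaf.stalk η) (KStalk X η) (β * β') =
      algebraMap (X.presheaf.stalk η) (KStalk X η) 1 := by
    rw [map_mul, map_one, algebraMap_eq_mk, algebraMap_eq_mk, ← hβ, ← hβ', Units.mul_inv]
  have h2 : β * β' = 1 := algebraMap_KStalk_injective η h1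
  have h2' : β' * β = 1 := by rw [mul_comm]; exact h2
  refine MonoidHom.mem_range.mpr ⟨⟨β, β', h2, h2'⟩, Units.ext ?_⟩
  show algebraMap (X.presheaf.stalk η) (KStalk X η) β = φ
  rw [algebraMap_eq_mk, ← hβ]

/-! ### Non-closed points of an absolute curve are maximal -/

theorem isMax_of_not_isClosed [IsNoetherian X]
    (hC : ∀ x : X, IsClosed ({x} : Set X) → ringKrullDim (X.presheaf.stalk x) = 1)
    {x : X} (hx : ¬ IsClosed ({x} : Set X)) : IsMax x := by
  intro w hw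
  by_contra hne
  obtain ⟨z, hzx, hzcl⟩ := IsClosed.exists_closed_singleton
    (isClosed_closure (s := ({x} : Set X))) ⟨x, subset_closure rfl⟩
  have hxz : x ⤳ z := specializes_iff_mem_closure.mpr hzx
  have hxnez : x ≠ z := fun h => hx (h ▸ hzcl)
  obtain ⟨U, hU, hzU, -⟩ := Opens.isBasis_iff_nbhd.mp X.isBasis_affineOpens
    (show z ∈ (⊤ : X.Opens) from trivial)
  have hxU : x ∈ U := hxz.mem_open U.isOpen hzU
  have hwU : w ∈ U := hw.mem_open U.isOpen hxU
  have h1 : (hU.primeIdealOf ⟨w, hwU⟩).asIdeal < (hU.primeIdealOf ⟨x, hxU⟩).asIdeal := by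
    refine lt_of_le_of_ne
      ((Groth.Agent.Lib.Helper3.primeIdealOf_le_iff_specializes hU w x hwU hxU).mpr hw) ?_
    intro h
    exact hne (primeIdealOf_injective hU hwU hxU (PrimeSpectrum.ext h))
  have h2 : (hU.primeIdealOf ⟨x, hxU⟩).asIdeal < (hU.primeIdealOf ⟨z, hzU⟩).asIdeal := by
    refine lt_of_le_of_ne
      ((Groth.Agent.Lib.Helper3.primeIdealOf_le_iff_specializes hU x z hxU hzU).mpr hxz) ?_
    intro h
    exact hxnez (primeIdealOf_injective hU hxU hzU (PrimeSpectrum.ext h))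
  haveI : IsNoetherianRing Γ(X, U) := IsLocallyNoetherian.component_noetherian ⟨U, hU⟩
  have h3 := Ideal.height_strict_mono_of_isPrime h1
  have h4 := Ideal.height_strict_mono_of_isPrime h2
  letI := X.presheaf.algebra_section_stalk ⟨z, hzU⟩
  haveI := hU.isLocalization_stalk ⟨z, hzU⟩
  have h5 := IsLocalization.AtPrime.ringKrullDim_eq_height (hU.primeIdealOf ⟨z, hzU⟩).asIdeal
    (X.presheaf.stalk z)
  rw [hC z hzcl] at h5
  have h6 : (hU.primeIdealOf ⟨z, hzU⟩).asIdeal.height = 1 := by exact_mod_cast h5.symm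
  rw [h6] at h4
  have h7 : (hU.primeIdealOf ⟨x, hxU⟩).asIdeal.height = 0 := Order.lt_one_iff.mp h4
  rw [h7] at h3
  exact not_lt_bot h3

/-! ### Units of `K_{X,x}` -/

theorem mem_regStalk_of_mul_mem {x : X} (α β : X.presheaf.stalk x)
    (h : α * β ∈ regStalk X x) : α ∈ regStalk X x := by
  obtain ⟨V₁, hx₁, ρ, hρ, hρe⟩ := h
  obtain ⟨V₂, hx₂, a, rfl⟩ := TopCat.Presheaf.exists_germ_eq X.presheaf α
  obtain ⟨V₃, hx₃, b, rfl⟩ := TopCat.Presheaf.exists_germ_eq X.presheaf β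
  have hx₀ : x ∈ V₁ ⊓ (V₂ ⊓ V₃) := Opens.mem_inf.mpr ⟨hx₁, Opens.mem_inf.mpr ⟨hx₂, hx₃⟩⟩
  have l₁ : V₁ ⊓ (V₂ ⊓ V₃) ≤ V₁ := inf_le_left
  have l₂ : V₁ ⊓ (V₂ ⊓ V₃) ≤ V₂ := inf_le_right.trans inf_le_left
  have l₃ : V₁ ⊓ (V₂ ⊓ V₃) ≤ V₃ := inf_le_right.trans inf_le_right
  have hgerm : X.presheaf.germ (V₁ ⊓ (V₂ ⊓ V₃)) x hx₀ (rres X l₂ a * rres X l₃ b) =
      X.presheaf.germ (V₁ ⊓ (V₂ ⊓ V₃)) x hx₀ (rres X l₁ ρ) := by
    rw [map_mul, TopCat.Presheaf.germ_res_apply, TopCat.Presheaf.germ_res_apply,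
      TopCat.Presheaf.germ_res_apply, hρe]
  obtain ⟨V, hxV, i, i', hres⟩ := TopCat.Presheaf.germ_eq X.presheaf x hx₀ hx₀ _ _ hgerm
  have hle : V ≤ V₁ ⊓ (V₂ ⊓ V₃) := i.le
  have hres' : rres X hle (rres X l₂ a * rres X l₃ b) = rres X hle (rres X l₁ ρ) := hres
  rw [rres_mul, rres_rres, rres_rres, rres_rres] at hres'
  refine ⟨V, hxV, rres X (hle.trans l₂) a, ?_,
    TopCat.Presheaf.germ_res_apply X.presheaf (homOfLE (hle.trans l₂)) x hxV a⟩
  intro z
  have hz : X.presheaf.germ V z.1 z.2 (rres X (hle.trans l₂) a) *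
      X.presheaf.germ V z.1 z.2 (rres X (hle.trans l₃) b) ∈
      nonZeroDivisors (X.presheaf.stalk z.1) := by
    rw [← map_mul, hres']
    exact regSub_res (homOfLE (hle.trans l₁)) hρ z
  exact (mul_mem_nonZeroDivisors.mp hz).1

theorem exists_fracUnit_eq {x : X} (φ : (KStalk X x)ˣ) :
    ∃ α σ : regStalk X x, φ = fracUnit α σ := by
  obtain ⟨α, σ, hα⟩ := kstalk_exists_mk (φ : KStalk X x)
  obtain ⟨α', σ', hα'⟩ := kstalk_exists_mk ((φ⁻¹ : (KStalk X x)ˣ) : KStalk X x)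
  have h1 : (LocalizedModule.mk (α * α') (σ * σ') : KStalk X x) =
      LocalizedModule.mk ((1 : regStalk X x) : X.presheaf.stalk x) 1 := by
    rw [mk_self_eq_one]
    refine (LocalizedModule.mk_mul_mk (s₁ := σ) (s₂ := σ')).symm.trans ?_
    rw [← hα, ← hα']
    exact φ.mul_inv
  obtain ⟨t, ht⟩ := LocalizedModule.mk_eq.mp h1
  simp only [one_smul, Submonoid.smul_def, smul_eq_mul, mul_one, Submonoid.coe_mul,
    Submonoid.coe_one] at ht
  have h2 : α * ((t : X.presheaf.stalk x) * α') = ((t * σ * σ' : regStalk X x) :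
      X.presheaf.stalk x) := by
    rw [Submonoid.coe_mul, Submonoid.coe_mul]
    linear_combination ht
  have hαreg : α ∈ regStalk X x :=
    mem_regStalk_of_mul_mem α ((t : X.presheaf.stalk x) * α') (by rw [h2]; exact (t * σ * σ').2)
  exact ⟨⟨α, hαreg⟩, σ, Units.ext hα⟩

theorem exists_unit_section_of_regStalk {x : X} (α σ : regStalk X x) :
    ∃ (W : X.Opens) (hx : x ∈ W) (f : (Γ(kmod X, W))ˣ), uval f ⟨x, hx⟩ = fracUnit α σ := by
  obtain ⟨V₁, hx₁, a, ha, hae⟩ := α.2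
  obtain ⟨V₂, hx₂, b, hb, hbe⟩ := σ.2
  have hl : V₁ ⊓ V₂ ≤ V₁ := inf_le_left
  have hr : V₁ ⊓ V₂ ≤ V₂ := inf_le_right
  refine ⟨V₁ ⊓ V₂, Opens.mem_inf.mpr ⟨hx₁, hx₂⟩,
    fracSec ⟨rres X hl a, regSub_res (homOfLE hl) ha⟩ ⟨rres X hr b, regSub_res (homOfLE hr) hb⟩,
    Units.ext ?_⟩
  show (LocalizedModule.mk (X.presheaf.germ (V₁ ⊓ V₂) x _ (rres X hl a))
    (regGerm ⟨x, _⟩ ⟨rres X hr b, _⟩) : KStalk X x) = LocalizedModule.mk α.1 σ
  exact mk_congr ((TopCat.Presheaf.germ_res_apply X.presheaf (homOfLE hl) x _ a).trans hae)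
    ((TopCat.Presheaf.germ_res_apply X.presheaf (homOfLE hr) x _ b).trans hbe)

/-! ### The locus where a local equation is trivial is open -/

theorem exists_nhds_germOf_eq_one {W : X.Opens} (f : (Γ(kmod X, W))ˣ) (y : W)
    (hy : germOf f y = 1) :
    ∃ V : X.Opens, y.1 ∈ V ∧ ∀ z : W, z.1 ∈ V → germOf f z = 1 := by
  rw [QuotientGroup.eq_one_iff] at hy
  obtain ⟨υ, hυ⟩ := MonoidHom.mem_range.mp hy
  have hval : (f : Γ(kmod X, W)).1 y = LocalizedModule.mk (υ : X.presheaf.stalk y.1) 1 :=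
    (congrArg Units.val hυ).symm
  obtain ⟨W₁, hyW₁, hW₁W, a, b, hab⟩ :=
    Groth.Agent.Lib.Helper28.MeroBasic.kmod_local (f : Γ(kmod X, W)) y
  have h1 := (hab ⟨y.1, hyW₁⟩).symm.trans hval
  obtain ⟨t, ht⟩ := LocalizedModule.mk_eq.mp h1
  simp only [one_smul, Submonoid.smul_def, smul_eq_mul] at ht
  have h2 : X.presheaf.germ W₁ y.1 hyW₁ a =
      X.presheaf.germ W₁ y.1 hyW₁ b.1 * (υ : X.presheaf.stalk y.1) :=
    (mul_cancel_left_mem_nonZeroDivisors (regStalk_le_nonZeroDivisors y.1 t.2)).mp ht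
  obtain ⟨V₂, hyV₂, u, hu⟩ := TopCat.Presheaf.exists_germ_eq X.presheaf (υ : X.presheaf.stalk y.1)
  have hug : IsUnit (X.presheaf.germ V₂ y.1 hyV₂ u) := hu ▸ υ.isUnit
  obtain ⟨V₃, i₃, hyV₃, hu₃⟩ := X.toRingedSpace.isUnit_res_of_isUnit_germ V₂ u y.1 hyV₂ hug
  have hV₃₂ : V₃ ≤ V₂ := i₃.le
  have hy₀ : y.1 ∈ W₁ ⊓ V₃ := Opens.mem_inf.mpr ⟨hyW₁, hyV₃⟩
  have l₁ : W₁ ⊓ V₃ ≤ W₁ := inf_le_left
  have l₃ : W₁ ⊓ V₃ ≤ V₃ := inf_le_right
  have hgerm : X.presheaf.germ (W₁ ⊓ V₃) y.1 hy₀ (rres X l₁ a) =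
      X.presheaf.germ (W₁ ⊓ V₃) y.1 hy₀ (rres X l₁ b.1 * rres X (l₃.trans hV₃₂) u) := by
    rw [map_mul, TopCat.Presheaf.germ_res_apply, TopCat.Presheaf.germ_res_apply,
      TopCat.Presheaf.germ_res_apply, hu]
    exact h2
  obtain ⟨V, hyV, i, i', hres⟩ := TopCat.Presheaf.germ_eq X.presheaf y.1 hy₀ hy₀ _ _ hgerm
  have hle : V ≤ W₁ ⊓ V₃ := i.le
  have hres' : rres X hle (rres X l₁ a) =
      rres X hle (rres X l₁ b.1 * rres X (l₃.trans hV₃₂) u) := hres
  rw [rres_mul, rres_rres, rres_rres, rres_rres] at hres'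
  refine ⟨V, hyV, fun z hz => ?_⟩
  rw [QuotientGroup.eq_one_iff]
  have hunit : IsUnit (X.presheaf.germ V z.1 hz (rres X (hle.trans (l₃.trans hV₃₂)) u)) := by
    have h3 : IsUnit (rres X (hle.trans l₃) (rres X hV₃₂ u)) := rres_isUnit _ hu₃
    rw [rres_rres] at h3
    exact h3.map _
  refine MonoidHom.mem_range.mpr ⟨hunit.unit, Units.ext ?_⟩
  show algebraMap (X.presheaf.stalk z.1) (KStalk X z.1)
    (X.presheaf.germ V z.1 hz (rres X (hle.trans (l₃.trans hV₃₂)) u)) = (f : Γ(kmod X, W)).1 z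
  have h4 := hab ⟨z.1, l₁ (hle hz)⟩
  refine Eq.trans ?_ h4.symm
  rw [algebraMap_eq_mk, LocalizedModule.mk_eq]
  refine ⟨1, ?_⟩
  simp only [one_smul, Submonoid.smul_def, smul_eq_mul]
  have h5 := congrArg (X.presheaf.germ V z.1 hz) hres'
  rw [map_mul, TopCat.Presheaf.germ_res_apply, TopCat.Presheaf.germ_res_apply] at h5
  rw [h5, TopCat.Presheaf.germ_res_apply]

/-! ### Finiteness of the support of a local equation -/

theorem finite_support_unit [IsNoetherian X]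
    (hmax : ∀ x : X, ¬ IsClosed ({x} : Set X) → IsMax x)
    {W : X.Opens} (f : (Γ(kmod X, W))ˣ) : {y : W | germOf f y ≠ 1}.Finite := by
  have hScl : IsClosed {y : W | germOf f y ≠ 1} := by
    rw [← isOpen_compl_iff, isOpen_iff_forall_mem_open]
    intro y hy
    have hy1 : germOf f y = 1 := by
      by_contra h
      exact hy h
    obtain ⟨V, hyV, hV⟩ := exists_nhds_germOf_eq_one f y hy1
    refine ⟨Subtype.val ⁻¹' (V : Set X), fun z hz => ?_,
      V.isOpen.preimage continuous_subtype_val, hyV⟩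
    intro hz'
    exact hz' (hV z hz)
  have hpt : ∀ y ∈ {y : W | germOf f y ≠ 1}, IsClosed ({(y : X)} : Set X) := by
    intro y hy
    by_contra hcl
    exact hy (germ_eq_one_of_isMax (hmax y.1 hcl) _)
  have n0 : NoetherianSpace X := inferInstance
  have n1 : NoetherianSpace W := NoetherianSpace.set _
  have n2 : NoetherianSpace {y : W | germOf f y ≠ 1} := @NoetherianSpace.set W _ n1 _
  have q1 : QuasiSober W := W.isOpenEmbedding'.quasiSober
  have q2 : QuasiSober {y : W | germOf f y ≠ 1} :=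
    @Topology.IsClosedEmbedding.quasiSober _ _ _ _ _ hScl.isClosedEmbedding_subtypeVal q1
  have t2 : T1Space {y : W | germOf f y ≠ 1} := ⟨fun p => by
    have h1 : ({p} : Set {y : W | germOf f y ≠ 1}) =
        (fun q : {y : W | germOf f y ≠ 1} => ((q : W) : X)) ⁻¹' {((p : W) : X)} := by
      ext q
      simp only [Set.mem_singleton_iff, Set.mem_preimage]
      constructor
      · intro h
        rw [h]
      · intro h
        exact Subtype.ext (Subtype.ext h)
    rw [h1]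
    exact (hpt p.1 p.2).preimage (continuous_subtype_val.comp continuous_subtype_val)⟩
  have hfin := @finite_of_noetherianSpace_quasiSober_t1 {y : W | germOf f y ≠ 1} _ n2 q2 t2
  exact Set.toFinite _

/-! ### Divisors on an absolute curve -/

theorem mem_divisorGroup_iff [IsNoetherian X]
    (hC : ∀ x : X, IsClosed ({x} : Set X) → ringKrullDim (X.presheaf.stalk x) = 1)
    (g : ∀ x : X, Germ X x) :
    g ∈ divisorGroup X ↔
      ({x : X | g x ≠ 1}.Finite ∧ ∀ x : X, ¬ IsClosed ({x} : Set X) → g x = 1) := by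
  have hmax : ∀ x : X, ¬ IsClosed ({x} : Set X) → IsMax x := fun x hx => isMax_of_not_isClosed hC hx
  constructor
  · intro hg
    refine ⟨?_, fun x hx => germ_eq_one_of_isMax (hmax x hx) _⟩
    choose U hxU f hf using hg
    obtain ⟨t, ht⟩ := isCompact_univ.elim_finite_subcover (fun x : X => (U x : Set X))
      (fun x => (U x).isOpen) (fun x _ => Set.mem_iUnion.mpr ⟨x, hxU x⟩)
    refine Set.Finite.subset (t.finite_toSet.biUnion
      (fun i _ => (finite_support_unit hmax (f i)).image Subtype.val)) ?_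
    intro x hx
    have hx' := ht (Set.mem_univ x)
    simp only [Set.mem_iUnion] at hx'
    obtain ⟨i, hit, hxi⟩ := hx'
    refine Set.mem_biUnion (Finset.mem_coe.mpr hit) ⟨⟨x, hxi⟩, ?_, rfl⟩
    show germOf (f i) ⟨x, hxi⟩ ≠ 1
    rw [← hf i ⟨x, hxi⟩]
    exact hx
  · rintro ⟨hfin, hncl⟩ x
    obtain ⟨φ, hφ⟩ := QuotientGroup.mk_surjective (g x)
    obtain ⟨α, σ, rfl⟩ := exists_fracUnit_eq φ
    obtain ⟨W, hxW, f, hf⟩ := exists_unit_section_of_regStalk α σ
    have hT := finite_support_unit hmax f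
    have hBadfin : ((Subtype.val '' {y : W | germOf f y ≠ 1} ∪ {y | g y ≠ 1}) \ {x}).Finite :=
      ((hT.image _).union hfin).subset Set.diff_subset
    have hBadpt : ∀ y ∈ (Subtype.val '' {y : W | germOf f y ≠ 1} ∪ {y | g y ≠ 1}) \ {x},
        IsClosed ({y} : Set X) := by
      rintro y ⟨hy | hy, -⟩
      · obtain ⟨y', hy', rfl⟩ := hy
        by_contra hcl
        exact hy' (germ_eq_one_of_isMax (hmax y'.1 hcl) _)
      · by_contra hcl
        exact hy (hncl y hcl)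
    have hBadcl : IsClosed ((Subtype.val '' {y : W | germOf f y ≠ 1} ∪ {y | g y ≠ 1}) \ {x}) := by
      rw [← Set.biUnion_of_singleton
        ((Subtype.val '' {y : W | germOf f y ≠ 1} ∪ {y | g y ≠ 1}) \ {x})]
      exact hBadfin.isClosed_biUnion hBadpt
    have hl : W ⊓ ⟨_, hBadcl.isOpen_compl⟩ ≤ W := inf_le_left
    refine ⟨W ⊓ ⟨_, hBadcl.isOpen_compl⟩, Opens.mem_inf.mpr ⟨hxW, fun h => h.2 rfl⟩,
      resU hl f, fun y => ?_⟩
    rw [germOf_resU]
    by_cases hyx : y.1 = x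
    · have hy' : y = ⟨x, Opens.mem_inf.mpr ⟨hxW, fun h => h.2 rfl⟩⟩ := Subtype.ext hyx
      subst hy'
      exact hφ.symm.trans (congrArg _ hf.symm)
    · have hyBad : y.1 ∉ (Subtype.val '' {y : W | germOf f y ≠ 1} ∪ {y | g y ≠ 1}) \ {x} :=
        (Opens.mem_inf.mp y.2).2
      have h1 : g y.1 = 1 := by
        by_contra h
        exact hyBad ⟨Or.inr h, hyx⟩
      have h2 : germOf f ⟨y.1, hl y.2⟩ = 1 := by
        by_contra h
        exact hyBad ⟨Or.inl ⟨⟨y.1, hl y.2⟩, h, rfl⟩, hyx⟩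
      rw [h1, h2]

theorem divisor_eq_effective_div_effective [IsNoetherian X]
    (hC : ∀ x : X, IsClosed ({x} : Set X) → ringKrullDim (X.presheaf.stalk x) = 1)
    (D : Divisor X) :
    ∃ D₁ D₂ : Divisor X, IsEffective D₁ ∧ IsEffective D₂ ∧ D = D₁ * D₂⁻¹ ∧
      supp D₁ ⊆ supp D ∧ supp D₂ ⊆ supp D := by
  classical
  have hD := (mem_divisorGroup_iff hC D.1).mp D.2
  have hch : ∀ x : X, ∃ α σ : regStalk X x, D.1 x = QuotientGroup.mk (fracUnit α σ) := fun x => by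
    obtain ⟨φ, hφ⟩ := QuotientGroup.mk_surjective (D.1 x)
    obtain ⟨α, σ, rfl⟩ := exists_fracUnit_eq φ
    exact ⟨α, σ, hφ.symm⟩
  choose α σ hασ using hch
  let g₁ : ∀ x : X, Germ X x := fun x =>
    if D.1 x = 1 then 1 else QuotientGroup.mk (IsLocalization.map_units (KStalk X x) (α x)).unit
  let g₂ : ∀ x : X, Germ X x := fun x =>
    if D.1 x = 1 then 1 else QuotientGroup.mk (IsLocalization.map_units (KStalk X x) (σ x)).unit
  have hsupp₁ : ∀ x, g₁ x ≠ 1 → D.1 x ≠ 1 := fun x h h1 => h (if_pos h1)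
  have hsupp₂ : ∀ x, g₂ x ≠ 1 → D.1 x ≠ 1 := fun x h h1 => h (if_pos h1)
  have hg₁ : g₁ ∈ divisorGroup X := (mem_divisorGroup_iff hC g₁).mpr
    ⟨hD.1.subset (fun x hx => hsupp₁ x hx), fun x hx => if_pos (hD.2 x hx)⟩
  have hg₂ : g₂ ∈ divisorGroup X := (mem_divisorGroup_iff hC g₂).mpr
    ⟨hD.1.subset (fun x hx => hsupp₂ x hx), fun x hx => if_pos (hD.2 x hx)⟩
  refine ⟨⟨g₁, hg₁⟩, ⟨g₂, hg₂⟩, ?_, ?_, ?_, fun x hx => hsupp₁ x hx, fun x hx => hsupp₂ x hx⟩
  · intro x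
    by_cases h : D.1 x = 1
    · exact isEffectiveAt_of_germ_eq_one (D := ⟨g₁, hg₁⟩) (if_pos h)
    · exact ⟨α x, if_neg h⟩
  · intro x
    by_cases h : D.1 x = 1
    · exact isEffectiveAt_of_germ_eq_one (D := ⟨g₂, hg₂⟩) (if_pos h)
    · exact ⟨σ x, if_neg h⟩
  · apply Subtype.ext
    funext x
    show D.1 x = g₁ x * (g₂ x)⁻¹
    by_cases h : D.1 x = 1
    · have e1 : g₁ x = 1 := if_pos h
      have e2 : g₂ x = 1 := if_pos h
      rw [e1, e2, h]
      exact (mul_inv_cancel (1 : Germ X x)).symm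
    · have e1 : g₁ x = QuotientGroup.mk (IsLocalization.map_units (KStalk X x) (α x)).unit :=
        if_neg h
      have e2 : g₂ x = QuotientGroup.mk (IsLocalization.map_units (KStalk X x) (σ x)).unit :=
        if_neg h
      rw [e1, e2, hασ x, ← QuotientGroup.mk_inv, ← QuotientGroup.mk_mul]
      refine congrArg _ ?_
      rw [eq_mul_inv_iff_mul_eq]
      refine Units.ext ?_
      show (LocalizedModule.mk (α x).1 (σ x) : KStalk X x) *
        algebraMap (X.presheaf.stalk x) (KStalk X x) (σ x).1 =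
        algebraMap (X.presheaf.stalk x) (KStalk X x) (α x).1
      rw [algebraMap_eq_mk, algebraMap_eq_mk]
      refine LocalizedModule.mk_mul_mk.trans ?_
      rw [LocalizedModule.mk_eq]
      refine ⟨1, ?_⟩
      simp only [one_smul, Submonoid.smul_def, smul_eq_mul, mul_one, Submonoid.coe_mul,
        Submonoid.coe_one]
      ring

end H16Mero
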