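import Mathlib
import Groth.Agent.Lib.Helper16.Mero.ZeroScheme
import Groth.Agent.Lib.Helper16.Mero.DivIso3
import Groth.Agent.Lib.Helper28.MeroBasic

/-!
# The ideal of denominators of a meromorphic section of an invertible module
-/

set_option autoImplicit false
universe u
open CategoryTheory AlgebraicGeometry TopologicalSpace Opposite

namespace H16Mero

open Mero
open Groth.Agent.Lib.Helper3.InvGen Groth.Agent.Lib.Helper3.QCSec

variable {X : Scheme.{u}}

/-- Colon ideals by principal ideals commute with localization (elementwise form). -/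
theorem colon_localization {R S : Type*} [CommRing R] [CommRing S] [Algebra R S] (M : Submonoid R)
    [IsLocalization M S] (a b : R) (φ τ : S)
    (h : φ * algebraMap R S a = τ * algebraMap R S b) :
    ∃ (G H : R) (u : M), G * a = H * b ∧ algebraMap R S G = algebraMap R S u * φ := by
  obtain ⟨⟨g, t₁⟩, hg⟩ := IsLocalization.surj M φ
  obtain ⟨⟨h', t₂⟩, hh⟩ := IsLocalization.surj M τ
  dsimp only at hg hh
  have h1 : algebraMap R S (g * t₂ * a) = algebraMap R S (h' * t₁ * b) := by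
    rw [map_mul, map_mul, map_mul, map_mul, ← hg, ← hh]
    calc φ * algebraMap R S t₁ * algebraMap R S t₂ * algebraMap R S a
        = (φ * algebraMap R S a) * algebraMap R S t₁ * algebraMap R S t₂ := by ring
      _ = (τ * algebraMap R S b) * algebraMap R S t₁ * algebraMap R S t₂ := by rw [h]
      _ = τ * algebraMap R S t₂ * algebraMap R S t₁ * algebraMap R S b := by ring
  obtain ⟨t₃, ht₃⟩ := (IsLocalization.eq_iff_exists M S).mp h1
  refine ⟨t₃ * g * t₂, t₃ * h' * t₁, t₃ * t₂ * t₁, ?_, ?_⟩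
  · calc t₃ * g * t₂ * a = t₃ * (g * t₂ * a) := by ring
      _ = t₃ * (h' * t₁ * b) := ht₃
      _ = t₃ * h' * t₁ * b := by ring
  · rw [map_mul, map_mul, ← hg]
    simp only [Submonoid.coe_mul, map_mul]
    ring

/-- The stalk at `y` of the ideal of denominators of `s`. -/
noncomputable def denomStalkIdeal (L : X.Modules) (s : Γ(merMod L, ⊤)) (y : X) :
    Ideal (X.presheaf.stalk y) where
  carrier := {φ | ∃ t : L.presheaf.stalk y,
    φ • s.1 ⟨y, Opens.mem_top y⟩ = (LocalizedModule.mk t 1 : MStalk L y)}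
  add_mem' := by
    rintro φ ψ ⟨t, ht⟩ ⟨t', ht'⟩
    refine ⟨t + t', ?_⟩
    rw [add_smul, ht, ht']
    exact ((LocalizedModule.mkLinearMap (regStalk X y) (L.presheaf.stalk y)).map_add t t').symm
  zero_mem' := ⟨0, by rw [zero_smul, LocalizedModule.zero_mk]⟩
  smul_mem' := by
    rintro c φ ⟨t, ht⟩
    refine ⟨c • t, ?_⟩
    rw [smul_eq_mul, mul_smul, ht]
    exact ((LocalizedModule.mkLinearMap (regStalk X y) (L.presheaf.stalk y)).map_smul c t).symm

/-- A germ of a denominator extends to a local denominator. -/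
theorem exists_local_section_of_mem (L : X.Modules) (s : Γ(merMod L, ⊤)) {U : X.Opens}
    (f : Γ(X, U)) (y : X) (hy : y ∈ U)
    (h : X.presheaf.germ U y hy f ∈ denomStalkIdeal L s y) :
    ∃ (W : X.Opens) (hWU : W ≤ U) (_ : y ∈ W) (m : Γ(L, W)), ∀ (z : X) (hz : z ∈ W),
      X.presheaf.germ U z (hWU hz) f • s.1 ⟨z, Opens.mem_top z⟩ =
        (LocalizedModule.mk (L.presheaf.germ W z hz m) 1 : MStalk L z) := by
  obtain ⟨t, ht⟩ := h
  obtain ⟨V, hyV, i, m₀, b, hmb⟩ := s.2 ⟨y, Opens.mem_top y⟩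
  obtain ⟨V', hyV', m', rfl⟩ := TopCat.Presheaf.exists_germ_eq L.presheaf t
  have h1 : (LocalizedModule.mk (X.presheaf.germ U y hy f • L.presheaf.germ V y hyV m₀)
      (regGerm ⟨y, hyV⟩ b) : MStalk L y) = LocalizedModule.mk (L.presheaf.germ V' y hyV' m') 1 := by
    rw [← ht]
    have h2 := hmb ⟨y, hyV⟩
    refine Eq.trans ?_ (congrArg (fun q => X.presheaf.germ U y hy f • q) h2.symm)
    exact (LocalizedModule.smul'_mk _ _ _).symm
  obtain ⟨u, hu⟩ := LocalizedModule.mk_eq.mp h1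
  obtain ⟨V'', hyV'', υ, hυ, hυu⟩ := u.2
  -- everything over a common open
  have hy₀ : y ∈ U ⊓ V ⊓ (V' ⊓ V'') :=
    Opens.mem_inf.mpr ⟨Opens.mem_inf.mpr ⟨hy, hyV⟩, Opens.mem_inf.mpr ⟨hyV', hyV''⟩⟩
  have hU₀ : U ⊓ V ⊓ (V' ⊓ V'') ≤ U := inf_le_left.trans inf_le_left
  have hV₀ : U ⊓ V ⊓ (V' ⊓ V'') ≤ V := inf_le_left.trans inf_le_right
  have hV'₀ : U ⊓ V ⊓ (V' ⊓ V'') ≤ V' := inf_le_right.trans inf_le_left
  have hV''₀ : U ⊓ V ⊓ (V' ⊓ V'') ≤ V'' := inf_le_right.trans inf_le_right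
  have hgerm : L.presheaf.germ (U ⊓ V ⊓ (V' ⊓ V'')) y hy₀
      ((rres X hV''₀ υ * rres X hU₀ f) • res L hV₀ m₀) =
      L.presheaf.germ (U ⊓ V ⊓ (V' ⊓ V'')) y hy₀
        ((rres X hV''₀ υ * rres X hV₀ b.1) • res L hV'₀ m') := by
    rw [Mero.germ_smul, Mero.germ_smul, map_mul, map_mul, TopCat.Presheaf.germ_res_apply,
      TopCat.Presheaf.germ_res_apply, TopCat.Presheaf.germ_res_apply,
      TopCat.Presheaf.germ_res_apply, TopCat.Presheaf.germ_res_apply, hυu]
    simpa only [one_smul, Submonoid.smul_def, smul_smul] using hu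
  obtain ⟨W, hyW, j, j', hres⟩ := TopCat.Presheaf.germ_eq L.presheaf y hy₀ hy₀ _ _ hgerm
  have hle : W ≤ U ⊓ V ⊓ (V' ⊓ V'') := j.le
  have hres' : res L hle ((rres X hV''₀ υ * rres X hU₀ f) • res L hV₀ m₀) =
      res L hle ((rres X hV''₀ υ * rres X hV₀ b.1) • res L hV'₀ m') := hres
  refine ⟨W, hle.trans hU₀, hyW, res L (hle.trans hV'₀) m', fun z hz => ?_⟩
  have h3 := hmb ⟨z, hV₀ (hle hz)⟩
  refine (congrArg (fun q => X.presheaf.germ U z (hU₀ (hle hz)) f • q) h3).trans ?_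
  refine (LocalizedModule.smul'_mk _ _ _).trans ?_
  rw [LocalizedModule.mk_eq]
  refine ⟨⟨X.presheaf.germ V'' z (hV''₀ (hle hz)) υ, V'', hV''₀ (hle hz), υ, hυ, rfl⟩, ?_⟩
  have h4 := congrArg (L.presheaf.germ W z hz) hres'
  rw [TopCat.Presheaf.germ_res_apply, TopCat.Presheaf.germ_res_apply, Mero.germ_smul,
    Mero.germ_smul, map_mul, map_mul, TopCat.Presheaf.germ_res_apply,
    TopCat.Presheaf.germ_res_apply, TopCat.Presheaf.germ_res_apply,
    TopCat.Presheaf.germ_res_apply, TopCat.Presheaf.germ_res_apply] at h4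
  simp only [one_smul, Submonoid.smul_def, smul_smul, TopCat.Presheaf.germ_res_apply]
  exact h4

/-- `L_z → S_z⁻¹ L_z` is injective for an invertible module. -/
theorem mk_one_injective {L : X.Modules} (hL : PicF.IsInvertible L) (z : X) :
    Function.Injective (LocalizedModule.mkLinearMap (regStalk X z) (L.presheaf.stalk z)) := by
  rw [injective_iff_map_eq_zero]
  intro t h
  have h' : (LocalizedModule.mk t 1 : MStalk L z) = 0 := h
  obtain ⟨W, ε, hzW, hg⟩ := exists_isGen hL z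
  obtain ⟨τ, rfl⟩ := exists_smul_germ_eq hg hzW t
  rw [mk_smul_one] at h'
  have h1 := smul_mk_germ_eq_zero hg hzW _ h'
  rw [(Groth.Agent.Lib.Helper28.MeroBasic.mk_eq_zero_iff τ 1).mp h1, zero_smul]

theorem denomIdeal_eq_stalkIdeal {L : X.Modules} (hL : PicF.IsInvertible L) (s : Γ(merMod L, ⊤))
    (U : X.Opens) : Mero.denomIdeal L s U = stalkIdeal (denomStalkIdeal L s) U := by
  apply le_antisymm
  · rintro f ⟨m, hm⟩ y hy
    exact ⟨L.presheaf.germ U y hy m, hm ⟨y, hy⟩⟩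
  · intro f hf
    choose W hWU hyW m hm using fun y : U =>
      exists_local_section_of_mem L s f y.1 y.2 (hf y.1 y.2)
    have hcompat : ∀ i j : U, res L (inf_le_left : W i ⊓ W j ≤ W i) (m i) =
        res L (inf_le_right : W i ⊓ W j ≤ W j) (m j) := by
      intro i j
      refine TopCat.Presheaf.section_ext ⟨L.presheaf, L.isSheaf⟩ (W i ⊓ W j) _ _ (fun z hz => ?_)
      have e := (hm i z hz.1).symm.trans (hm j z hz.2)
      have e' := mk_one_injective hL z e
      show L.presheaf.germ (W i ⊓ W j) z hz (res L (inf_le_left : W i ⊓ W j ≤ W i) (m i)) =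
        L.presheaf.germ (W i ⊓ W j) z hz (res L (inf_le_right : W i ⊓ W j ≤ W j) (m j))
      rw [TopCat.Presheaf.germ_res_apply, TopCat.Presheaf.germ_res_apply]
      exact e'
    have hcov : U ≤ ⨆ i, W i := fun y hy => Opens.mem_iSup.mpr ⟨⟨y, hy⟩, hyW ⟨y, hy⟩⟩
    obtain ⟨M, hM⟩ := sec_glue L W U hWU hcov m hcompat
    refine ⟨M, fun x => ?_⟩
    rw [hm x x.1 (hyW x)]
    show (LocalizedModule.mk (L.presheaf.germ (W x) x.1 (hyW x) (m x)) 1 : MStalk L x.1) =
      LocalizedModule.mk (L.presheaf.germ U x.1 x.2 M) 1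
    rw [← hM x, TopCat.Presheaf.germ_res_apply]

/-- Local form of a meromorphic section of an invertible module. -/
theorem exists_local_form {L : X.Modules} (hL : PicF.IsInvertible L) (s : Γ(merMod L, ⊤)) (x : X) :
    ∃ (W : X.Opens) (_ : IsAffineOpen W) (_ : x ∈ W) (ε : Γ(L, W)) (_ : IsGen L W ε)
      (a : Γ(X, W)) (b : regSub X W), ∀ (z : X) (hz : z ∈ W), s.1 ⟨z, Opens.mem_top z⟩ =
        (LocalizedModule.mk (X.presheaf.germ W z hz a • L.presheaf.germ W z hz ε)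
          (regGerm ⟨z, hz⟩ b) : MStalk L z) := by
  obtain ⟨V, hxV, i, m₀, b, hmb⟩ := s.2 ⟨x, Opens.mem_top x⟩
  obtain ⟨W, ε, hW, hxW, hWV, hg⟩ := exists_affine_isGen_le hL x V hxV
  obtain ⟨a, ha⟩ := hg.self.exists_coord (res L hWV m₀)
  refine ⟨W, hW, hxW, ε, hg, a, ⟨rres X hWV b.1, regSub_res (homOfLE hWV) b.2⟩, fun z hz => ?_⟩
  have h1 := hmb ⟨z, hWV hz⟩
  refine h1.trans (mk_congr ?_ ?_)
  · rw [← Mero.germ_smul, ha, TopCat.Presheaf.germ_res_apply]
  · exact (TopCat.Presheaf.germ_res_apply X.presheaf (homOfLE hWV) z hz b.1).symm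

section LocalForm

variable {L : X.Modules} {s : Γ(merMod L, ⊤)} {W : X.Opens} {ε : Γ(L, W)} {a : Γ(X, W)}
  {b : regSub X W}

theorem mem_denomStalkIdeal_of_mul_eq
    (hform : ∀ (z : X) (hz : z ∈ W), s.1 ⟨z, Opens.mem_top z⟩ =
      (LocalizedModule.mk (X.presheaf.germ W z hz a • L.presheaf.germ W z hz ε)
        (regGerm ⟨z, hz⟩ b) : MStalk L z))
    {z : X} (hz : z ∈ W) (φ τ : X.presheaf.stalk z)
    (h : φ * X.presheaf.germ W z hz a = τ * X.presheaf.germ W z hz b.1) :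
    φ ∈ denomStalkIdeal L s z := by
  refine ⟨τ • L.presheaf.germ W z hz ε, ?_⟩
  rw [hform z hz, LocalizedModule.smul'_mk, LocalizedModule.mk_eq]
  refine ⟨1, ?_⟩
  simp only [one_smul, Submonoid.smul_def, smul_smul]
  rw [h, mul_comm]

theorem exists_mul_eq_of_mem_denomStalkIdeal (hg : IsGen L W ε)
    (hform : ∀ (z : X) (hz : z ∈ W), s.1 ⟨z, Opens.mem_top z⟩ =
      (LocalizedModule.mk (X.presheaf.germ W z hz a • L.presheaf.germ W z hz ε)
        (regGerm ⟨z, hz⟩ b) : MStalk L z))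
    {z : X} (hz : z ∈ W) (φ : X.presheaf.stalk z) (h : φ ∈ denomStalkIdeal L s z) :
    ∃ τ : X.presheaf.stalk z, φ * X.presheaf.germ W z hz a = τ * X.presheaf.germ W z hz b.1 := by
  obtain ⟨t, ht⟩ := h
  obtain ⟨τ, rfl⟩ := exists_smul_germ_eq hg hz t
  rw [hform z hz, LocalizedModule.smul'_mk, LocalizedModule.mk_eq] at ht
  obtain ⟨u, hu⟩ := ht
  simp only [one_smul, Submonoid.smul_def, smul_smul] at hu
  have h0 : ((u : X.presheaf.stalk z) * (φ * X.presheaf.germ W z hz a) -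
      (u : X.presheaf.stalk z) * (X.presheaf.germ W z hz b.1 * τ)) •
      L.presheaf.germ W z hz ε = 0 := by
    rw [sub_smul, hu, sub_self]
  have h1 := germ_smul_eq_zero hg hz _ h0
  rw [← mul_sub] at h1
  have h2 := (mul_left_mem_nonZeroDivisors_eq_zero_iff (regStalk_le_nonZeroDivisors z u.2)).mp h1
  exact ⟨τ, by rw [sub_eq_zero.mp h2, mul_comm]⟩

theorem stalkGood_denom (hg : IsGen L W ε) (hW : IsAffineOpen W)
    (hform : ∀ (z : X) (hz : z ∈ W), s.1 ⟨z, Opens.mem_top z⟩ =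
      (LocalizedModule.mk (X.presheaf.germ W z hz a • L.presheaf.germ W z hz ε)
        (regGerm ⟨z, hz⟩ b) : MStalk L z)) :
    StalkGood (denomStalkIdeal L s) W := by
  intro y hy φ hφ
  obtain ⟨τ, hτ⟩ := exists_mul_eq_of_mem_denomStalkIdeal hg hform hy φ hφ
  letI := X.presheaf.algebra_section_stalk ⟨y, hy⟩
  haveI := hW.isLocalization_stalk ⟨y, hy⟩
  obtain ⟨G, H, u, hGH, hGu⟩ := colon_localization (S := X.presheaf.stalk y)
    (hW.primeIdealOf ⟨y, hy⟩).asIdeal.primeCompl a b.1 φ τ hτ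
  have hGmem : G ∈ stalkIdeal (denomStalkIdeal L s) W := fun z hz =>
    mem_denomStalkIdeal_of_mul_eq hform hz _ (X.presheaf.germ W z hz H)
      (by rw [← map_mul, ← map_mul, hGH])
  have hu : IsUnit (algebraMap Γ(X, W) (X.presheaf.stalk y) u) :=
    IsLocalization.map_units (X.presheaf.stalk y) u
  obtain ⟨v, hv⟩ := hu
  have h1 : X.presheaf.germ W y hy G = ↑v * φ := by
    rw [hv]
    exact hGu
  have h2 : φ = ↑v⁻¹ * X.presheaf.germ W y hy G := by
    rw [h1, ← mul_assoc, Units.inv_mul, one_mul]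
  rw [h2]
  exact Ideal.mul_mem_left _ _ (Ideal.mem_map_of_mem _ hGmem)

end LocalForm

/-- The ideals of denominators of a meromorphic section of an invertible module form a quasi-coherent ideal
sheaf whose support is nowhere dense. -/
theorem denomIdeal_isQuasiCoherent_nowhereDense {L : X.Modules} (hL : PicF.IsInvertible L)
    (s : Γ(merMod L, ⊤)) :
    ∃ I : X.IdealSheafData, (∀ U : X.affineOpens, I.ideal U = Mero.denomIdeal L s U.1) ∧
      interior (I.support : Set X) = ∅ := by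
  obtain ⟨I, hI⟩ := exists_idealSheafData_of_stalkGood (𝔞 := denomStalkIdeal L s) (fun x => by
    obtain ⟨W, hW, hxW, ε, hg, a, b, hform⟩ := exists_local_form hL s x
    exact ⟨W, hxW, stalkGood_denom hg hW hform⟩)
  refine ⟨I, fun U => by rw [hI U, denomIdeal_eq_stalkIdeal hL s], ?_⟩
  rw [Set.eq_empty_iff_forall_notMem]
  intro x hx
  obtain ⟨t, hts, hto, hxt⟩ := mem_interior.mp hx
  obtain ⟨W, hW, hxW, ε, hg, a, b, hform⟩ := exists_local_form hL s x
  obtain ⟨U', hU', hxU', hU'le⟩ := Opens.isBasis_iff_nbhd.mp X.isBasis_affineOpens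
    (show x ∈ (⟨t, hto⟩ : X.Opens) ⊓ W from Opens.mem_inf.mpr ⟨hxt, hxW⟩)
  have hU'W : U' ≤ W := hU'le.trans inf_le_right
  have hbmem : rres X hU'W b.1 ∈ I.ideal ⟨U', hU'⟩ := by
    rw [hI]
    intro z hz
    rw [TopCat.Presheaf.germ_res_apply]
    exact mem_denomStalkIdeal_of_mul_eq hform (hU'W hz) _ (X.presheaf.germ W z (hU'W hz) a)
      (mul_comm _ _)
  have hbot : X.basicOpen (rres X hU'W b.1) = ⊥ := by
    rw [eq_bot_iff]
    intro z hz
    have hzU' : z ∈ U' := X.basicOpen_le _ hz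
    have hzs : z ∈ I.support := hts (hU'le hzU').1
    have h3 := (Scheme.IdealSheafData.mem_support_iff_of_mem (U := ⟨U', hU'⟩) hzU').mp hzs
    exact ((X.mem_zeroLocus_iff _ z).mp h3 _ hbmem hz).elim
  obtain ⟨n, hn⟩ :=
    (Scheme.isNilpotent_iff_basicOpen_eq_bot_of_isCompact hU'.isCompact _).mpr hbot
  have h1 : X.presheaf.germ W x hxW b.1 ∈ nonZeroDivisors (X.presheaf.stalk x) := b.2 ⟨x, hxW⟩
  have h2 : (X.presheaf.germ W x hxW b.1) ^ n = 0 := by
    have h4 := congrArg (X.presheaf.germ U' x hxU') hn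
    rwa [map_pow, map_zero, TopCat.Presheaf.germ_res_apply] at h4
  exact zero_notMem_nonZeroDivisors (h2 ▸ pow_mem h1 n)

end H16Mero
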