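import Mathlib
import Groth.Agent.Lib.Helper16.Mero.Extend

/-!
# The domain of definition of a meromorphic function is open and schematically dense
-/

set_option autoImplicit false
universe u
open CategoryTheory AlgebraicGeometry TopologicalSpace Opposite

namespace H16Mero

open Mero

variable {X : Scheme.{u}}

theorem isOpen_domain (f : Γ(Mero.kmod X, ⊤)) :
    IsOpen {x : X | f.1 ⟨x, Opens.mem_top x⟩ ∈
      (algebraMap (X.presheaf.stalk x) (Mero.KStalk X x)).range} := by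
  rw [isOpen_iff_forall_mem_open]
  rintro x ⟨α, hα⟩
  obtain ⟨W₁, hxW₁, a, rfl⟩ := TopCat.Presheaf.exists_germ_eq X.presheaf α
  obtain ⟨V0, hxV0, i0, a0, b0, w0⟩ := f.2 ⟨x, Opens.mem_top x⟩
  have hw := w0 ⟨x, hxV0⟩
  dsimp only at hw
  have h1 : (LocalizedModule.mk (X.presheaf.germ W₁ x hxW₁ a) 1 : Mero.KStalk X x) =
      LocalizedModule.mk (X.presheaf.germ V0 x hxV0 a0) (Mero.regGerm ⟨x, hxV0⟩ b0) := by
    rw [← hw]
    exact hα
  rw [LocalizedModule.mk_eq] at h1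
  obtain ⟨u, hu⟩ := h1
  simp only [one_smul, Submonoid.smul_def, smul_eq_mul] at hu
  have hu' : (u : X.presheaf.stalk x) *
      (X.presheaf.germ V0 x hxV0 b0.1 * X.presheaf.germ W₁ x hxW₁ a) =
      (u : X.presheaf.stalk x) * X.presheaf.germ V0 x hxV0 a0 := hu
  have hnz := Mero.regStalk_le_nonZeroDivisors x u.2
  have h2 : X.presheaf.germ V0 x hxV0 b0.1 * X.presheaf.germ W₁ x hxW₁ a =
      X.presheaf.germ V0 x hxV0 a0 := by
    have h3 : (u : X.presheaf.stalk x) * (X.presheaf.germ V0 x hxV0 b0.1 *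
        X.presheaf.germ W₁ x hxW₁ a - X.presheaf.germ V0 x hxV0 a0) = 0 := by
      rw [mul_sub]
      exact sub_eq_zero.mpr hu'
    exact sub_eq_zero.mp ((mem_nonZeroDivisors_iff_left.mp hnz) _ h3)
  have hxVW : x ∈ V0 ⊓ W₁ := Opens.mem_inf.mpr ⟨hxV0, hxW₁⟩
  have h2' : X.presheaf.germ (V0 ⊓ W₁) x hxVW
      (X.presheaf.map (homOfLE (inf_le_left : V0 ⊓ W₁ ≤ V0)).op b0.1 *
        X.presheaf.map (homOfLE (inf_le_right : V0 ⊓ W₁ ≤ W₁)).op a) =
      X.presheaf.germ V0 x hxV0 a0 := by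
    rw [map_mul, TopCat.Presheaf.germ_res_apply, TopCat.Presheaf.germ_res_apply]
    exact h2
  obtain ⟨W₂, hxW₂, iU, iV, heq⟩ := TopCat.Presheaf.germ_eq X.presheaf x hxVW hxV0 _ _ h2'
  refine ⟨W₂, ?_, W₂.isOpen, hxW₂⟩
  intro y hy
  have hyV0 : y ∈ V0 := iV.le hy
  have hyW₁ : y ∈ W₁ := (iU.le hy).2
  refine ⟨X.presheaf.germ W₁ y hyW₁ a, ?_⟩
  have hwy := w0 ⟨y, hyV0⟩
  dsimp only at hwy
  refine Eq.trans ?_ hwy.symm
  change (LocalizedModule.mk (X.presheaf.germ W₁ y hyW₁ a) 1 : Mero.KStalk X y) =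
    LocalizedModule.mk (X.presheaf.germ V0 y hyV0 a0) (Mero.regGerm ⟨y, hyV0⟩ b0)
  refine LocalizedModule.mk_eq.mpr ⟨1, ?_⟩
  simp only [one_smul, Submonoid.smul_def, smul_eq_mul]
  change X.presheaf.germ V0 y hyV0 b0.1 * X.presheaf.germ W₁ y hyW₁ a =
    X.presheaf.germ V0 y hyV0 a0
  have h4 := congrArg (X.presheaf.germ W₂ y hy) heq
  rw [TopCat.Presheaf.germ_res_apply, TopCat.Presheaf.germ_res_apply, map_mul,
    TopCat.Presheaf.germ_res_apply, TopCat.Presheaf.germ_res_apply] at h4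
  exact h4

theorem domain_open_dense (f : Γ(Mero.kmod X, ⊤)) :
    ∃ D : X.Opens,
      (D : Set X) = {x | f.1 ⟨x, Opens.mem_top x⟩ ∈
        (algebraMap (X.presheaf.stalk x) (Mero.KStalk X x)).range} ∧
        ∀ V : X.Opens,
          Function.Injective (X.presheaf.map (homOfLE (inf_le_left : V ⊓ D ≤ V)).op) := by
  obtain ⟨D, hD⟩ : ∃ D : X.Opens, (D : Set X) = {x | f.1 ⟨x, Opens.mem_top x⟩ ∈
      (algebraMap (X.presheaf.stalk x) (Mero.KStalk X x)).range} := ⟨⟨_, isOpen_domain f⟩, rfl⟩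
  refine ⟨D, hD, fun V => ?_⟩
  intro c₁ c₂ hc
  rw [← sub_eq_zero]
  have hc' : X.presheaf.map (homOfLE (inf_le_left : V ⊓ D ≤ V)).op (c₁ - c₂) = 0 := by
    rw [map_sub, hc, sub_self]
  generalize c₁ - c₂ = c at hc'
  refine TopCat.Presheaf.section_ext X.sheaf V c 0 fun x hx => ?_
  change X.presheaf.germ V x hx c = X.presheaf.germ V x hx 0
  rw [map_zero]
  obtain ⟨V0, hxV0, i0, a0, b0, w0⟩ := f.2 ⟨x, Opens.mem_top x⟩
  have hxW₀ : x ∈ V ⊓ V0 := Opens.mem_inf.mpr ⟨hx, hxV0⟩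
  have key := germ_eq_zero_of_regular (W₀ := V ⊓ V0)
    (X.presheaf.map (homOfLE (inf_le_right : V ⊓ V0 ≤ V0)).op b0.1)
    (Mero.regSub_res (homOfLE inf_le_right) b0.2)
    (X.presheaf.map (homOfLE (inf_le_left : V ⊓ V0 ≤ V)).op c) ?_ x hxW₀
  · rw [TopCat.Presheaf.germ_res_apply] at key
    exact key
  · intro y hyW hyt
    rw [TopCat.Presheaf.germ_res_apply]
    have hyV0 : y ∈ V0 := hyW.2
    have hyD : y ∈ D := by
      have hmem : y ∈ (D : Set X) := by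
        rw [hD]
        have hu : IsUnit (X.presheaf.germ V0 y hyV0 b0.1) := by
          have h6 := (Scheme.mem_basicOpen X _ y hyW).mp hyt
          rwa [TopCat.Presheaf.germ_res_apply] at h6
        obtain ⟨v, hv⟩ := hu
        refine ⟨X.presheaf.germ V0 y hyV0 a0 * ((v⁻¹ : (X.presheaf.stalk y)ˣ) : X.presheaf.stalk y), ?_⟩
        have hwy := w0 ⟨y, hyV0⟩
        dsimp only at hwy
        refine Eq.trans ?_ hwy.symm
        change (LocalizedModule.mk (X.presheaf.germ V0 y hyV0 a0 *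
            ((v⁻¹ : (X.presheaf.stalk y)ˣ) : X.presheaf.stalk y)) 1 : Mero.KStalk X y) =
          LocalizedModule.mk (X.presheaf.germ V0 y hyV0 a0) (Mero.regGerm ⟨y, hyV0⟩ b0)
        refine LocalizedModule.mk_eq.mpr ⟨1, ?_⟩
        simp only [one_smul, Submonoid.smul_def, smul_eq_mul]
        change X.presheaf.germ V0 y hyV0 b0.1 * (X.presheaf.germ V0 y hyV0 a0 *
          ((v⁻¹ : (X.presheaf.stalk y)ˣ) : X.presheaf.stalk y)) = X.presheaf.germ V0 y hyV0 a0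
        rw [← hv, mul_comm (X.presheaf.germ V0 y hyV0 a0), ← mul_assoc, Units.mul_inv, one_mul]
      exact hmem
    have h5 := congrArg (X.presheaf.germ (V ⊓ D) y (Opens.mem_inf.mpr ⟨hyW.1, hyD⟩)) hc'
    rw [TopCat.Presheaf.germ_res_apply, map_zero] at h5
    exact h5

end H16Mero
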