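import Mathlib
import Groth.Agent.Lib.Helper16.Mero.DivIso3

/-!
# Invertible fractional ideals are locally principal
-/

set_option autoImplicit false
universe u
open CategoryTheory AlgebraicGeometry TopologicalSpace Opposite

namespace H16Mero

open Mero
open Groth.Agent.Lib.Helper3.InvGen Groth.Agent.Lib.Helper3.QCSec

variable {X : Scheme.{u}}

theorem smul_eq_toK_mul {V : X.Opens} (r : Γ(X, V)) (G : Γ(kmod X, V)) :
    r • G = toK X V r * G :=
  Subtype.ext (funext fun y => by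
    show X.presheaf.germ V y.1 y.2 r • G.1 y =
      (LocalizedModule.mk (X.presheaf.germ V y.1 y.2 r) 1 : KStalk X y.1) * G.1 y
    rw [Algebra.smul_def]
    rfl)

theorem isUnit_map_of_unit {U V : X.Opens} (hV : V ≤ U) (f : (Γ(kmod X, U))ˣ) :
    IsUnit ((kmod X).presheaf.map (homOfLE hV).op (f : Γ(kmod X, U))) := by
  refine IsUnit.of_mul_eq_one
    ((kmod X).presheaf.map (homOfLE hV).op (↑f⁻¹ : Γ(kmod X, U))) ?_
  refine Groth.Agent.Lib.Helper28.MeroBasic.kmod_ext fun y => ?_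
  exact mul_inv_apply f ⟨y.1, hV y.2⟩

/-- A fractional ideal is invertible iff it is locally generated by a unit of `K_X`. -/
theorem fracIdeal_invertible_iff (J : X.Modules) (ι : J ⟶ kmod X) [Mono ι] :
    PicF.IsInvertible J ↔ ∀ x : X, ∃ (U : X.Opens) (_ : x ∈ U) (f : (Γ(kmod X, U))ˣ),
      ∀ (V : X.Opens) (hV : V ≤ U),
        Set.range ⇑(ι.val.app (Opposite.op V)) =
          {t : Γ(kmod X, V) | ∃ r : Γ(X, V),
            t = toK X V r * (kmod X).presheaf.map (homOfLE hV).op (f : Γ(kmod X, U))} := by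
  have hinj : ∀ V : X.Opens, Function.Injective (ι.app V) :=
    (Groth.Agent.Lib.Helper3.QCProps.mono_iff_app_injective ι).mp inferInstance
  constructor
  · intro hJ x
    obtain ⟨U₀, ε, hxU₀, hg⟩ := exists_isGen hJ x
    obtain ⟨W', hxW', hW'le, a, b, hab⟩ :=
      Groth.Agent.Lib.Helper28.MeroBasic.kmod_local (ι.app U₀ ε) ⟨x, hxU₀⟩
    have hareg : a ∈ regSub X W' := by
      intro y
      show X.presheaf.germ W' y.1 y.2 a ∈ nonZeroDivisors (X.presheaf.stalk y.1)
      rw [mem_nonZeroDivisors_iff_right]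
      intro ρ hρ
      obtain ⟨V₁, hyV₁, r, rfl⟩ := TopCat.Presheaf.exists_germ_eq X.presheaf ρ
      have hy2 : y.1 ∈ V₁ ⊓ W' := Opens.mem_inf.mpr ⟨hyV₁, y.2⟩
      have hl : V₁ ⊓ W' ≤ V₁ := inf_le_left
      have hr : V₁ ⊓ W' ≤ W' := inf_le_right
      have h0 : X.presheaf.germ (V₁ ⊓ W') y.1 hy2 (rres X hl r * rres X hr a) =
          X.presheaf.germ (V₁ ⊓ W') y.1 hy2 0 := by
        rw [map_mul, TopCat.Presheaf.germ_res_apply, TopCat.Presheaf.germ_res_apply, hρ, map_zero]
      obtain ⟨V₂, hyV₂, i, i', hres⟩ := TopCat.Presheaf.germ_eq X.presheaf y.1 hy2 hy2 _ _ h0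
      rw [map_zero] at hres
      have hV₂ : V₂ ≤ V₁ ⊓ W' := i.le
      have hra : rres X (hV₂.trans hl) r * rres X (hV₂.trans hr) a = 0 := by
        have h3 : rres X hV₂ (rres X hl r * rres X hr a) = 0 := hres
        rwa [rres_mul, rres_rres, rres_rres] at h3
      have hV₂U₀ : V₂ ≤ U₀ := (hV₂.trans hr).trans hW'le
      have hz : ι.app V₂ (rres X (hV₂.trans hl) r • res J hV₂U₀ ε) = 0 := by
        rw [Scheme.Modules.Hom.app_smul, Groth.Agent.Lib.Helper3.QCExact.app_res']
        refine Subtype.ext (funext fun z => ?_)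
        show X.presheaf.germ V₂ z.1 z.2 (rres X (hV₂.trans hl) r) •
          (ι.app U₀ ε).1 ⟨z.1, hV₂U₀ z.2⟩ = 0
        rw [hab ⟨z.1, (hV₂.trans hr) z.2⟩, LocalizedModule.smul'_mk, smul_eq_mul]
        have h4 : X.presheaf.germ V₂ z.1 z.2 (rres X (hV₂.trans hl) r) *
            X.presheaf.germ W' z.1 ((hV₂.trans hr) z.2) a = 0 := by
          rw [← TopCat.Presheaf.germ_res_apply X.presheaf (homOfLE (hV₂.trans hr)) z.1 z.2 a,
            ← map_mul]
          change X.presheaf.germ V₂ z.1 z.2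
            (rres X (hV₂.trans hl) r * rres X (hV₂.trans hr) a) = 0
          rw [hra, map_zero]
        rw [h4, LocalizedModule.zero_mk]
      have h1 : rres X (hV₂.trans hl) r • res J hV₂U₀ ε = 0 := hinj V₂ (by rw [hz, map_zero])
      have h2 : rres X (hV₂.trans hl) r = 0 := (hg V₂ hV₂U₀).eq_zero h1
      rw [← TopCat.Presheaf.germ_res_apply X.presheaf (homOfLE (hV₂.trans hl)) y.1 hyV₂ r]
      change X.presheaf.germ V₂ y.1 hyV₂ (rres X (hV₂.trans hl) r) = 0
      rw [h2, map_zero]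
    refine ⟨W', hxW', fracSec ⟨a, hareg⟩ b, fun V hV => ?_⟩
    have hιε : ι.app V (res J (hV.trans hW'le) ε) =
        (kmod X).presheaf.map (homOfLE hV).op
          ((fracSec ⟨a, hareg⟩ b : (Γ(kmod X, W'))ˣ) : Γ(kmod X, W')) := by
      rw [Groth.Agent.Lib.Helper3.QCExact.app_res']
      refine Subtype.ext (funext fun z => ?_)
      exact hab ⟨z.1, hV z.2⟩
    ext t
    constructor
    · rintro ⟨m, rfl⟩
      obtain ⟨r, hr⟩ := (hg V (hV.trans hW'le)).exists_coord m
      refine ⟨r, ?_⟩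
      show ι.app V m = _
      rw [← hr, Scheme.Modules.Hom.app_smul, hιε, smul_eq_toK_mul]
    · rintro ⟨r, rfl⟩
      refine ⟨r • res J (hV.trans hW'le) ε, ?_⟩
      show ι.app V (r • res J (hV.trans hW'le) ε) = _
      rw [Scheme.Modules.Hom.app_smul, hιε, smul_eq_toK_mul]
  · intro h
    apply isInvertible_of_isGen
    intro x
    obtain ⟨U, hxU, f, hf⟩ := h x
    have hfU : (f : Γ(kmod X, U)) ∈ Set.range ⇑(ι.val.app (Opposite.op U)) := by
      rw [hf U le_rfl]
      exact ⟨1, by rw [map_one, one_mul]; rfl⟩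
    obtain ⟨ε, hε⟩ := hfU
    have hε' : ι.app U ε = (f : Γ(kmod X, U)) := hε
    refine ⟨U, ε, hxU, fun V hV => ?_⟩
    have hιε : ι.app V (res J hV ε) =
        (kmod X).presheaf.map (homOfLE hV).op (f : Γ(kmod X, U)) := by
      rw [Groth.Agent.Lib.Helper3.QCExact.app_res', hε']
    have hfVu := isUnit_map_of_unit hV f
    constructor
    · intro a b hab
      have hab' : a • res J hV ε = b • res J hV ε := hab
      have h1 := congrArg (ι.app V) hab'
      rw [Scheme.Modules.Hom.app_smul, Scheme.Modules.Hom.app_smul, hιε, smul_eq_toK_mul,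
        smul_eq_toK_mul] at h1
      exact toK_injective V (hfVu.mul_left_injective h1)
    · intro m
      have hm : ι.app V m ∈ Set.range ⇑(ι.val.app (Opposite.op V)) := ⟨m, rfl⟩
      rw [hf V hV] at hm
      obtain ⟨r, hr⟩ := hm
      refine ⟨r, hinj V ?_⟩
      show ι.app V (r • res J hV ε) = ι.app V m
      rw [Scheme.Modules.Hom.app_smul, hιε, smul_eq_toK_mul, hr]

end H16Mero
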