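import Mathlib
import Groth.Agent.Lib.Helper16.Mero.ZeroScheme
import Groth.Agent.Lib.Helper16.Mero.DivIso3
import Groth.Agent.Lib.Helper28.MeroDivLocal

/-!
# Zero schemes of sections of invertible modules on an integral scheme as Cartier divisors
-/

set_option autoImplicit false
universe u
open CategoryTheory AlgebraicGeometry TopologicalSpace Opposite

namespace H16Mero

open Mero
open Groth.Agent.Lib.Helper3.InvGen Groth.Agent.Lib.Helper3.QCSec Groth.Agent.Lib.Helper3.InvTensor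

variable {X : Scheme.{u}}

/-! ### The divisor of the zero scheme of a section -/

theorem exists_isDivOfIdeal_zeroScheme [IsIntegral X] {L : X.Modules} (hL : PicF.IsInvertible L)
    (s : Coh.structureModule X ⟶ L) (hs : s ≠ 0) :
    ∃ D : Mero.Divisor X, Mero.IsDivOfIdeal D (PicF2.zeroScheme L s) ∧
      ∃ e : L ≅ Mero.divMod D,
        (Mero.divModι D).app ⊤ (e.hom.app ⊤ (SecTwist.val s ⊤)) = 1 := by
  have hdata : ∀ x : X, ∃ (d : LocData L (toMerFun L ⊤ (sec s ⊤))) (_ : IsAffineOpen d.U)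
      (c : regSub X d.U), x ∈ d.U ∧ d.F = fracSec c 1 ∧ sec s d.U = c.1 • d.ε := by
    intro x
    obtain ⟨U, ε, hU, hxU, hg⟩ := exists_affine_isGen hL x
    obtain ⟨c, hc⟩ := hg.self.exists_coord (sec s U)
    have hcreg : c ∈ regSub X U := coord_mem_regSub hL hs hc.symm
    refine ⟨⟨U, ε, hg, fracSec ⟨c, hcreg⟩ 1, fun y hy => ?_⟩, hU, ⟨c, hcreg⟩, hxU, rfl, hc.symm⟩
    show (LocalizedModule.mk (L.presheaf.germ ⊤ y (Opens.mem_top y) (sec s ⊤)) 1 : MStalk L y) =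
      (LocalizedModule.mk (X.presheaf.germ U y hy c) (regGerm ⟨y, hy⟩ (1 : regSub X U)) :
        KStalk X y) • (LocalizedModule.mk (L.presheaf.germ U y hy ε) 1 : MStalk L y)
    refine ((LocalizedModule.mk_smul_mk _ _ _ 1).trans (mk_congr ?_ ?_)).symm
    · exact (sgerm_eq_smul hc.symm hy).symm
    · show X.presheaf.germ U y hy (1 : Γ(X, U)) * 1 = 1
      rw [map_one, mul_one]
  choose d hU c hx hF hc using hdata
  haveI := isIso_toDivMod d hx
  refine ⟨divOfData d hx, fun x => ⟨⟨(d x).U, hU x⟩, hx x, (c x).1, (c x).2,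
    zeroScheme_ideal_eq_span hL hs (hU x) (d x).hg (hc x), fun y => ?_⟩,
    asIso (toDivMod d hx), ?_⟩
  · have h1 : (divOfData d hx).1 y.1 = germOf (d x).F y := divOfData_apply d hx x y
    rw [h1, hF x]
    exact congrArg _ (Units.ext (mk_congr rfl (map_one _)))
  · refine Groth.Agent.Lib.Helper28.MeroBasic.kmod_ext fun y => ?_
    show divBySection d hx y.1 (L.presheaf.germ ⊤ y.1 y.2 (sec s ⊤)) = 1
    exact divBy_eq _ _ (one_smul _ _)

/-! ### Effective divisors are locally given by regular sections -/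

theorem exists_local_regular_of_effective (D : Divisor X) (hD : IsEffective D) (x : X) :
    ∃ (W : X.Opens) (_ : IsAffineOpen W) (_ : x ∈ W) (f : regSub X W),
      ∀ y : W, D.1 y.1 =
        QuotientGroup.mk (IsLocalization.map_units (KStalk X y.1) (regGerm y f)).unit := by
  obtain ⟨W, hW, hxW, a, b, hab⟩ :=
    Groth.Agent.Lib.Helper28.MeroDivLocal.exists_local_fraction D x
  have hmem : a.1 ∈ Ideal.span {b.1} := by
    rw [hW.mem_ideal_iff]
    intro y hy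
    obtain ⟨c, hc⟩ := Groth.Agent.Lib.Helper28.MeroDivLocal.dvd_of_isEffectiveAt
      (regGerm ⟨y, hy⟩ a) (regGerm ⟨y, hy⟩ b) (hab ⟨y, hy⟩) (hD y)
    rw [Ideal.map_span, Set.image_singleton, Ideal.mem_span_singleton']
    exact ⟨c, by rw [mul_comm]; exact hc.symm⟩
  obtain ⟨f, hf⟩ := Ideal.mem_span_singleton'.mp hmem
  have hfreg : f ∈ regSub X W := by
    intro y
    show X.presheaf.germ W y.1 y.2 f ∈ nonZeroDivisors (X.presheaf.stalk y.1)
    have h1 : X.presheaf.germ W y.1 y.2 f * X.presheaf.germ W y.1 y.2 b.1 ∈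
        nonZeroDivisors (X.presheaf.stalk y.1) := by
      rw [← map_mul, hf]
      exact a.2 y
    exact (mul_mem_nonZeroDivisors.mp h1).1
  refine ⟨W, hW, hxW, ⟨f, hfreg⟩, fun y => (hab y).trans (congrArg _ (Units.ext ?_))⟩
  show (LocalizedModule.mk (X.presheaf.germ W y.1 y.2 a.1) (regGerm y b) : KStalk X y.1) =
    LocalizedModule.mk (X.presheaf.germ W y.1 y.2 f) 1
  rw [LocalizedModule.mk_eq]
  refine ⟨1, ?_⟩
  simp only [one_smul, Submonoid.smul_def, smul_eq_mul]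
  rw [← hf, map_mul, mul_comm]

/-- The section `1` of `O_X(D)` for an effective divisor `D`. -/
noncomputable def oneSec (D : Divisor X) (hD : IsEffective D) : Γ(divMod D, ⊤) :=
  ⟨(1 : Γ(kmod X, ⊤)).1, And.intro (1 : Γ(kmod X, ⊤)).2 (fun y => by
    obtain ⟨a, ha⟩ := hD y.1
    refine (divCond_iff_of_germ _ ha _).mpr ⟨a.1, ?_⟩
    show _ = (1 : KStalk X y.1) * _
    rw [one_mul]
    rfl)⟩

theorem exists_section_isDivOfIdeal_of_iso_divMod [IsIntegral X] {L : X.Modules}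
    (hL : PicF.IsInvertible L) (D : Divisor X) (hD : IsEffective D) (e : L ≅ divMod D) :
    ∃ s : Coh.structureModule X ⟶ L, s ≠ 0 ∧ IsDivOfIdeal D (PicF2.zeroScheme L s) := by
  set s : Coh.structureModule X ⟶ L :=
    Groth.Agent.Lib.Helper3.InvAmple.globalHom L (e.inv.app ⊤ (oneSec D hD)) with hsdef
  -- local data
  have hloc : ∀ x : X, ∃ (W : X.Opens) (_ : IsAffineOpen W) (_ : x ∈ W) (f : regSub X W)
      (ε : Γ(L, W)), IsGen L W ε ∧ sec s W = f.1 • ε ∧ ∀ y : W, D.1 y.1 =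
        QuotientGroup.mk (IsLocalization.map_units (KStalk X y.1) (regGerm y f)).unit := by
    intro x
    obtain ⟨W, hW, hxW, f, hf⟩ := exists_local_regular_of_effective D hD x
    have hF : ∀ y : W, D.1 y.1 = germOf (fracSec f 1) y := fun y =>
      (hf y).trans (congrArg _ (Units.ext (mk_congr rfl (map_one _)).symm))
    refine ⟨W, hW, hxW, f, e.inv.app W (invSec D (fracSec f 1) hF),
      isGen_of_iso e (isGen_invSec D (fracSec f 1) hF), ?_, hf⟩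
    rw [hsdef, Groth.Agent.Lib.Helper3.InvAmple.sec_globalHom,
      ← Groth.Agent.Lib.Helper3.QCExact.app_res', ← Scheme.Modules.Hom.app_smul]
    congr 1
    refine Subtype.ext (funext fun y => ?_)
    show (1 : KStalk X y.1) = X.presheaf.germ W y.1 y.2 f.1 •
      (LocalizedModule.mk (X.presheaf.germ W y.1 y.2 (1 : regSub X W).1) (regGerm y f) :
        KStalk X y.1)
    rw [Algebra.smul_def]
    show (1 : KStalk X y.1) = (LocalizedModule.mk (X.presheaf.germ W y.1 y.2 f.1) 1 : KStalk X y.1) *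
      LocalizedModule.mk (X.presheaf.germ W y.1 y.2 (1 : regSub X W).1) (regGerm y f)
    refine (LocalizedModule.mk_mul_mk.trans ((mk_congr ?_ (one_mul _)).trans
      (mk_self_eq_one (regGerm y f)))).symm
    show X.presheaf.germ W y.1 y.2 f.1 * X.presheaf.germ W y.1 y.2 (1 : Γ(X, W)) = _
    rw [map_one, mul_one]
  have hs : s ≠ 0 := by
    intro h0
    obtain ⟨x⟩ : Nonempty X := inferInstance
    obtain ⟨W, hW, hxW, f, ε, hg, hc, -⟩ := hloc x
    have h1 : sec s W = 0 := by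
      rw [h0]
      rfl
    rw [hc] at h1
    have h2 : f.1 = 0 := hg.self.eq_zero h1
    have h3 := f.2 ⟨x, hxW⟩
    have h4 : X.presheaf.germ W x hxW f.1 = 0 := by rw [h2, map_zero]
    exact zero_notMem_nonZeroDivisors (h4 ▸ h3)
  refine ⟨s, hs, fun x => ?_⟩
  obtain ⟨W, hW, hxW, f, ε, hg, hc, hf⟩ := hloc x
  exact ⟨⟨W, hW⟩, hxW, f.1, f.2, zeroScheme_ideal_eq_span hL hs hW hg hc, hf⟩

/-! ### Sums -/

theorem exists_gen_of_ideal_eq_span [IsIntegral X] {L : X.Modules} (hL : PicF.IsInvertible L)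
    {s : Coh.structureModule X ⟶ L} (hs : s ≠ 0) {U₁ : X.affineOpens} {f : Γ(X, U₁.1)}
    (hI : (PicF2.zeroScheme L s).ideal U₁ = Ideal.span {f}) {U : X.Opens} (hU : IsAffineOpen U)
    (hUU₁ : U ≤ U₁.1) {x : X} (hxU : x ∈ U) {ε : Γ(L, U)} (hg : IsGen L U ε) :
    ∃ ε' : Γ(L, U), IsGen L U ε' ∧ sec s U = rres X hUU₁ f • ε' := by
  obtain ⟨c, hc⟩ := hg.self.exists_coord (sec s U)
  have h1 := zeroScheme_ideal_eq_span hL hs hU hg hc.symm
  have h2 : ((PicF2.zeroScheme L s).ideal U₁).map (X.presheaf.map (homOfLE hUU₁).op).hom =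
      (PicF2.zeroScheme L s).ideal ⟨U, hU⟩ :=
    (PicF2.zeroScheme L s).map_ideal (U := ⟨U, hU⟩) (V := U₁) hUU₁
  rw [hI, Ideal.map_span, Set.image_singleton, h1] at h2
  haveI : Nonempty U := ⟨⟨x, hxU⟩⟩
  obtain ⟨u, hu⟩ := Ideal.span_singleton_eq_span_singleton.mp h2
  -- hu : res f * u = c
  refine ⟨(u : Γ(X, U)) • ε, hg.smul_unit u.isUnit, ?_⟩
  rw [smul_smul, ← hc]
  congr 1
  exact hu.symm

theorem isDivOfIdeal_mul_zeroScheme_tmulHom [IsIntegral X] {L₁ L₂ : X.Modules}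
    (hL₁ : PicF.IsInvertible L₁) (hL₂ : PicF.IsInvertible L₂)
    (s₁ : Coh.structureModule X ⟶ L₁) (s₂ : Coh.structureModule X ⟶ L₂) (hs₁ : s₁ ≠ 0)
    (hs₂ : s₂ ≠ 0) (D₁ D₂ : Mero.Divisor X)
    (hD₁ : Mero.IsDivOfIdeal D₁ (PicF2.zeroScheme L₁ s₁))
    (hD₂ : Mero.IsDivOfIdeal D₂ (PicF2.zeroScheme L₂ s₂)) :
    Mero.IsDivOfIdeal (D₁ * D₂)
      (PicF2.zeroScheme (CohB1.tensorMod L₁ L₂) (SecTwist.tmulHom s₁ s₂)) := by
  -- local description
  have hloc : ∀ x : X, ∃ (U : X.Opens) (_ : IsAffineOpen U) (_ : x ∈ U) (r₁ r₂ : regSub X U)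
      (ε₁ : Γ(L₁, U)) (ε₂ : Γ(L₂, U)), IsGen L₁ U ε₁ ∧ IsGen L₂ U ε₂ ∧
        sec s₁ U = r₁.1 • ε₁ ∧ sec s₂ U = r₂.1 • ε₂ ∧
        (∀ y : U, D₁.1 y.1 =
          QuotientGroup.mk (IsLocalization.map_units (KStalk X y.1) (regGerm y r₁)).unit) ∧
        (∀ y : U, D₂.1 y.1 =
          QuotientGroup.mk (IsLocalization.map_units (KStalk X y.1) (regGerm y r₂)).unit) := by
    intro x
    obtain ⟨U₁, hxU₁, f₁, hf₁, hI₁, hcl₁⟩ := hD₁ x
    obtain ⟨U₂, hxU₂, f₂, hf₂, hI₂, hcl₂⟩ := hD₂ x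
    obtain ⟨U', ε₁', -, hxU', hU'le, hg₁'⟩ := exists_affine_isGen_le hL₁ x (U₁.1 ⊓ U₂.1)
      (Opens.mem_inf.mpr ⟨hxU₁, hxU₂⟩)
    obtain ⟨U, ε₂', hU, hxU, hUle, hg₂'⟩ := exists_affine_isGen_le hL₂ x U' hxU'
    have hUU₁ : U ≤ U₁.1 := hUle.trans (hU'le.trans inf_le_left)
    have hUU₂ : U ≤ U₂.1 := hUle.trans (hU'le.trans inf_le_right)
    obtain ⟨ε₁, hg₁, hc₁⟩ := exists_gen_of_ideal_eq_span hL₁ hs₁ hI₁ hU hUU₁ hxU (hg₁'.mono hUle)
    obtain ⟨ε₂, hg₂, hc₂⟩ := exists_gen_of_ideal_eq_span hL₂ hs₂ hI₂ hU hUU₂ hxU hg₂'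
    refine ⟨U, hU, hxU, ⟨rres X hUU₁ f₁, regSub_res (homOfLE hUU₁) hf₁⟩,
      ⟨rres X hUU₂ f₂, regSub_res (homOfLE hUU₂) hf₂⟩, ε₁, ε₂, hg₁, hg₂, hc₁, hc₂, ?_, ?_⟩
    · intro y
      refine (hcl₁ ⟨y.1, hUU₁ y.2⟩).trans (congrArg _ (Units.ext ?_))
      show algebraMap _ (KStalk X y.1) (X.presheaf.germ U₁.1 y.1 (hUU₁ y.2) f₁) =
        algebraMap _ (KStalk X y.1) (X.presheaf.germ U y.1 y.2 (rres X hUU₁ f₁))
      rw [TopCat.Presheaf.germ_res_apply]
    · intro y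
      refine (hcl₂ ⟨y.1, hUU₂ y.2⟩).trans (congrArg _ (Units.ext ?_))
      show algebraMap _ (KStalk X y.1) (X.presheaf.germ U₂.1 y.1 (hUU₂ y.2) f₂) =
        algebraMap _ (KStalk X y.1) (X.presheaf.germ U y.1 y.2 (rres X hUU₂ f₂))
      rw [TopCat.Presheaf.germ_res_apply]
  have hsec : ∀ x : X, ∀ (U : X.Opens) (r₁ r₂ : regSub X U) (ε₁ : Γ(L₁, U)) (ε₂ : Γ(L₂, U)),
      sec s₁ U = r₁.1 • ε₁ → sec s₂ U = r₂.1 • ε₂ →
      sec (SecTwist.tmulHom s₁ s₂) U = (r₁.1 * r₂.1) • tm L₁ L₂ U ε₁ ε₂ := by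
    intro x U r₁ r₂ ε₁ ε₂ hc₁ hc₂
    rw [sec_tmulHom, hc₁, hc₂, tm_smul_left, tm_smul_right, smul_smul]
  have hs : SecTwist.tmulHom s₁ s₂ ≠ 0 := by
    intro h0
    obtain ⟨x⟩ : Nonempty X := inferInstance
    obtain ⟨U, hU, hxU, r₁, r₂, ε₁, ε₂, hg₁, hg₂, hc₁, hc₂, -, -⟩ := hloc x
    have h1 : sec (SecTwist.tmulHom s₁ s₂) U = 0 := by
      rw [h0]
      rfl
    rw [hsec x U r₁ r₂ ε₁ ε₂ hc₁ hc₂] at h1
    have h2 : r₁.1 * r₂.1 = 0 := (isGen_tm hg₁ hg₂).self.eq_zero h1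
    have h3 := (r₁ * r₂).2 ⟨x, hxU⟩
    have h4 : X.presheaf.germ U x hxU (r₁ * r₂ : regSub X U).1 = 0 := by
      show X.presheaf.germ U x hxU (r₁.1 * r₂.1) = 0
      rw [h2, map_zero]
    exact zero_notMem_nonZeroDivisors (h4 ▸ h3)
  intro x
  obtain ⟨U, hU, hxU, r₁, r₂, ε₁, ε₂, hg₁, hg₂, hc₁, hc₂, hcl₁, hcl₂⟩ := hloc x
  refine ⟨⟨U, hU⟩, hxU, r₁.1 * r₂.1, (r₁ * r₂).2,
    zeroScheme_ideal_eq_span (isInvertible_tensorMod hL₁ hL₂) hs hU (isGen_tm hg₁ hg₂)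
      (hsec x U r₁ r₂ ε₁ ε₂ hc₁ hc₂), fun y => ?_⟩
  show D₁.1 y.1 * D₂.1 y.1 = _
  rw [hcl₁ y, hcl₂ y, ← QuotientGroup.mk_mul]
  refine congrArg _ (Units.ext ?_)
  show algebraMap _ (KStalk X y.1) (X.presheaf.germ U y.1 y.2 r₁.1) *
    algebraMap _ (KStalk X y.1) (X.presheaf.germ U y.1 y.2 r₂.1) =
    algebraMap _ (KStalk X y.1) (X.presheaf.germ U y.1 y.2 (r₁.1 * r₂.1))
  rw [map_mul, map_mul]

/-! ### Equality of zero schemes -/

theorem zeroIdealOn_le_of_smul {L : X.Modules} {s s' : Coh.structureModule X ⟶ L}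
    {U : X.Opens} (r : Γ(X, U)) (h : sec s' U = r • sec s U) :
    PicF2.zeroIdealOn L s' U ≤ PicF2.zeroIdealOn L s U := by
  intro a ha m
  obtain ⟨b, hb⟩ : ∃ b : Γ(X, U), a • m = b • sec s' U := ha m
  exact ⟨b * r, by rw [hb, h, smul_smul]; rfl⟩

theorem zeroScheme_eq_iff [IsIntegral X] {L : X.Modules} (hL : PicF.IsInvertible L)
    (s s' : Coh.structureModule X ⟶ L) (hs : s ≠ 0) (hs' : s' ≠ 0) :
    PicF2.zeroScheme L s' = PicF2.zeroScheme L s ↔
      ∃ h : Γ(X, ⊤), IsUnit h ∧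
        (SecTwist.val s' ⊤ : Γ(L, ⊤)) = h • (SecTwist.val s ⊤ : Γ(L, ⊤)) := by
  constructor
  · intro heq
    -- local units
    have hloc : ∀ x : X, ∃ (U : X.Opens) (_ : x ∈ U) (u : Γ(X, U)), IsUnit u ∧
        sec s' U = u • sec s U := by
      intro x
      obtain ⟨U, ε, hU, hxU, hg⟩ := exists_affine_isGen hL x
      obtain ⟨c, hc⟩ := hg.self.exists_coord (sec s U)
      obtain ⟨c', hc'⟩ := hg.self.exists_coord (sec s' U)
      have h1 := zeroScheme_ideal_eq_span hL hs hU hg hc.symm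
      have h2 := zeroScheme_ideal_eq_span hL hs' hU hg hc'.symm
      rw [heq, h1] at h2
      haveI : Nonempty U := ⟨⟨x, hxU⟩⟩
      obtain ⟨u, hu⟩ := Ideal.span_singleton_eq_span_singleton.mp h2
      refine ⟨U, hxU, (u : Γ(X, U)), u.isUnit, ?_⟩
      rw [← hc', ← hc, smul_smul, ← hu, mul_comm]
    choose U hxU u hu hsec using hloc
    have hcompat : ∀ i j : X, rres X (inf_le_left : U i ⊓ U j ≤ U i) (u i) =
        rres X (inf_le_right : U i ⊓ U j ≤ U j) (u j) := by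
      intro i j
      have e1 : sec s' (U i ⊓ U j) = rres X (inf_le_left : U i ⊓ U j ≤ U i) (u i) •
          sec s (U i ⊓ U j) := by
        rw [← res_sec s' (inf_le_left : U i ⊓ U j ≤ U i), hsec i, res_smul, res_sec]
      have e2 : sec s' (U i ⊓ U j) = rres X (inf_le_right : U i ⊓ U j ≤ U j) (u j) •
          sec s (U i ⊓ U j) := by
        rw [← res_sec s' (inf_le_right : U i ⊓ U j ≤ U j), hsec j, res_smul, res_sec]
      have h1 : (rres X (inf_le_left : U i ⊓ U j ≤ U i) (u i) -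
          rres X (inf_le_right : U i ⊓ U j ≤ U j) (u j)) • sec s (U i ⊓ U j) = 0 := by
        rw [sub_smul, ← e1, ← e2, sub_self]
      exact sub_eq_zero.mp (smul_sec_eq_zero hL hs _ h1)
    have hcov : (⊤ : X.Opens) ≤ ⨆ i, U i := fun y _ => Opens.mem_iSup.mpr ⟨y, hxU y⟩
    obtain ⟨h, hh⟩ := fun_glue U ⊤ (fun _ => le_top) hcov u hcompat
    refine ⟨h, ?_, ?_⟩
    · apply X.toRingedSpace.isUnit_of_isUnit_germ ⊤ h
      intro y hy
      have h1 : X.presheaf.germ ⊤ y hy h = X.presheaf.germ (U y) y (hxU y) (u y) := by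
        rw [← hh y]
        exact (TopCat.Presheaf.germ_res_apply X.presheaf (homOfLE le_top) y (hxU y) h).symm
      rw [h1]
      exact (hu y).map _
    · refine sec_eq_of_locally_eq L U ⊤ (fun _ => le_top) hcov _ _ (fun i => ?_)
      show res L le_top (sec s' ⊤) = res L le_top (h • sec s ⊤)
      rw [res_sec, res_smul, res_sec, hh i, hsec i]
  · rintro ⟨h, hh, hsec⟩
    obtain ⟨h', hh'⟩ := hh.exists_left_inv
    have hsec₁ : sec s' ⊤ = h • sec s ⊤ := hsec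
    have hsec₂ : sec s ⊤ = h' • sec s' ⊤ := by rw [hsec₁, smul_smul, hh', one_smul]
    have h1 : ∀ V : X.Opens, sec s' V = rres X le_top h • sec s V := fun V => by
      rw [← res_sec s' (le_top : V ≤ ⊤), hsec₁, res_smul, res_sec]
    have h2 : ∀ V : X.Opens, sec s V = rres X le_top h' • sec s' V := fun V => by
      rw [← res_sec s (le_top : V ≤ ⊤), hsec₂, res_smul, res_sec]
    unfold PicF2.zeroScheme
    congr 1
    funext V
    exact le_antisymm (zeroIdealOn_le_of_smul _ (h1 V.1)) (zeroIdealOn_le_of_smul _ (h2 V.1))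

end H16Mero
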